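import Mathlib

/-!
# The automorphisms of a path (helper8)
-/

set_option autoImplicit false

namespace Cfsg.Agent.Lib.Helper8.AutSp

/-- adjacency in the path on `Fin m` -/
def PAdj {m : ℕ} (i j : Fin m) : Prop := (i : ℕ) + 1 = j ∨ (j : ℕ) + 1 = i

theorem path_aut_fix {m : ℕ} (ρ : Equiv.Perm (Fin m))
    (h : ∀ i j : Fin m, PAdj (ρ i) (ρ j) ↔ PAdj i j)
    (h0 : ∀ hm : 0 < m, ((ρ ⟨0, hm⟩ : Fin m) : ℕ) = 0) : ρ = 1 := by
  have key : ∀ k : ℕ, ∀ hk : k < m, ((ρ ⟨k, hk⟩ : Fin m) : ℕ) = k := by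
    intro k
    induction k using Nat.strong_induction_on with
    | _ k ih =>
      intro hk
      rcases Nat.eq_zero_or_pos k with rfl | hpos
      · exact h0 hk
      · obtain ⟨l, rfl⟩ : ∃ l, k = l + 1 := ⟨k - 1, by omega⟩
        have hl : l < m := by omega
        have hadj : PAdj (⟨l, hl⟩ : Fin m) ⟨l + 1, hk⟩ := Or.inl rfl
        have h1 := (h ⟨l, hl⟩ ⟨l + 1, hk⟩).2 hadj
        have h2 := ih l (by omega) hl
        rcases h1 with h1 | h1
        · rw [h2] at h1
          exact h1.symm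
        · rw [h2] at h1
          -- `ρ (l + 1) = l - 1`, which is `ρ (l - 1)`
          exfalso
          have hl1 : 1 ≤ l := by omega
          have h3 := ih (l - 1) (by omega) (by omega)
          have h4 : ρ ⟨l - 1, by omega⟩ = ρ ⟨l + 1, hk⟩ := by
            apply Fin.ext
            rw [h3]
            omega
          have := congrArg Fin.val (ρ.injective h4)
          simp only at this
          omega
  ext i
  rw [Equiv.Perm.one_apply]
  exact key i i.2

theorem pAdj_rev {m : ℕ} (i j : Fin m) : PAdj i.rev j.rev ↔ PAdj i j := by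
  unfold PAdj
  rw [Fin.val_rev, Fin.val_rev]
  have := i.2
  have := j.2
  omega

/-- an automorphism of the path is the identity or the reversal -/
theorem path_aut {m : ℕ} (ρ : Equiv.Perm (Fin m))
    (h : ∀ i j : Fin m, PAdj (ρ i) (ρ j) ↔ PAdj i j) : ρ = 1 ∨ ρ = Fin.revPerm := by
  rcases Nat.eq_zero_or_pos m with rfl | hm
  · left
    ext i
    exact i.elim0
  obtain ⟨a, ha⟩ : ∃ a : Fin m, a = ρ ⟨0, hm⟩ := ⟨_, rfl⟩
  have hcases : (a : ℕ) = 0 ∨ (a : ℕ) = m - 1 := by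
    by_contra hcon
    push Not at hcon
    obtain ⟨hc1, hc2⟩ := hcon
    have ha2 := a.2
    obtain ⟨i₁, hi₁⟩ : ∃ i₁ : Fin m, ρ i₁ = ⟨a - 1, by omega⟩ :=
      ⟨ρ⁻¹ ⟨a - 1, by omega⟩, by simp⟩
    obtain ⟨i₂, hi₂⟩ : ∃ i₂ : Fin m, ρ i₂ = ⟨a + 1, by omega⟩ :=
      ⟨ρ⁻¹ ⟨a + 1, by omega⟩, by simp⟩
    have h1 : PAdj (ρ ⟨0, hm⟩) (ρ i₁) := by
      rw [← ha, hi₁]
      right
      show (a : ℕ) - 1 + 1 = a
      omega
    have h2 : PAdj (ρ ⟨0, hm⟩) (ρ i₂) := by
      rw [← ha, hi₂]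
      left
      rfl
    have h1' := (h _ _).1 h1
    have h2' := (h _ _).1 h2
    have e1 : (i₁ : ℕ) = 1 := by
      rcases h1' with h | h
      · exact h.symm
      · simp at h
    have e2 : (i₂ : ℕ) = 1 := by
      rcases h2' with h | h
      · exact h.symm
      · simp at h
    have : i₁ = i₂ := Fin.ext (e1.trans e2.symm)
    rw [this, hi₂] at hi₁
    have := congrArg Fin.val hi₁
    simp at this
    omega
  rcases hcases with h0 | h0
  · left
    apply path_aut_fix ρ h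
    intro _
    rw [← ha]
    exact h0
  · right
    have h' : ∀ i j : Fin m, PAdj (((Fin.revPerm : Equiv.Perm (Fin m)) * ρ) i)
        (((Fin.revPerm : Equiv.Perm (Fin m)) * ρ) j) ↔ PAdj i j := by
      intro i j
      rw [Equiv.Perm.mul_apply, Equiv.Perm.mul_apply, Fin.revPerm_apply, Fin.revPerm_apply,
        pAdj_rev]
      exact h i j
    have h1 := path_aut_fix ((Fin.revPerm : Equiv.Perm (Fin m)) * ρ) h' (by
      intro _
      rw [Equiv.Perm.mul_apply, Fin.revPerm_apply, Fin.val_rev, ← ha, h0]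
      omega)
    have h2 : ρ = (Fin.revPerm : Equiv.Perm (Fin m))⁻¹ := eq_inv_of_mul_eq_one_right h1
    rw [h2]
    ext i
    rw [Equiv.Perm.inv_def, Fin.revPerm_symm]

end Cfsg.Agent.Lib.Helper8.AutSp
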