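import Cfsg.Agent.Lib.Helper5.AutBN.Core
import Mathlib

/-!
# Pushing a `(B, N)`-pair along a surjection with kernel inside `B` (helper8)

and the normal form of the automorphisms of the quotient.
-/

set_option autoImplicit false

namespace Cfsg.Agent.Lib.Helper8.AutSp

open Cfsg Cfsg.Agent.Lib.Helper5.AutBN Cfsg.Agent.Lib.Helper5.BN DoubleCoset

variable {G H : Type*} [Group G] [Group H]

theorem map_mem_map_iff {f : G →* H} {K : Subgroup G} (hK : f.ker ≤ K) {g : G} :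
    f g ∈ K.map f ↔ g ∈ K := by
  rw [← Subgroup.mem_comap, Subgroup.comap_map_eq_self hK]

theorem map_inf_of_ker_le {f : G →* H} {K : Subgroup G} (hK : f.ker ≤ K) (L : Subgroup G) :
    (K ⊓ L).map f = K.map f ⊓ L.map f := by
  apply le_antisymm (Subgroup.map_inf_le _ _ _)
  rintro y ⟨hy1, hy2⟩
  obtain ⟨l, hl, rfl⟩ := Subgroup.mem_map.1 hy2
  exact Subgroup.mem_map.2 ⟨l, ⟨(map_mem_map_iff hK).1 hy1, hl⟩, rfl⟩

theorem cj_map (f : G →* H) (g : G) (K : Subgroup G) : cj (f g) (K.map f) = (cj g K).map f := by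
  ext y
  rw [mem_cj, Subgroup.mem_map, Subgroup.mem_map]
  constructor
  · rintro ⟨k, hk, e⟩
    refine ⟨g * k * g⁻¹, ?_, ?_⟩
    · rw [mem_cj]
      have : g⁻¹ * (g * k * g⁻¹) * g = k := by group
      rwa [this]
    · rw [map_mul, map_mul, map_inv, e]
      group
  · rintro ⟨x, hx, rfl⟩
    rw [mem_cj] at hx
    exact ⟨_, hx, by rw [map_mul, map_mul, map_inv]⟩

/-- the image of a `(B, N)`-pair under a surjection whose kernel lies in `B` -/
def pushBN (P : BNPair G) (f : G →* H) (hf : Function.Surjective f) (hker : f.ker ≤ P.B) :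
    BNPair H where
  B := P.B.map f
  N := P.N.map f
  S := f '' P.S
  sup_eq_top := by
    rw [← Subgroup.map_sup, P.sup_eq_top, Subgroup.map_top_of_surjective f hf]
  conj_mem := by
    rintro _ ⟨n, hn, rfl⟩ _ ⟨ht1, ⟨t, ht, rfl⟩⟩
    have htB : t ∈ P.B := (map_mem_map_iff hker).1 ht1
    exact ⟨n * t * n⁻¹, P.conj_mem n hn t ⟨htB, ht⟩, by rw [map_mul, map_mul, map_inv]⟩
  subset := by
    rintro _ ⟨s, hs, rfl⟩
    exact Subgroup.mem_map_of_mem f (P.subset hs)
  sq_mem := by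
    rintro _ ⟨s, hs, rfl⟩
    exact ⟨s * s, P.sq_mem s hs, by rw [map_mul]⟩
  inj := by
    rintro _ ⟨s, hs, rfl⟩ _ ⟨s', hs', rfl⟩ h
    have : s⁻¹ * s' ∈ P.B := by
      apply (map_mem_map_iff hker).1
      rw [map_mul, map_inv]
      exact h
    rw [P.inj s hs s' hs' this]
  closure_sup := by
    rw [← MonoidHom.map_closure, ← map_inf_of_ker_le hker, ← Subgroup.map_sup, P.closure_sup]
  mul_mem_union := by
    rintro _ ⟨s, hs, rfl⟩ _ ⟨n, hn, rfl⟩ _ ⟨b, hb, rfl⟩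
    rcases P.mul_mem_union s hs n hn b hb with h | h
    · left
      obtain ⟨x, hx, y, hy, e⟩ := mem_doubleCoset.1 h
      refine mem_doubleCoset.2 ⟨f x, Subgroup.mem_map_of_mem f hx, f y,
        Subgroup.mem_map_of_mem f hy, ?_⟩
      rw [← map_mul, ← map_mul, ← map_mul, ← map_mul, ← map_mul, e]
    · right
      obtain ⟨x, hx, y, hy, e⟩ := mem_doubleCoset.1 h
      refine mem_doubleCoset.2 ⟨f x, Subgroup.mem_map_of_mem f hx, f y,
        Subgroup.mem_map_of_mem f hy, ?_⟩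
      rw [← map_mul, ← map_mul, ← map_mul, ← map_mul, e]
  conj_ne := by
    rintro _ ⟨s, hs, rfl⟩ hcon
    apply P.conj_ne s hs
    apply Set.eq_of_subset_of_subset
    · rintro _ ⟨b, hb, rfl⟩
      have h1 : f s * f b * f s ∈ (fun b : H => f s * b * f s) '' ((P.B.map f : Subgroup H) : Set H) :=
        ⟨f b, Subgroup.mem_map_of_mem f hb, rfl⟩
      rw [hcon] at h1
      have h2 : f (s * b * s) ∈ P.B.map f := by
        rw [map_mul, map_mul]; exact h1
      exact (map_mem_map_iff hker).1 h2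
    · intro b' hb'
      have h1 : f b' ∈ ((P.B.map f : Subgroup H) : Set H) := Subgroup.mem_map_of_mem f hb'
      rw [← hcon] at h1
      obtain ⟨y, hy, e⟩ := h1
      obtain ⟨b, hb, rfl⟩ := Subgroup.mem_map.1 hy
      have hk : (s * b * s)⁻¹ * b' ∈ f.ker := by
        rw [MonoidHom.mem_ker, map_mul, map_inv, map_mul, map_mul]
        have e' : f s * f b * f s = f b' := e
        rw [e', inv_mul_cancel]
      have hk' : s * ((s * b * s)⁻¹ * b') * s⁻¹ ∈ f.ker :=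
        (MonoidHom.normal_ker f).conj_mem _ hk s
      refine ⟨b * (s * ((s * b * s)⁻¹ * b') * s⁻¹), mul_mem hb (hker hk'), ?_⟩
      show s * (b * (s * ((s * b * s)⁻¹ * b') * s⁻¹)) * s = b'
      group

theorem pushBN_B (P : BNPair G) (f : G →* H) (hf : Function.Surjective f) (hker : f.ker ≤ P.B) :
    (pushBN P f hf hker).B = P.B.map f := rfl

theorem pushBN_S (P : BNPair G) (f : G →* H) (hf : Function.Surjective f) (hker : f.ker ≤ P.B) :
    (pushBN P f hf hker).S = f '' P.S := rfl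

theorem pushBN_parabolic (P : BNPair G) (f : G →* H) (hf : Function.Surjective f)
    (hker : f.ker ≤ P.B) (J : Set G) :
    (pushBN P f hf hker).parabolic (f '' J) = (P.parabolic J).map f := by
  unfold BNPair.parabolic
  rw [Subgroup.map_sup, MonoidHom.map_closure]
  rfl

/-- in a split `(B, N)`-pair the normalizer of `U` is `B` -/
theorem normalizer_eq_B (P : BNPair G) (U : Subgroup G)
    (hUn : ∀ b ∈ P.B, ∀ u ∈ U, b * u * b⁻¹ ∈ U) (hUB : U ≤ P.B)
    (hdec : ∀ b ∈ P.B, ∃ t ∈ P.B ⊓ P.N, ∃ u ∈ U, b = t * u) :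
    Subgroup.normalizer (U : Set G) = P.B := by
  have hBM : P.B ≤ Subgroup.normalizer (U : Set G) := by
    intro b hb
    rw [Subgroup.mem_normalizer_iff]
    intro u
    constructor
    · exact hUn b hb u
    · intro h
      have := hUn b⁻¹ (inv_mem hb) _ h
      have e : b⁻¹ * (b * u * b⁻¹) * b⁻¹⁻¹ = u := by group
      rwa [e] at this
  have key : ∀ s : G, s ∈ P.N → s ∈ Subgroup.normalizer (U : Set G) → ∀ b ∈ P.B,
      s * b * s⁻¹ ∈ P.B := by
    intro s hsN hsM b hb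
    obtain ⟨t, ht, u, hu, rfl⟩ := hdec b hb
    have e : s * (t * u) * s⁻¹ = (s * t * s⁻¹) * (s * u * s⁻¹) := by group
    rw [e]
    exact mul_mem (P.conj_mem s hsN t ht) (hUB ((Subgroup.mem_normalizer_iff.1 hsM u).1 hu))
  rw [eq_parabolic_of_le P _ hBM]
  have hempty : {s | s ∈ P.S ∧ s ∈ Subgroup.normalizer (U : Set G)} = (∅ : Set G) := by
    rw [Set.eq_empty_iff_forall_notMem]
    rintro s ⟨hs, hsM⟩
    apply P.conj_ne s hs
    apply Set.eq_of_subset_of_subset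
    · rintro _ ⟨b, hb, rfl⟩
      have e : s * b * s = (s * b * s⁻¹) * (s * s) := by group
      show s * b * s ∈ P.B
      rw [e]
      exact mul_mem (key s (P.subset hs) hsM b hb) (P.sq_mem s hs)
    · intro b' hb'
      refine ⟨s⁻¹ * (b' * (s * s)⁻¹) * s⁻¹⁻¹, ?_, ?_⟩
      · exact key s⁻¹ (inv_mem (P.subset hs)) (inv_mem hsM) _
          (mul_mem hb' (inv_mem (P.sq_mem s hs)))
      · show s * (s⁻¹ * (b' * (s * s)⁻¹) * s⁻¹⁻¹) * s = b'
        group
  rw [hempty, parabolic_empty]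

/-- **The normal form of an automorphism of the quotient of a group with a split `(B, N)`-pair
by a normal subgroup contained in `B` and meeting `U` trivially.** -/
theorem exists_normal_form_push [Finite G] [Finite H] (P : BNPair G) (f : G →* H)
    (hf : Function.Surjective f) (hker : f.ker ≤ P.B) (p : ℕ) [Fact p.Prime] {ι : Type*}
    (s : ι → G) (U V : Subgroup G) (n0 : G) (Xp Xm : ι → Subgroup G)
    (hinj : Function.Injective s) (hS : Set.range s = P.S)
    (hUp : IsPGroup p U) (hidx : ¬ p ∣ U.index)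
    (hUn : ∀ b ∈ P.B, ∀ u ∈ U, b * u * b⁻¹ ∈ U) (hUB : U ≤ P.B)
    (hdec : ∀ b ∈ P.B, ∃ t ∈ P.B ⊓ P.N, ∃ u ∈ U, b = t * u)
    (hUk : U ⊓ f.ker = ⊥)
    (hUV : cj n0 U = V) (hVU : cj n0 V = U)
    (hBV : P.B ⊓ V = ⊥)
    (hopp : ∀ g : G, cj g U ⊓ P.B = ⊥ → ∃ b ∈ P.B, cj g U = cj b V)
    (hXm : ∀ i, Xm i = P.parabolic {s i} ⊓ V)
    (hXp : ∀ i, Xp i = cj n0 (Xm i))
    (hcomm : ∀ i j, i ≠ j → ∀ x ∈ Xp i, ∀ y ∈ Xm j, x * y = y * x)
    (hncomm : ∀ i, ∃ x ∈ Xp i, ∃ y ∈ Xm i, f (x * y) ≠ f (y * x))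
    (θ : H ≃* H) :
    ∃ (x : H) (ρ : Equiv.Perm ι),
      (U.map f).map (θ.trans (MulAut.conj x⁻¹)).toMonoidHom = U.map f ∧
      (V.map f).map (θ.trans (MulAut.conj x⁻¹)).toMonoidHom = V.map f ∧
      (P.B.map f).map (θ.trans (MulAut.conj x⁻¹)).toMonoidHom = P.B.map f ∧
      (∀ J : Set ι, ((P.parabolic (s '' J)).map f).map (θ.trans (MulAut.conj x⁻¹)).toMonoidHom
        = (P.parabolic (s '' (ρ '' J))).map f) ∧
      (∀ i, ((Xp i).map f).map (θ.trans (MulAut.conj x⁻¹)).toMonoidHom = (Xp (ρ i)).map f) ∧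
      (∀ i, ((Xm i).map f).map (θ.trans (MulAut.conj x⁻¹)).toMonoidHom = (Xm (ρ i)).map f) := by
  have hinj' : Function.Injective (fun i => f (s i)) := by
    intro i j h
    have hi : s i ∈ P.S := by rw [← hS]; exact ⟨i, rfl⟩
    have hj : s j ∈ P.S := by rw [← hS]; exact ⟨j, rfl⟩
    have : (s i)⁻¹ * s j ∈ P.B := by
      apply hker
      rw [MonoidHom.mem_ker, map_mul, map_inv]
      have h' : f (s i) = f (s j) := h
      rw [h', inv_mul_cancel]
    exact hinj (P.inj _ hi _ hj this)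
  have hS' : Set.range (fun i => f (s i)) = (pushBN P f hf hker).S := by
    rw [pushBN_S, ← hS]
    ext y
    constructor
    · rintro ⟨i, rfl⟩
      exact ⟨s i, ⟨i, rfl⟩, rfl⟩
    · rintro ⟨_, ⟨i, rfl⟩, rfl⟩
      exact ⟨i, rfl⟩
  have hidx' : ¬ p ∣ (U.map f).index := by
    rw [Subgroup.index_map, MonoidHom.range_eq_top.2 hf, Subgroup.index_top, mul_one]
    intro h
    exact hidx (dvd_trans h (Subgroup.index_dvd_of_le le_sup_left))
  have hnorm' : Subgroup.normalizer ((U.map f : Subgroup H) : Set H) = (pushBN P f hf hker).B := by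
    apply normalizer_eq_B (pushBN P f hf hker) (U.map f)
    · rintro _ ⟨b, hb, rfl⟩ _ ⟨u, hu, rfl⟩
      exact ⟨b * u * b⁻¹, hUn b hb u hu, by rw [map_mul, map_mul, map_inv]⟩
    · exact Subgroup.map_mono hUB
    · rintro _ ⟨b, hb, rfl⟩
      obtain ⟨t, ht, u, hu, rfl⟩ := hdec b hb
      refine ⟨f t, ⟨Subgroup.mem_map_of_mem f ht.1, Subgroup.mem_map_of_mem f ht.2⟩, f u,
        Subgroup.mem_map_of_mem f hu, map_mul f t u⟩
  have hUV' : cj (f n0) (U.map f) = V.map f := by rw [cj_map, hUV]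
  have hVU' : cj (f n0) (V.map f) = U.map f := by rw [cj_map, hVU]
  have hBV' : (pushBN P f hf hker).B ⊓ V.map f = ⊥ := by
    rw [pushBN_B, ← map_inf_of_ker_le hker, hBV, Subgroup.map_bot]
  have hopp' : ∀ g : H, cj g (U.map f) ⊓ (pushBN P f hf hker).B = ⊥ →
      ∃ b ∈ (pushBN P f hf hker).B, cj g (U.map f) = cj b (V.map f) := by
    intro g' hg'
    obtain ⟨g, rfl⟩ := hf g'
    rw [cj_map, pushBN_B, inf_comm, ← map_inf_of_ker_le hker] at hg'
    have h1 : cj g U ⊓ P.B = ⊥ := by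
      rw [eq_bot_iff]
      rintro x ⟨hxU, hxB⟩
      have hx1 : f x ∈ (P.B ⊓ cj g U).map f := Subgroup.mem_map_of_mem f ⟨hxB, hxU⟩
      rw [hg', Subgroup.mem_bot] at hx1
      have hxk : x ∈ f.ker := hx1
      have hxk' : g⁻¹ * x * g⁻¹⁻¹ ∈ f.ker := (MonoidHom.normal_ker f).conj_mem _ hxk g⁻¹
      rw [inv_inv] at hxk'
      have : g⁻¹ * x * g ∈ U ⊓ f.ker := ⟨mem_cj.1 hxU, hxk'⟩
      rw [hUk, Subgroup.mem_bot] at this
      rw [Subgroup.mem_bot]
      have e : x = g * (g⁻¹ * x * g) * g⁻¹ := by group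
      rw [e, this]
      group
    obtain ⟨b, hb, hbV⟩ := hopp g h1
    exact ⟨f b, Subgroup.mem_map_of_mem f hb, by rw [cj_map, cj_map, hbV]⟩
  have hXm' : ∀ i, (Xm i).map f = (pushBN P f hf hker).parabolic {f (s i)} ⊓ V.map f := by
    intro i
    have : ({f (s i)} : Set H) = f '' {s i} := by rw [Set.image_singleton]
    rw [this, pushBN_parabolic, hXm i,
      map_inf_of_ker_le (le_trans hker (B_le_parabolic P _))]
  have hopp1 : ∀ i, ∃ j, cj (f n0) ((Xm j).map f) = (Xp i).map f := by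
    intro i
    exact ⟨i, by rw [cj_map, ← hXp i]⟩
  have hopp2 : ∀ j, ∃ i, cj (f n0) ((Xm j).map f) = (Xp i).map f := by
    intro i
    exact ⟨i, by rw [cj_map, ← hXp i]⟩
  have hcomm' : ∀ i j, i ≠ j → ∀ x ∈ (Xp i).map f, ∀ y ∈ (Xm j).map f, x * y = y * x := by
    rintro i j hij _ ⟨x, hx, rfl⟩ _ ⟨y, hy, rfl⟩
    rw [← map_mul, ← map_mul, hcomm i j hij x hx y hy]
  have hncomm' : ∀ i, ∃ x ∈ (Xp i).map f, ∃ y ∈ (Xm i).map f, x * y ≠ y * x := by
    intro i
    obtain ⟨x, hx, y, hy, hxy⟩ := hncomm i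
    refine ⟨f x, Subgroup.mem_map_of_mem f hx, f y, Subgroup.mem_map_of_mem f hy, ?_⟩
    rw [← map_mul, ← map_mul]
    exact hxy
  obtain ⟨x, ρ, h1, h2, h3, h4, h5, h6⟩ := exists_normal_form (pushBN P f hf hker) p
    (fun i => f (s i)) (U.map f) (V.map f) (f n0) (fun i => (Xp i).map f) (fun i => (Xm i).map f)
    hinj' hS' (hUp.map f) hidx' hnorm' hUV' hVU' hBV' hopp' hXm' hopp1 hopp2 hcomm' hncomm' θ
  refine ⟨x, ρ, h1, h2, h3, ?_, h5, h6⟩
  intro J
  have e1 : (fun i => f (s i)) '' J = f '' (s '' J) := by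
    rw [Set.image_image (g := f) (f := s)]
  have e2 : (fun i => f (s i)) '' (ρ '' J) = f '' (s '' (ρ '' J)) := by
    rw [Set.image_image (g := f) (f := s)]
  have := h4 J
  rw [e1, e2, pushBN_parabolic, pushBN_parabolic] at this
  exact this

end Cfsg.Agent.Lib.Helper8.AutSp
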