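import Mathlib
import Cfsg.Prelude.Def_Solvable
import Cfsg.Agent.H1.Cores

/-!
# Local balance for `PSp` (S2730), part A: generic plumbing (helper8)

Centralisers of an automorphism `x` inside a group `A` of automorphisms containing the inner ones,
the inner automorphisms by fixed points of `x`, and the image of `O_{p'}` of a subgroup.
-/

set_option autoImplicit false

namespace Cfsg.Agent.Lib.Helper8.AutSp

open Cfsg

section generic

variable {G : Type*} [Group G]

theorem aut_mul_conj_mul_inv (x : MulAut G) (k : G) :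
    x * MulAut.conj k * x⁻¹ = MulAut.conj (x k) := by
  ext g
  simp only [MulAut.mul_apply, MulAut.conj_apply, MulAut.inv_apply, map_mul, map_inv,
    MulEquiv.apply_symm_apply]

theorem conj_injective_of_center (hZ : Subgroup.center G = ⊥) :
    Function.Injective (MulAut.conj : G →* MulAut G) := by
  rw [injective_iff_map_eq_one]
  intro g hg
  have : g ∈ Subgroup.center G := by
    rw [Subgroup.mem_center_iff]
    intro x
    have := DFunLike.congr_fun hg x
    rw [MulAut.conj_apply, MulAut.one_apply] at this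
    calc x * g = (g * x * g⁻¹) * g := by rw [this]
      _ = g * x := by group
  rw [hZ, Subgroup.mem_bot] at this
  exact this

/-- the subgroup of fixed points of an automorphism -/
abbrev fixG (x : MulAut G) : Subgroup G := MonoidHom.eqLocus x.toMonoidHom (MonoidHom.id G)

theorem mem_fixG (x : MulAut G) (k : G) : k ∈ fixG x ↔ x k = k := Iff.rfl

theorem conj_mem_centralizer_iff (hZ : Subgroup.center G = ⊥) (x : MulAut G) (k : G) :
    MulAut.conj k ∈ Subgroup.centralizer {x} ↔ x k = k := by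
  rw [Subgroup.mem_centralizer_iff]
  constructor
  · intro h
    have h1 := h x rfl
    apply conj_injective_of_center hZ
    rw [← aut_mul_conj_mul_inv, h1, mul_inv_cancel_right]
  · intro h y hy
    rw [Set.mem_singleton_iff] at hy
    subst hy
    have := aut_mul_conj_mul_inv y k
    rw [h] at this
    calc y * MulAut.conj k = (y * MulAut.conj k * y⁻¹) * y := by group
      _ = MulAut.conj k * y := by rw [this]

/-- the inner automorphisms by fixed points of `x` -/
def innFix (x : MulAut G) : Subgroup (MulAut G) := (fixG x).map MulAut.conj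

theorem mem_innFix (x n : MulAut G) : n ∈ innFix x ↔ ∃ k, x k = k ∧ MulAut.conj k = n := by
  unfold innFix
  rw [Subgroup.mem_map]
  constructor
  · rintro ⟨k, hk, rfl⟩
    exact ⟨k, hk, rfl⟩
  · rintro ⟨k, hk, rfl⟩
    exact ⟨k, hk, rfl⟩

theorem card_innFix (hZ : Subgroup.center G = ⊥) (x : MulAut G) :
    Nat.card ↥(innFix x) = Nat.card ↥(fixG x) :=
  Subgroup.card_map_of_injective (conj_injective_of_center hZ)

theorem innFix_le_centralizer (hZ : Subgroup.center G = ⊥) (x : MulAut G) :
    innFix x ≤ Subgroup.centralizer {x} := by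
  intro n hn
  obtain ⟨k, hk, rfl⟩ := (mem_innFix x n).1 hn
  exact (conj_mem_centralizer_iff hZ x k).2 hk

theorem comm_of_mem_centralizer {x c : MulAut G} (hc : c ∈ Subgroup.centralizer {x}) :
    x * c = c * x :=
  (Subgroup.mem_centralizer_iff.1 hc) x rfl

theorem innFix_conj_mem (x c : MulAut G) (hc : c ∈ Subgroup.centralizer {x}) (n : MulAut G)
    (hn : n ∈ innFix x) : c * n * c⁻¹ ∈ innFix x := by
  obtain ⟨k, hk, rfl⟩ := (mem_innFix x n).1 hn
  rw [aut_mul_conj_mul_inv, mem_innFix]
  refine ⟨c k, ?_, rfl⟩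
  have := DFunLike.congr_fun (comm_of_mem_centralizer hc) k
  rw [MulAut.mul_apply, MulAut.mul_apply, hk] at this
  exact this

theorem innFix_eq_bot_iff (hZ : Subgroup.center G = ⊥) (x : MulAut G) :
    innFix x = ⊥ ↔ fixG x = ⊥ := by
  unfold innFix
  rw [Subgroup.map_eq_bot_iff_of_injective _ (conj_injective_of_center hZ)]

end generic

section cores

variable {X : Type*} [Group X]

/-- a nontrivial subgroup of `C` normalised by `C` with order prime to `p` makes `O_{p'}(C)`
nontrivial -/
theorem pcore_ne_bot_of_normal {p : ℕ} (C N : Subgroup X) (hNC : N ≤ C)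
    (hnorm : ∀ c ∈ C, ∀ n ∈ N, c * n * c⁻¹ ∈ N) (hcop : (Nat.card ↥N).Coprime p)
    (hne : N ≠ ⊥) : Cfsg.pPrimeCore p ↥C ≠ ⊥ := by
  intro hbot
  have hnormal : (N.subgroupOf C).Normal := by
    constructor
    intro n hn c
    rw [Subgroup.mem_subgroupOf] at hn ⊢
    exact hnorm c.1 c.2 n.1 hn
  have hcard : Nat.card ↥(N.subgroupOf C) = Nat.card ↥N :=
    Nat.card_congr (Subgroup.subgroupOfEquivOfLe hNC).toEquiv
  have hle : N.subgroupOf C ≤ Cfsg.pPrimeCore p ↥C :=
    Cfsg.Agent.H1.le_pPrimeCore hnormal (by rw [hcard]; exact hcop)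
  rw [hbot, le_bot_iff, Subgroup.subgroupOf_eq_bot] at hle
  apply hne
  rw [eq_bot_iff]
  intro n hn
  exact (Subgroup.disjoint_def.1 hle) hn (hNC hn) ▸ Subgroup.mem_bot.2 rfl

/-- the image in `X` of `O_{p'}(C)` -/
noncomputable def coreIm (p : ℕ) (C : Subgroup X) : Subgroup X :=
  (Cfsg.pPrimeCore p ↥C).map C.subtype

theorem coreIm_le (p : ℕ) (C : Subgroup X) : coreIm p C ≤ C := by
  rintro _ ⟨w, -, rfl⟩
  exact w.2

theorem coreIm_conj_mem [Finite X] (p : ℕ) (C : Subgroup X) (c : X) (hc : c ∈ C) (w : X)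
    (hw : w ∈ coreIm p C) : c * w * c⁻¹ ∈ coreIm p C := by
  obtain ⟨w', hw', rfl⟩ := hw
  have hn : (Cfsg.pPrimeCore p ↥C).Normal := Cfsg.Agent.H1.pPrimeCore_normal p
  exact ⟨⟨c, hc⟩ * w' * ⟨c, hc⟩⁻¹, hn.conj_mem w' hw' ⟨c, hc⟩, rfl⟩

theorem coreIm_coprime [Finite X] (p : ℕ) (C : Subgroup X) :
    (Nat.card ↥(coreIm p C)).Coprime p := by
  unfold coreIm
  rw [Subgroup.card_map_of_injective C.subtype_injective]
  exact Cfsg.Agent.H1.pPrimeCore_coprime p

theorem coreIm_eq_bot_iff (p : ℕ) (C : Subgroup X) :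
    coreIm p C = ⊥ ↔ Cfsg.pPrimeCore p ↥C = ⊥ := by
  unfold coreIm
  rw [Subgroup.map_eq_bot_iff_of_injective _ C.subtype_injective]

end cores

section backward

variable {G : Type*} [Group G]

/-- **the easy direction**: the inner automorphisms by fixed points of `x` form a normal
subgroup of `C_A(x)` -/
theorem pcore_ne_bot_of_fix (hZ : Subgroup.center G = ⊥) {p : ℕ} (A : Subgroup (MulAut G))
    (hinn : ∀ k : G, MulAut.conj k ∈ A) (x : MulAut G) (hne : fixG x ≠ ⊥)
    (hcop : Nat.Coprime p (Nat.card ↥(fixG x))) :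
    Cfsg.pPrimeCore p ↥(A ⊓ Subgroup.centralizer {x}) ≠ ⊥ := by
  apply pcore_ne_bot_of_normal (A ⊓ Subgroup.centralizer {x}) (innFix x)
  · intro n hn
    refine ⟨?_, innFix_le_centralizer hZ x hn⟩
    obtain ⟨k, -, rfl⟩ := (mem_innFix x n).1 hn
    exact hinn k
  · intro c hc n hn
    exact innFix_conj_mem x c hc.2 n hn
  · rw [card_innFix hZ]
    exact hcop.symm
  · rw [Ne, innFix_eq_bot_iff hZ]
    exact hne

end backward

end Cfsg.Agent.Lib.Helper8.AutSp
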