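import Mathlib
import Cfsg.Agent.Lib.Helper7.AutPSp.FieldInj
import Cfsg.Agent.Lib.Helper7.AutPSp.Mult
import Cfsg.Agent.S0270
import Cfsg.Agent.S0765
import Cfsg.Agent.S0269

/-!
# Local balance for `PSp` (S2730), part B: the subfield subgroup `Sp_{2m}(F₀)` (helper8)
-/

set_option autoImplicit false

namespace Cfsg.Agent.Lib.Helper8.AutSp

open Matrix Cfsg Cfsg.Agent.Lib.H7AutPSp Cfsg.Agent.Lib.Helper5.Symp
open scoped LinearAlgebra.Projectivization

variable {m : ℕ} {F : Type*} [Field F] {F₀ : Type*} [Field F₀]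

/-- extension of scalars `Sp_{2m}(F₀) → Sp_{2m}(F)` -/
def mapSp (ι : F₀ →+* F) : Spm m F₀ →* Spm m F where
  toFun s := ⟨s.val.map ι, by
    rw [SymplecticGroup.mem_iff]
    have h := SymplecticGroup.mem_iff.1 s.2
    have h2 := congrArg (fun M => M.map ι) h
    simp only [Matrix.map_mul, Matrix.transpose_map, J_map'] at h2
    rw [← Matrix.transpose_map]
    exact h2⟩
  map_one' := by
    apply Subtype.ext
    show (1 : Matrix (Fin m ⊕ Fin m) (Fin m ⊕ Fin m) F₀).map ι = 1
    exact Matrix.map_one ι (map_zero ι) (map_one ι)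
  map_mul' s t := by
    apply Subtype.ext
    show (s.val * t.val).map ι = s.val.map ι * t.val.map ι
    exact Matrix.map_mul

theorem mapSp_val (ι : F₀ →+* F) (s : Spm m F₀) : (mapSp ι s).val = s.val.map ι := rfl

theorem mapSp_injective (ι : F₀ →+* F) : Function.Injective (mapSp (m := m) ι) := by
  intro s t h
  apply Subtype.ext
  have := congrArg Subtype.val h
  rw [mapSp_val, mapSp_val] at this
  exact Matrix.map_injective ι.injective this

/-- the subfield subgroup inside `PSp_{2m}(F)` -/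
noncomputable def jP (ι : F₀ →+* F) : Spm m F₀ →* PSpm m F := prC.comp (mapSp ι)

theorem jP_apply (ι : F₀ →+* F) (s : Spm m F₀) : jP ι s = (prC (mapSp ι s) : PSpm m F) := rfl

/-- the subfield subgroup is fixed by the field automorphism -/
theorem PhSp_jP (σ : RingAut F) (ι : F₀ →+* F) (hι : ∀ s, σ (ι s) = ι s) (s : Spm m F₀) :
    PhSp σ (jP ι s) = (jP ι s : PSpm m F) := by
  rw [jP_apply, PhSp_pr]
  congr 1
  apply Subtype.ext
  rw [fieldSpFun_val, mapSp_val]
  ext i j
  rw [Matrix.map_apply, Matrix.map_apply]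
  exact hι _

/-- the kernel of `Sp_{2m}(F₀) → PSp_{2m}(F)` is central -/
theorem jP_ker_le_center (ι : F₀ →+* F) :
    (jP (m := m) ι).ker ≤ Subgroup.center (Spm m F₀) := by
  intro s hs
  rw [MonoidHom.mem_ker, jP_apply] at hs
  have hc : mapSp ι s ∈ Subgroup.center (Spm m F) := by
    have := (QuotientGroup.eq_one_iff (N := Subgroup.center (Spm m F)) (mapSp ι s)).1 hs
    exact this
  rw [Subgroup.mem_center_iff]
  intro t
  apply mapSp_injective ι
  rw [map_mul, map_mul]
  exact Subgroup.mem_center_iff.1 hc _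

/-- a symplectic matrix which is a scalar multiple of a symplectic matrix: the scalar squares
to one -/
theorem scalar_sq_of_symplectic (hm : 1 ≤ m) (s t : Spm m F) (a : F) (h : t.val = a • s.val) :
    a * a = 1 := by
  have hs := SymplecticGroup.mem_iff.1 s.2
  have ht := SymplecticGroup.mem_iff.1 t.2
  rw [h, Matrix.transpose_smul, Matrix.smul_mul, Matrix.smul_mul, Matrix.mul_smul, hs,
    smul_smul] at ht
  have := congrFun (congrFun ht (Sum.inr ⟨0, hm⟩)) (Sum.inl ⟨0, hm⟩)
  rw [Matrix.smul_apply, J_entry hm, smul_eq_mul, mul_one] at this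
  exact this

/-- a symplectic matrix with `σ`-fixed entries comes from the fixed field -/
theorem exists_mapSp_eq (σ : RingAut F) (ι : F₀ →+* F)
    (hfix : ∀ t : F, σ t = t → ∃ s : F₀, ι s = t) (u : Spm m F)
    (hu : u.val.map σ = u.val) : ∃ s₀ : Spm m F₀, mapSp ι s₀ = u := by
  have hent : ∀ i j, ∃ b : F₀, ι b = u.val i j := by
    intro i j
    apply hfix
    have := congrFun (congrFun hu i) j
    rw [Matrix.map_apply] at this
    exact this
  choose B hB using hent
  have hBmap : (Matrix.of B).map ι = u.val := by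
    ext i j
    rw [Matrix.map_apply, Matrix.of_apply, hB]
  have hBmem : Matrix.of B ∈ symplecticGroup (Fin m) F₀ := by
    rw [SymplecticGroup.mem_iff]
    have key : (Matrix.of B * J (Fin m) F₀ * (Matrix.of B)ᵀ).map ι = (J (Fin m) F₀).map ι := by
      rw [Matrix.map_mul, Matrix.map_mul, Matrix.transpose_map, hBmap, J_map']
      exact SymplecticGroup.mem_iff.1 u.2
    exact Matrix.map_injective ι.injective key
  refine ⟨⟨Matrix.of B, hBmem⟩, ?_⟩
  apply Subtype.ext
  rw [mapSp_val]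
  exact hBmap

/-- the square of a fixed point of a standard field automorphism lies in the subfield subgroup -/
theorem sq_mem_range_jP (hm : 1 ≤ m) (σ : RingAut F) (ι : F₀ →+* F)
    (hfix : ∀ t : F, σ t = t → ∃ s : F₀, ι s = t) (k : PSpm m F) (hk : PhSp σ k = k) :
    ∃ s₀ : Spm m F₀, jP ι s₀ = k ^ 2 := by
  obtain ⟨s, rfl⟩ := prC_surjective k
  rw [PhSp_pr] at hk
  obtain ⟨a, ha⟩ := val_of_prC_eq _ _ hk
  have ha2 : a * a = 1 := scalar_sq_of_symplectic hm _ _ a ha
  rw [fieldSpFun_val] at ha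
  -- `s²` has `σ`-fixed entries
  have hsq : ((s * s).val).map σ = (s * s).val := by
    show (s.val * s.val).map (σ : F →+* F) = s.val * s.val
    rw [Matrix.map_mul]
    show s.val.map σ * s.val.map σ = s.val * s.val
    rw [ha, Matrix.smul_mul, Matrix.mul_smul, smul_smul, ha2, one_smul]
  obtain ⟨s₀, hs₀⟩ := exists_mapSp_eq σ ι hfix (s * s) hsq
  refine ⟨s₀, ?_⟩
  rw [jP_apply, hs₀, pow_two, ← map_mul]

/-- central elements of `Sp_{2m}(F₀)` die in `PSp_{2m}(F)` -/
theorem jP_of_center (ι : F₀ →+* F) (s : Spm m F₀) (hs : s ∈ Subgroup.center (Spm m F₀)) :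
    (jP ι s : PSpm m F) = 1 := by
  obtain ⟨a, ha⟩ := center_scalar s hs
  rw [jP_apply]
  apply (QuotientGroup.eq_one_iff (N := Subgroup.center (Spm m F)) (mapSp ι s)).2
  rw [Subgroup.mem_center_iff]
  intro t
  apply Subtype.ext
  show t.val * (mapSp ι s).val = (mapSp ι s).val * t.val
  have : (mapSp ι s).val = ι a • (1 : Matrix (Fin m ⊕ Fin m) (Fin m ⊕ Fin m) F) := by
    rw [mapSp_val, ha]
    ext i j
    rw [Matrix.map_apply, Matrix.smul_apply, Matrix.smul_apply, smul_eq_mul, smul_eq_mul, map_mul,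
      Matrix.one_apply, Matrix.one_apply]
    split_ifs
    · rw [map_one]
    · rw [map_zero]
  rw [this, Matrix.mul_smul, Matrix.smul_mul, Matrix.mul_one, Matrix.one_mul]

/-- the subfield subgroup is normalised by the fixed points of the field automorphism -/
theorem conj_jP_mem_range (σ : RingAut F) (ι : F₀ →+* F) (hι : ∀ s, σ (ι s) = ι s)
    (hfix : ∀ t : F, σ t = t → ∃ s : F₀, ι s = t) (k : PSpm m F) (hk : PhSp σ k = k)
    (s : Spm m F₀) : ∃ s' : Spm m F₀, (jP ι s' : PSpm m F) = k * jP ι s * k⁻¹ := by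
  obtain ⟨sk, rfl⟩ := prC_surjective k
  rw [PhSp_pr] at hk
  have hz : sk⁻¹ * fieldSpFun σ sk ∈ Subgroup.center (Spm m F) := (prC_eq_iff _ _).1 hk.symm
  have hM : fieldSp σ (mapSp ι s) = mapSp ι s := by
    apply Subtype.ext
    rw [fieldSp_val, mapSp_val]
    ext i j
    rw [Matrix.map_apply, Matrix.map_apply]
    exact hι _
  have ht : fieldSp σ sk = sk * (sk⁻¹ * fieldSpFun σ sk) := by
    rw [mul_inv_cancel_left]
    rfl
  have hu : fieldSp σ (sk * mapSp ι s * sk⁻¹) = sk * mapSp ι s * sk⁻¹ := by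
    rw [map_mul, map_mul, map_inv, hM, ht]
    have hc := Subgroup.mem_center_iff.1 hz (mapSp ι s)
    calc sk * (sk⁻¹ * fieldSpFun σ sk) * mapSp ι s * (sk * (sk⁻¹ * fieldSpFun σ sk))⁻¹
        = sk * ((sk⁻¹ * fieldSpFun σ sk) * mapSp ι s) * (sk⁻¹ * fieldSpFun σ sk)⁻¹ * sk⁻¹ := by
          group
      _ = sk * (mapSp ι s * (sk⁻¹ * fieldSpFun σ sk)) * (sk⁻¹ * fieldSpFun σ sk)⁻¹ * sk⁻¹ := by
          rw [hc]
      _ = sk * mapSp ι s * sk⁻¹ := by group
  obtain ⟨s', hs'⟩ := exists_mapSp_eq σ ι hfix (sk * mapSp ι s * sk⁻¹) (by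
    have := congrArg Subtype.val hu
    rw [fieldSp_val] at this
    exact this)
  refine ⟨s', ?_⟩
  rw [jP_apply, hs', jP_apply, map_mul, map_mul, map_inv]

/-! ### normal subgroups of `Sp_{2m}(F₀)` -/

/-- Iwasawa: a normal subgroup of `Sp_{2m}(F₀)` is central or contains the commutator subgroup -/
theorem normal_dichotomy [Finite F₀] (hm : 1 ≤ m) (N : Subgroup (Spm m F₀)) [N.Normal] :
    N ≤ Subgroup.center (Spm m F₀) ∨ commutator (Spm m F₀) ≤ N := by
  have hprim := Cfsg.Agent.S0270.isPreprimitive (F := F₀) m hm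
  by_cases hfix : MulAction.fixedPoints N (ℙ F₀ (Fin m ⊕ Fin m → F₀)) = Set.univ
  · left
    intro n hn
    apply Cfsg.Agent.S0270.mem_center_of_fix
    intro p
    have : p ∈ MulAction.fixedPoints N (ℙ F₀ (Fin m ⊕ Fin m → F₀)) := by
      rw [hfix]; trivial
    exact this ⟨n, hn⟩
  · right
    exact (Cfsg.Agent.S0270.iwasawa m (F := F₀)).commutator_le N hfix

theorem sympT_pow (v : Fin m ⊕ Fin m → F₀) (c : F₀) (n : ℕ) :
    sympT m v c ^ n = sympT m v (n • c) := by
  induction n with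
  | zero => rw [pow_zero, zero_smul, Cfsg.Agent.S0269.sympT_zero]
  | succ n ih => rw [pow_succ, ih, Cfsg.Agent.S0269.sympT_mul, succ_nsmul]

/-- the abelianisation of `Sp_{2m}(F₀)` has exponent the characteristic -/
theorem pow_char_mem_commutator (r : ℕ) [CharP F₀ r] (s : Spm m F₀) :
    s ^ r ∈ commutator (Spm m F₀) := by
  rw [← Abelianization.ker_of, MonoidHom.mem_ker, map_pow]
  have hmem : s ∈ ((powMonoidHom r : Abelianization (Spm m F₀) →* _).ker).comap
      (Abelianization.of : Spm m F₀ →* _) := by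
    have htop := Cfsg.Agent.S0765.result (F := F₀) m
    have hle : Subgroup.closure {A : Matrix.symplecticGroup (Fin m) F₀ |
        ∃ (w : Fin m ⊕ Fin m → F₀) (c : F₀),
          (A : Matrix (Fin m ⊕ Fin m) (Fin m ⊕ Fin m) F₀) = Cfsg.sympTransvection m w c} ≤
        ((powMonoidHom r : Abelianization (Spm m F₀) →* _).ker).comap
          (Abelianization.of : Spm m F₀ →* _) := by
      rw [Subgroup.closure_le]
      rintro A ⟨w, c, hA⟩
      have hA' : A = sympT m w c := Subtype.ext hA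
      rw [SetLike.mem_coe, Subgroup.mem_comap, MonoidHom.mem_ker, powMonoidHom_apply, ← map_pow,
        hA', sympT_pow, nsmul_eq_mul, CharP.cast_eq_zero, zero_mul,
        Cfsg.Agent.S0269.sympT_zero, map_one]
    rw [htop] at hle
    exact hle (Subgroup.mem_top s)
  rw [Subgroup.mem_comap, MonoidHom.mem_ker, powMonoidHom_apply] at hmem
  exact hmem

end Cfsg.Agent.Lib.Helper8.AutSp
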