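import Mathlib
import Cfsg.Agent.Lib.Helper8.AutSp.BalB

/-!
# Local balance for `PSp` (S2730), part C: the centraliser of the subfield subgroup (helper8)
-/

set_option autoImplicit false

namespace Cfsg.Agent.Lib.Helper8.AutSp

open Matrix Cfsg Cfsg.Agent.Lib.H7AutPSp Cfsg.Agent.Lib.Helper5.Symp

variable {m : ℕ} {F : Type*} [Field F] {F₀ : Type*} [Field F₀]

/-- Artin: an automorphism fixing the fixed field of `σ` is a power of `σ` -/
theorem mem_zpowers_of_fix [Finite F] (σ τ : RingAut F) (hτ : ∀ t : F, σ t = t → τ t = t) :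
    τ ∈ Subgroup.zpowers σ := by
  classical
  haveI : Finite (RingAut F) :=
    Finite.of_injective (fun e : RingAut F => (e : F → F)) DFunLike.coe_injective
  have hfixed : ∀ r : FixedPoints.subfield (↥(Subgroup.zpowers σ)) F, τ (r : F) = r := by
    intro r
    apply hτ
    have := r.2 ⟨σ, Subgroup.mem_zpowers σ⟩
    exact this
  let τ' : F ≃ₐ[FixedPoints.subfield (↥(Subgroup.zpowers σ)) F] F :=
    { (τ : F ≃+* F) with
      commutes' := fun r => hfixed r }
  obtain ⟨g, hg⟩ := FixedPoints.toAlgAut_surjective (↥(Subgroup.zpowers σ)) F τ'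
  have : (g : RingAut F) = τ := by
    ext x
    have := DFunLike.congr_fun hg x
    exact this
  rw [← this]
  exact g.2

theorem map_sympTransvection_hom (f : F₀ →+* F) (v : Fin m ⊕ Fin m → F₀) (c : F₀) :
    (sympTransvection m v c).map f = sympTransvection m (fun i => f (v i)) (f c) := by
  have hJ : ∀ j, f ((J (Fin m) F₀ *ᵥ v) j) = (J (Fin m) F *ᵥ fun i => f (v i)) j := by
    intro j
    rw [Matrix.mulVec, Matrix.mulVec, dotProduct, dotProduct, map_sum]
    apply Finset.sum_congr rfl
    intro k _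
    rw [map_mul]
    congr 1
    exact congrFun (congrFun (J_map' (m := m) f) j) k
  ext i j
  unfold sympTransvection
  simp only [Matrix.map_apply, Matrix.add_apply, Matrix.smul_apply, Matrix.vecMulVec_apply,
    smul_eq_mul, map_add, map_mul, hJ]
  congr 1
  rw [Matrix.one_apply, Matrix.one_apply]
  split_ifs
  · exact map_one f
  · exact map_zero f

theorem mapSp_sympT (ι : F₀ →+* F) (v : Fin m ⊕ Fin m → F₀) (c : F₀) :
    mapSp ι (sympT m v c) = sympT m (fun i => ι (v i)) (ι c) := by
  apply Subtype.ext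
  exact map_sympTransvection_hom ι v c

/-- commuting with a transvection gives an eigenvector -/
theorem eigen_of_comm_transvection (A : Matrix (Fin m ⊕ Fin m) (Fin m ⊕ Fin m) F)
    (v : Fin m ⊕ Fin m → F) (hv : v ≠ 0)
    (h : A * sympTransvection m v 1 = sympTransvection m v 1 * A) : ∃ a : F, A *ᵥ v = a • v := by
  obtain ⟨x, hx⟩ := exists_sympForm_ne_zero m hv
  have hx' : sympForm m F x v ≠ 0 := by
    rw [sympForm_swap]
    exact neg_ne_zero.2 hx
  have h1 := congrArg (fun M => M *ᵥ x) h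
  simp only [← Matrix.mulVec_mulVec, sympTransvection_mulVec, one_mul] at h1
  rw [Matrix.mulVec_add, Matrix.mulVec_smul] at h1
  have h2 := add_left_cancel h1
  refine ⟨(sympForm m F x v)⁻¹ * sympForm m F (A *ᵥ x) v, ?_⟩
  rw [← smul_smul, ← h2, smul_smul, inv_mul_cancel₀ hx', one_smul]

/-- a matrix with the basis vectors and their pairwise sums as eigenvectors is scalar -/
theorem scalar_of_eigen_basis {κ : Type*} [Fintype κ] [DecidableEq κ] (A : Matrix κ κ F)
    (h1 : ∀ i : κ, ∃ a : F, A *ᵥ (Pi.single i 1) = a • (Pi.single i 1 : κ → F))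
    (h2 : ∀ i j : κ, i ≠ j → ∃ a : F, A *ᵥ (Pi.single i 1 + Pi.single j 1) =
      a • (Pi.single i 1 + Pi.single j 1 : κ → F)) :
    ∃ a : F, A = a • (1 : Matrix κ κ F) := by
  classical
  choose a ha using h1
  rcases isEmpty_or_nonempty κ with he | ⟨⟨j₀⟩⟩
  · exact ⟨0, by ext i; exact (he.false i).elim⟩
  · have hall : ∀ j, a j = a j₀ := by
      intro j
      by_cases hj : j = j₀
      · rw [hj]
      · obtain ⟨b, hb⟩ := h2 j j₀ hj
        rw [Matrix.mulVec_add, ha, ha, smul_add] at hb
        have e1 := congrFun hb j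
        have e2 := congrFun hb j₀
        simp only [Pi.add_apply, Pi.smul_apply, Pi.single_eq_same, Pi.single_eq_of_ne hj,
          Pi.single_eq_of_ne (Ne.symm hj), smul_eq_mul, mul_one, mul_zero, add_zero, zero_add]
          at e1 e2
        rw [e1, e2]
    refine ⟨a j₀, ?_⟩
    ext i j
    have h3 := congrFun (ha j) i
    rw [Matrix.mulVec_single_one, hall j] at h3
    rw [Matrix.smul_apply, Matrix.one_apply, smul_eq_mul]
    rw [Pi.smul_apply, Pi.single_apply, smul_eq_mul] at h3
    exact h3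

theorem single_ne_zero' {κ : Type*} [DecidableEq κ] (i : κ) : (Pi.single i 1 : κ → F) ≠ 0 := by
  intro h
  have := congrFun h i
  rw [Pi.single_eq_same, Pi.zero_apply] at this
  exact one_ne_zero this

theorem single_add_ne_zero' {κ : Type*} [DecidableEq κ] (i j : κ) (hij : i ≠ j) :
    (Pi.single i 1 + Pi.single j 1 : κ → F) ≠ 0 := by
  intro h
  have := congrFun h i
  rw [Pi.add_apply, Pi.single_eq_same, Pi.single_eq_of_ne hij, add_zero, Pi.zero_apply] at this
  exact one_ne_zero this

/-- the parameter of a transvection along the first basis vector -/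
theorem sympTransvection_param_inj (hm : 1 ≤ m) (c d : F)
    (h : sympTransvection m (Pi.single (Sum.inl ⟨0, hm⟩) 1 : Fin m ⊕ Fin m → F) c =
      sympTransvection m (Pi.single (Sum.inl ⟨0, hm⟩) 1) d) : c = d := by
  have h1 := congrArg (fun M => M *ᵥ (Pi.single (Sum.inr ⟨0, hm⟩) 1 : Fin m ⊕ Fin m → F)) h
  simp only [sympTransvection_mulVec] at h1
  have h2 : sympForm m F (Pi.single (Sum.inr ⟨0, hm⟩) 1) (Pi.single (Sum.inl ⟨0, hm⟩) 1) = 1 := by
    rw [sympForm_eq_sum]
    simp [Pi.single_apply]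
  rw [h2, mul_one, mul_one] at h1
  have h3 := congrFun (add_left_cancel h1) (Sum.inl ⟨0, hm⟩)
  rw [Pi.smul_apply, Pi.smul_apply, Pi.single_eq_same, smul_eq_mul, smul_eq_mul, mul_one,
    mul_one] at h3
  exact h3

/-- **the centraliser of the subfield subgroup** among the semilinear automorphisms -/
theorem cent_subfield (hm : 1 ≤ m) (ι : F₀ →+* F) (g : ↥(Cfsg.GSp m F)) (τ : RingAut F)
    (h : ∀ s : Spm m F₀, (DhSp g * PhSp τ : MulAut (PSpm m F)) (jP ι s) = jP ι s) :
    (DhSp g : MulAut (PSpm m F)) = 1 ∧ ∀ c : F₀, τ (ι c) = ι c := by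
  -- the basic relation
  have key : ∀ (v₀ : Fin m ⊕ Fin m → F₀) (c₀ : F₀), (fun i => ι (v₀ i)) ≠ 0 →
      (∀ i, τ (ι (v₀ i)) = ι (v₀ i)) →
      g.1.val * sympTransvection m (fun i => ι (v₀ i)) (τ (ι c₀)) * g.1⁻¹.val =
        sympTransvection m (fun i => ι (v₀ i)) (ι c₀) := by
    intro v₀ c₀ hv hτv
    have h1 := h (sympT m v₀ c₀)
    rw [jP_apply, MulAut.mul_apply, PhSp_pr, DhSp_pr, mapSp_sympT] at h1
    obtain ⟨a, ha⟩ := val_of_prC_eq _ _ h1
    rw [conjSpFun_val, fieldSpFun_val] at ha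
    have hmap : (sympT m (fun i => ι (v₀ i)) (ι c₀)).val.map τ =
        sympTransvection m (fun i => ι (v₀ i)) (τ (ι c₀)) := by
      show (sympTransvection m (fun i => ι (v₀ i)) (ι c₀)).map τ = _
      rw [map_sympTransvection]
      congr 1
      ext i
      exact hτv i
    rw [hmap] at ha
    have ha1 : (1 : F) = a := by
      apply transvection_conj_scalar g.1 _ hv (τ (ι c₀)) (ι c₀) 1 a
      rw [one_smul]
      exact ha
    rw [← ha1, one_smul] at ha
    exact ha
  -- `g` commutes with the transvections along the vectors `e_i` and `e_i + e_j`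
  have hcomm : ∀ v₀ : Fin m ⊕ Fin m → F₀, (fun i => ι (v₀ i)) ≠ 0 →
      (∀ i, τ (ι (v₀ i)) = ι (v₀ i)) →
      g.1.val * sympTransvection m (fun i => ι (v₀ i)) 1 =
        sympTransvection m (fun i => ι (v₀ i)) 1 * g.1.val := by
    intro v₀ hv hτv
    have h1 := key v₀ 1 hv hτv
    rw [map_one, map_one] at h1
    have : g.1.val * sympTransvection m (fun i => ι (v₀ i)) 1 * g.1⁻¹.val * g.1.val =
        sympTransvection m (fun i => ι (v₀ i)) 1 * g.1.val := by
      rw [h1]
    rw [Matrix.mul_assoc, ← Units.val_mul, inv_mul_cancel, Units.val_one, Matrix.mul_one]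
      at this
    exact this
  have hsingle : ∀ i : Fin m ⊕ Fin m,
      (fun k => ι ((Pi.single i 1 : Fin m ⊕ Fin m → F₀) k)) = (Pi.single i 1 : _ → F) := by
    intro i
    ext k
    rw [Pi.single_apply, Pi.single_apply]
    split_ifs
    · exact map_one ι
    · exact map_zero ι
  have hsum : ∀ i j : Fin m ⊕ Fin m,
      (fun k => ι ((Pi.single i 1 + Pi.single j 1 : Fin m ⊕ Fin m → F₀) k)) =
        (Pi.single i 1 + Pi.single j 1 : _ → F) := by
    intro i j
    ext k
    rw [Pi.add_apply, Pi.add_apply, map_add, ← congrFun (hsingle i) k, ← congrFun (hsingle j) k]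
  have hτ01 : ∀ (v₀ : Fin m ⊕ Fin m → F₀) (w : Fin m ⊕ Fin m → F),
      (fun k => ι (v₀ k)) = w → (∀ k, τ (w k) = w k) → ∀ k, τ (ι (v₀ k)) = ι (v₀ k) := by
    intro v₀ w hw hτw k
    have : ι (v₀ k) = w k := congrFun hw k
    rw [this]
    exact hτw k
  have hτsingle : ∀ (i k : Fin m ⊕ Fin m), τ ((Pi.single i 1 : Fin m ⊕ Fin m → F) k) =
      (Pi.single i 1 : Fin m ⊕ Fin m → F) k := by
    intro i k
    rw [Pi.single_apply]
    split_ifs
    · exact map_one τ
    · exact map_zero τ
  obtain ⟨a, ha⟩ := scalar_of_eigen_basis g.1.val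
    (fun i => by
      apply eigen_of_comm_transvection _ _ (single_ne_zero' i)
      have := hcomm (Pi.single i 1) (by rw [hsingle]; exact single_ne_zero' i)
        (hτ01 _ _ (hsingle i) (hτsingle i))
      rw [hsingle] at this
      exact this)
    (fun i j hij => by
      apply eigen_of_comm_transvection _ _ (single_add_ne_zero' i j hij)
      have := hcomm (Pi.single i 1 + Pi.single j 1)
        (by rw [hsum]; exact single_add_ne_zero' i j hij)
        (hτ01 _ _ (hsum i j) (fun k => by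
          rw [Pi.add_apply, map_add, hτsingle, hτsingle]))
      rw [hsum] at this
      exact this)
  have ha0 : a ≠ 0 := by
    rintro rfl
    rw [zero_smul] at ha
    have h1 : g.1.val * g.1⁻¹.val = 1 := by
      rw [← Units.val_mul, mul_inv_cancel, Units.val_one]
    rw [ha, Matrix.zero_mul] at h1
    have := congrFun (congrFun h1 (Sum.inl ⟨0, hm⟩)) (Sum.inl ⟨0, hm⟩)
    rw [Matrix.zero_apply, Matrix.one_apply_eq] at this
    exact zero_ne_one this
  have hD : (DhSp g : MulAut (PSpm m F)) = 1 :=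
    (DhSp_eq_one_iff hm g).2 ⟨Units.mk0 a ha0, ha⟩
  refine ⟨hD, ?_⟩
  intro c₀
  have h1 := key (Pi.single (Sum.inl ⟨0, hm⟩) 1) c₀
    (by rw [hsingle]; exact single_ne_zero' _) (hτ01 _ _ (hsingle _) (hτsingle _))
  rw [hsingle, ha, Matrix.smul_mul, Matrix.one_mul] at h1
  have hinv : g.1⁻¹.val = a⁻¹ • (1 : Matrix (Fin m ⊕ Fin m) (Fin m ⊕ Fin m) F) := by
    have h2 : g.1.val * g.1⁻¹.val = 1 := by
      rw [← Units.val_mul, mul_inv_cancel, Units.val_one]
    rw [ha, Matrix.smul_mul, Matrix.one_mul] at h2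
    rw [← h2, smul_smul, inv_mul_cancel₀ ha0, one_smul]
  rw [hinv, Matrix.smul_mul, Matrix.mul_smul, Matrix.mul_one, smul_smul, mul_inv_cancel₀ ha0,
    one_smul] at h1
  exact sympTransvection_param_inj hm _ _ h1

end Cfsg.Agent.Lib.Helper8.AutSp
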