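import Mathlib
import Cfsg.Agent.Lib.Helper8.AutSp.BalA
import Cfsg.Agent.Lib.Helper8.AutSp.BalC
import Cfsg.Agent.Lib.Helper7.AutPSp.Normal

/-!
# Local balance for `PSp` (S2730), part D: the main argument for a standard field
automorphism (helper8)
-/

set_option autoImplicit false

namespace Cfsg.Agent.Lib.Helper8.AutSp

open Matrix Cfsg Cfsg.Agent.Lib.H7AutPSp Cfsg.Agent.Lib.Helper5.Symp

variable {m : ℕ} {F : Type*} [Field F]

/-- the fixed field of a field automorphism -/
def fixSub (σ : RingAut F) : Subfield F := RingHom.eqLocusField (σ : F →+* F) (RingHom.id F)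

theorem mem_fixSub (σ : RingAut F) (t : F) : t ∈ fixSub σ ↔ σ t = t := Iff.rfl

/-- the inclusion of the fixed field -/
def fixι (σ : RingAut F) : ↥(fixSub σ) →+* F := (fixSub σ).subtype

theorem fixι_fixed (σ : RingAut F) (s : ↥(fixSub σ)) : σ (fixι σ s) = fixι σ s := s.2

theorem fixι_surj (σ : RingAut F) (t : F) (ht : σ t = t) : ∃ s : ↥(fixSub σ), fixι σ s = t :=
  ⟨⟨t, ht⟩, rfl⟩

/-- the symplectic form matrix as a group element -/
def sJ (m : ℕ) (F₀ : Type*) [Field F₀] : Spm m F₀ := ⟨J (Fin m) F₀, SymplecticGroup.J_mem _ _⟩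

theorem sJ_not_center (hm : 1 ≤ m) (F₀ : Type*) [Field F₀] :
    sJ m F₀ ∉ Subgroup.center (Spm m F₀) := by
  intro h
  obtain ⟨a, ha⟩ := center_scalar _ h
  have h1 := congrFun (congrFun ha (Sum.inl ⟨0, hm⟩)) (Sum.inl ⟨0, hm⟩)
  have h2 := congrFun (congrFun ha (Sum.inr ⟨0, hm⟩)) (Sum.inl ⟨0, hm⟩)
  have e1 : (sJ m F₀).val (Sum.inl ⟨0, hm⟩) (Sum.inl ⟨0, hm⟩) = 0 := by
    show J (Fin m) F₀ _ _ = 0
    simp [Matrix.J]
  have e2 : (sJ m F₀).val (Sum.inr ⟨0, hm⟩) (Sum.inl ⟨0, hm⟩) = 1 := J_entry hm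
  rw [e1, Matrix.smul_apply, Matrix.one_apply_eq, smul_eq_mul, mul_one] at h1
  rw [e2, Matrix.smul_apply, Matrix.one_apply_ne (by simp), smul_eq_mul, mul_zero] at h2
  exact one_ne_zero h2

theorem sJ_sq_center (m : ℕ) (F₀ : Type*) [Field F₀] :
    sJ m F₀ * sJ m F₀ ∈ Subgroup.center (Spm m F₀) := by
  rw [Subgroup.mem_center_iff]
  intro t
  apply Subtype.ext
  show t.val * (J (Fin m) F₀ * J (Fin m) F₀) = (J (Fin m) F₀ * J (Fin m) F₀) * t.val
  rw [Matrix.J_squared]
  simp

/-- **Main argument.** If `p` divides the number of fixed points of the standard field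
automorphism `φ_σ` of prime order `p ≠ char F`, a `p'`-group `W` of automorphisms commuting with
`φ_σ` and normalised by the inner automorphisms by fixed points of `φ_σ` is trivial. -/
theorem core_trivial_field [Fintype F] {r : ℕ} [Fact r.Prime] [CharP F r] (hm : 2 ≤ m)
    (hZ : Subgroup.center (PSpm m F) = ⊥)
    {p : ℕ} [Fact p.Prime] (hpr : p ≠ r) (σ : RingAut F) (hσ : σ ^ p = 1)
    (W : Subgroup (MulAut (PSpm m F)))
    (hWcop : (Nat.card ↥W).Coprime p)
    (hWcent : ∀ w ∈ W, w * PhSp σ = PhSp σ * w)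
    (hWnorm : ∀ k : PSpm m F, PhSp σ k = k → ∀ w ∈ W,
      MulAut.conj k * w * (MulAut.conj k)⁻¹ ∈ W)
    (hdiv : p ∣ Nat.card ↥(fixG (PhSp σ : MulAut (PSpm m F))))
    (hsemi : ∀ w ∈ W, (∀ s : Spm m ↥(fixSub σ), w (jP (fixι σ) s) = jP (fixι σ) s) →
      w ∈ semiSub m F) :
    W = ⊥ := by
  classical
  have hm1 : 1 ≤ m := by omega
  have hp : p.Prime := Fact.out
  have hr : r.Prime := Fact.out
  have hcinj := conj_injective_of_center hZ
  -- no element of order `p` in `W`
  have hnoP : ∀ w ∈ W, orderOf w ≠ p := by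
    intro w hw hord
    have h1 : orderOf (⟨w, hw⟩ : ↥W) = p := by
      rw [← hord]
      exact Subgroup.orderOf_mk w hw
    have h2 : p ∣ Nat.card ↥W := by
      rw [← h1]
      exact orderOf_dvd_natCard _
    have := Nat.eq_one_of_dvd_coprimes hWcop h2 dvd_rfl
    exact hp.one_lt.ne' this
  obtain ⟨ι, hιdef⟩ : ∃ ι : ↥(fixSub σ) →+* F, ι = fixι σ := ⟨_, rfl⟩
  have hι : ∀ s, σ (ι s) = ι s := by rw [hιdef]; exact fixι_fixed σ
  have hfix : ∀ t : F, σ t = t → ∃ s : ↥(fixSub σ), ι s = t := by rw [hιdef]; exact fixι_surj σ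
  rw [← hιdef] at hsemi
  have hjfix : ∀ s : Spm m ↥(fixSub σ), PhSp σ (jP ι s) = (jP ι s : PSpm m F) :=
    PhSp_jP σ ι hι
  -- the normal subgroup of `Sp_{2m}(F₀)` cut out by `W`
  let cj : Spm m ↥(fixSub σ) →* MulAut (PSpm m F) := (MulAut.conj).comp (jP ι)
  have hcj : ∀ s, cj s = MulAut.conj (jP ι s) := fun s => rfl
  have hnormal : (W.comap cj).Normal := by
    constructor
    intro s hs t
    rw [Subgroup.mem_comap] at hs ⊢
    rw [map_mul, map_mul, map_inv, hcj t]
    exact hWnorm _ (hjfix t) _ hs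
  rcases normal_dichotomy hm1 (W.comap cj) with hcen | hcomm
  · -- Case B: `W` meets the subfield subgroup trivially
    have B1 : ∀ s : Spm m ↥(fixSub σ), MulAut.conj (jP ι s) ∈ W → (jP ι s : PSpm m F) = 1 := by
      intro s hs
      exact jP_of_center ι s (hcen hs)
    have B2 : ∀ k : PSpm m F, PhSp σ k = k → MulAut.conj k ∈ W → k = 1 := by
      intro k hk hkW
      have hcommute : ∀ s : Spm m ↥(fixSub σ), k * jP ι s * k⁻¹ = jP ι s := by
        intro s
        obtain ⟨s', hs'⟩ := conj_jP_mem_range σ ι hι hfix k hk s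
        have h1 : MulAut.conj (jP ι (s' * s⁻¹)) ∈ W := by
          have e : MulAut.conj (jP ι (s' * s⁻¹) : PSpm m F) =
              MulAut.conj k * (MulAut.conj (jP ι s) * (MulAut.conj k)⁻¹ *
                (MulAut.conj (jP ι s))⁻¹) := by
            rw [map_mul, hs', map_inv]
            simp only [map_mul, map_inv]
            group
          rw [e]
          exact W.mul_mem hkW (hWnorm _ (hjfix s) _ (W.inv_mem hkW))
        have h2 := B1 _ h1
        rw [map_mul, hs', map_inv, mul_inv_eq_one] at h2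
        exact h2
      -- `conj k` centralises the subfield subgroup
      obtain ⟨sk, rfl⟩ := prC_surjective k
      have h3 : ∀ s : Spm m ↥(fixSub σ),
          (DhSp (toGSp sk) * PhSp (1 : RingAut F) : MulAut (PSpm m F)) (jP ι s) = jP ι s := by
        intro s
        rw [map_one, mul_one, DhSp_toGSp, MulAut.conj_apply]
        exact hcommute s
      have h4 := (cent_subfield hm1 ι (toGSp sk) 1 h3).1
      rw [DhSp_toGSp] at h4
      exact hcinj (by rw [h4, map_one])
    have B3 : ∀ w ∈ W, ∀ k : PSpm m F, PhSp σ k = k → w k = k := by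
      intro w hw k hk
      have hwk : PhSp σ (w k) = w k := by
        have := DFunLike.congr_fun (hWcent w hw) k
        rw [MulAut.mul_apply, MulAut.mul_apply, hk] at this
        exact this.symm
      have h1 : MulAut.conj (w k * k⁻¹) ∈ W := by
        have e : MulAut.conj (w k * k⁻¹) =
            w * (MulAut.conj k * w⁻¹ * (MulAut.conj k)⁻¹) := by
          rw [map_mul, ← aut_mul_conj_mul_inv, map_inv]
          group
        rw [e]
        exact W.mul_mem hw (hWnorm k hk _ (W.inv_mem hw))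
      have h2 := B2 (w k * k⁻¹) (by rw [map_mul, map_inv, hwk, hk]) h1
      rwa [mul_inv_eq_one] at h2
    rw [eq_bot_iff]
    intro w hw
    rw [Subgroup.mem_bot]
    obtain ⟨g, τ, hgτ⟩ := hsemi w hw (fun s => B3 w hw _ (hjfix s))
    have h5 := cent_subfield hm1 ι g τ (fun s => by rw [← hgτ]; exact B3 w hw _ (hjfix s))
    have hτ : τ ∈ Subgroup.zpowers σ := by
      apply mem_zpowers_of_fix
      intro t ht
      obtain ⟨s, rfl⟩ := hfix t ht
      exact h5.2 s
    have hwτ : w = PhSp τ := by rw [hgτ, h5.1, one_mul]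
    have hwp : w ^ p = 1 := by
      obtain ⟨n, rfl⟩ := Subgroup.mem_zpowers_iff.1 hτ
      rw [hwτ, ← map_pow, ← zpow_natCast, ← _root_.zpow_mul, mul_comm, _root_.zpow_mul, zpow_natCast, hσ,
        _root_.one_zpow, map_one]
    have hord : orderOf w ∣ p := orderOf_dvd_of_pow_eq_one hwp
    rcases (Nat.dvd_prime hp).1 hord with h1 | h1
    · exact orderOf_eq_one_iff.1 h1
    · exact absurd h1 (hnoP w hw)
  · -- Case A: `W` contains the image of the commutator subgroup
    exfalso
    by_cases hp2 : p = 2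
    · -- `p = 2`: the image of `J` is an involution in `W`
      have hr2 : r ≠ 2 := fun h => hpr (by rw [hp2, h])
      have : CharP ↥(fixSub σ) r := (RingHom.charP_iff ι ι.injective r).2 inferInstance
      have hcard3 : 3 ≤ Fintype.card ↥(fixSub σ) := by
        have h0 : ((Fintype.card ↥(fixSub σ) : ℕ) : ↥(fixSub σ)) = 0 := Nat.cast_card_eq_zero _
        have hdvd : r ∣ Fintype.card ↥(fixSub σ) := (CharP.cast_eq_zero_iff _ r _).1 h0
        have hle := Nat.le_of_dvd Fintype.card_pos hdvd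
        have := hr.two_le
        omega
      have hperf : commutator (Spm m ↥(fixSub σ)) = ⊤ := by
        apply Cfsg.Agent.S0269.result
        by_cases h3 : 3 ≤ m
        · exact Or.inl h3
        · exact Or.inr (Or.inl ⟨by omega, hcard3⟩)
      have hJW : MulAut.conj (jP ι (sJ m ↥(fixSub σ)) : PSpm m F) ∈ W := by
        have : sJ m ↥(fixSub σ) ∈ W.comap cj := hcomm (by rw [hperf]; trivial)
        exact this
      have hJ1 : (jP ι (sJ m ↥(fixSub σ)) : PSpm m F) ≠ 1 := by
        intro h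
        exact sJ_not_center hm1 _ (jP_ker_le_center ι h)
      have hJ2 : (jP ι (sJ m ↥(fixSub σ)) : PSpm m F) ^ 2 = 1 := by
        rw [pow_two, ← map_mul]
        exact jP_of_center ι _ (sJ_sq_center m _)
      have hord : orderOf (MulAut.conj (jP ι (sJ m ↥(fixSub σ)) : PSpm m F)) = 2 := by
        rw [orderOf_injective _ hcinj]
        exact orderOf_eq_prime hJ2 hJ1
      exact hnoP _ hJW (by rw [hord, hp2])
    · -- `p` odd: an element of order `p` in the image of the commutator subgroup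
      have : CharP ↥(fixSub σ) r := (RingHom.charP_iff ι ι.injective r).2 inferInstance
      obtain ⟨y, hy⟩ := exists_prime_orderOf_dvd_card' (G := ↥(fixG (PhSp σ : MulAut (PSpm m F))))
        p hdiv
      have hyord : orderOf (y : PSpm m F) = p := by
        rw [← hy]
        exact (Subgroup.orderOf_coe y)
      obtain ⟨s₀, hs₀⟩ := sq_mem_range_jP hm1 σ ι hfix (y : PSpm m F) y.2
      have h1 : s₀ ^ r ∈ W.comap cj := hcomm (pow_char_mem_commutator r s₀)
      rw [Subgroup.mem_comap, hcj, map_pow, hs₀, ← pow_mul] at h1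
      have hcop : (orderOf (y : PSpm m F)).Coprime (2 * r) := by
        rw [hyord]
        apply Nat.Coprime.mul_right
        · exact (Nat.coprime_primes hp Nat.prime_two).2 hp2
        · exact (Nat.coprime_primes hp hr).2 hpr
      have hord : orderOf (MulAut.conj ((y : PSpm m F) ^ (2 * r))) = p := by
        rw [orderOf_injective _ hcinj, hcop.orderOf_pow, hyord]
      exact hnoP _ h1 hord

end Cfsg.Agent.Lib.Helper8.AutSp
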