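import Cfsg.Agent.Lib.Helper8.AutSp.Simple
import Mathlib

/-!
# Diagonal and field automorphisms of the symplectic group and of its central quotient (helper8)
-/

set_option autoImplicit false

namespace Cfsg.Agent.Lib.Helper8.AutSp

open Matrix Cfsg Cfsg.Agent.Lib.Helper5.GLBN Cfsg.Agent.Lib.Helper8.SpBN
open scoped MatrixGroups

/-! ### descending an automorphism to a central quotient -/

section descend

variable {G Q : Type*} [Group G] [Group Q]

theorem mulEquiv_center_of {G' : Type*} [Group G'] {g : G} (hg : g ∈ Subgroup.center G)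
    (Φ : G ≃* G') : Φ g ∈ Subgroup.center G' := by
  rw [Subgroup.mem_center_iff] at hg ⊢
  intro h
  obtain ⟨h', rfl⟩ := Φ.surjective h
  rw [← map_mul, ← map_mul, hg h']

theorem mulEquiv_mem_center {Φ : G ≃* G} {g : G} (hg : g ∈ Subgroup.center G) :
    Φ g ∈ Subgroup.center G := mulEquiv_center_of hg Φ

variable (f : G →* Q) (hf : Function.Surjective f) (hker : f.ker = Subgroup.center G)

/-- an automorphism of `G` descends to the central quotient -/
noncomputable def descendHom (Φ : G ≃* G) : Q →* Q :=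
  f.liftOfSurjective hf ⟨f.comp Φ.toMonoidHom, by
    intro g hg
    rw [hker] at hg
    rw [MonoidHom.mem_ker, MonoidHom.comp_apply, ← MonoidHom.mem_ker, hker]
    exact mulEquiv_mem_center hg⟩

theorem descendHom_apply (Φ : G ≃* G) (g : G) : descendHom f hf hker Φ (f g) = f (Φ g) := by
  unfold descendHom
  rw [MonoidHom.liftOfRightInverse_comp_apply]
  rfl

/-- an automorphism of `G` descends to the central quotient -/
noncomputable def descend (Φ : G ≃* G) : Q ≃* Q :=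
  MonoidHom.toMulEquiv (descendHom f hf hker Φ) (descendHom f hf hker Φ.symm)
    (by
      ext q
      obtain ⟨g, rfl⟩ := hf q
      rw [MonoidHom.comp_apply, descendHom_apply, descendHom_apply, MulEquiv.symm_apply_apply,
        MonoidHom.id_apply])
    (by
      ext q
      obtain ⟨g, rfl⟩ := hf q
      rw [MonoidHom.comp_apply, descendHom_apply, descendHom_apply, MulEquiv.apply_symm_apply,
        MonoidHom.id_apply])

theorem descend_apply (Φ : G ≃* G) (g : G) : descend f hf hker Φ (f g) = f (Φ g) :=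
  descendHom_apply f hf hker Φ g

end descend

variable {m : ℕ} {F : Type*} [Field F]

/-! ### the field automorphisms -/

theorem map_eps (σ : F ≃+* F) (i : Fin (2 * m)) : σ (eps m F i) = eps m F i := by
  unfold eps; split_ifs <;> simp

theorem Jm_map (σ : F ≃+* F) : (Jm m F).map σ = Jm m F := by
  ext i j
  rw [Matrix.map_apply]
  unfold Jm
  split_ifs
  · exact map_eps σ i
  · exact map_zero σ

theorem glMap_coe (σ : F ≃+* F) (g : GL (Fin (2 * m)) F) :
    ((Matrix.GeneralLinearGroup.map (σ : F →+* F) g : GL (Fin (2 * m)) F) :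
        Matrix (Fin (2 * m)) (Fin (2 * m)) F)
      = (g : Matrix (Fin (2 * m)) (Fin (2 * m)) F).map σ := rfl

theorem glMap_mem_SpH (σ : F ≃+* F) {g : GL (Fin (2 * m)) F} (hg : g ∈ SpH m F) :
    Matrix.GeneralLinearGroup.map (σ : F →+* F) g ∈ SpH m F := by
  rw [mem_SpH_iff] at hg ⊢
  rw [glMap_coe]
  have h := congrArg (fun M : Matrix (Fin (2 * m)) (Fin (2 * m)) F => M.map σ) hg
  beta_reduce at h
  rw [Jm_map] at h
  have e1 : ∀ A B : Matrix (Fin (2 * m)) (Fin (2 * m)) F, (A * B).map σ = A.map σ * B.map σ :=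
    fun A B => Matrix.map_mul (f := (σ : F →+* F))
  rw [e1, e1, Jm_map, Matrix.transpose_map] at h
  exact h

/-- the field automorphism of the symplectic group -/
noncomputable def fieldS (σ : F ≃+* F) : ↥(SpH m F) ≃* ↥(SpH m F) where
  toFun h := ⟨Matrix.GeneralLinearGroup.map (σ : F →+* F) h, glMap_mem_SpH σ h.2⟩
  invFun h := ⟨Matrix.GeneralLinearGroup.map (σ.symm : F →+* F) h, glMap_mem_SpH σ.symm h.2⟩
  left_inv h := by
    apply Subtype.ext
    apply Units.ext
    ext i j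
    simp [Matrix.GeneralLinearGroup.map_apply]
  right_inv h := by
    apply Subtype.ext
    apply Units.ext
    ext i j
    simp [Matrix.GeneralLinearGroup.map_apply]
  map_mul' g h := by
    apply Subtype.ext
    simp

theorem fieldS_coe (σ : F ≃+* F) (h : ↥(SpH m F)) :
    ((fieldS σ h : ↥(SpH m F)) : GL (Fin (2 * m)) F)
      = Matrix.GeneralLinearGroup.map (σ : F →+* F) (h : GL (Fin (2 * m)) F) := rfl

theorem glMap_rt (σ : F ≃+* F) (a b : Fin (2 * m)) (hab : a ≠ b) (c : F) :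
    Matrix.GeneralLinearGroup.map (σ : F →+* F) (rt a b hab c) = rt a b hab (σ c) := by
  apply Units.ext
  ext i j
  rw [glMap_coe, Matrix.map_apply, rt_apply, rt_apply, map_add, map_add]
  congr 1
  · congr 1
    · split_ifs <;> simp
    · split_ifs <;> simp
  · split_ifs
    · simp
    · rw [map_neg, map_mul, map_mul, map_eps, map_eps]
    · simp

theorem fieldS_xp (σ : F ≃+* F) (i : Fin m) (t : F) : fieldS σ (xp i t) = xp i (σ t) := by
  apply Subtype.ext
  rw [fieldS_coe, xp_coe, xp_coe, glMap_rt]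

theorem fieldS_xm (σ : F ≃+* F) (i : Fin m) (t : F) : fieldS σ (xm i t) = xm i (σ t) := by
  apply Subtype.ext
  rw [fieldS_coe, xm_coe, xm_coe, glMap_rt]

/-! ### the diagonal automorphisms -/

/-- the diagonal matrix with the given entries -/
def dgU {n : ℕ} (d : Fin n → Fˣ) : GL (Fin n) F :=
  ⟨Matrix.diagonal (fun i => (d i : F)), Matrix.diagonal (fun i => (((d i)⁻¹ : Fˣ) : F)),
    by rw [Matrix.diagonal_mul_diagonal, ← Matrix.diagonal_one]; congr 1; ext i; simp,
    by rw [Matrix.diagonal_mul_diagonal, ← Matrix.diagonal_one]; congr 1; ext i; simp⟩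

theorem dgU_coe {n : ℕ} (d : Fin n → Fˣ) :
    ((dgU d : GL (Fin n) F) : Matrix (Fin n) (Fin n) F) = Matrix.diagonal (fun i => (d i : F)) :=
  rfl

theorem dgU_inv {n : ℕ} (d : Fin n → Fˣ) : (dgU d : GL (Fin n) F)⁻¹ = dgU (fun i => (d i)⁻¹) :=
  Units.ext rfl

theorem dgU_mulVec {n : ℕ} (d : Fin n → Fˣ) (x : Fin n → F) (i : Fin n) :
    (((dgU d : GL (Fin n) F) : Matrix (Fin n) (Fin n) F) *ᵥ x) i = d i * x i := by
  rw [dgU_coe, Matrix.mulVec_diagonal]

theorem dgU_J {d : Fin (2 * m) → Fˣ} {l : Fˣ} (hd : ∀ k, d k * d k.rev = l) :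
    ((dgU d : GL (Fin (2 * m)) F) : Matrix (Fin (2 * m)) (Fin (2 * m)) F)ᵀ * Jm m F
        * ((dgU d : GL (Fin (2 * m)) F) : Matrix (Fin (2 * m)) (Fin (2 * m)) F)
      = (l : F) • Jm m F := by
  ext i j
  rw [dgU_coe, Matrix.diagonal_transpose, Matrix.mul_diagonal, Matrix.diagonal_mul,
    Matrix.smul_apply, smul_eq_mul]
  unfold Jm
  split_ifs with h
  · have := congrArg (fun u : Fˣ => (u : F)) (hd j)
    beta_reduce at this
    rw [Units.val_mul] at this
    rw [← this, h]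
    ring
  · simp

theorem conj_dgU_mem {d : Fin (2 * m) → Fˣ} {l : Fˣ} (hd : ∀ k, d k * d k.rev = l)
    {h : GL (Fin (2 * m)) F} (hh : h ∈ SpH m F) : dgU d * h * (dgU d)⁻¹ ∈ SpH m F := by
  have hd' : ∀ k, (fun i => (d i)⁻¹) k * (fun i => (d i)⁻¹) k.rev = l⁻¹ := by
    intro k
    beta_reduce
    rw [← mul_inv, hd k]
  rw [mem_SpH_iff] at hh ⊢
  have h1 := dgU_J (F := F) hd
  have h2 := dgU_J (F := F) hd'
  rw [← dgU_inv] at h2
  obtain ⟨D, hD⟩ : ∃ D : Matrix (Fin (2 * m)) (Fin (2 * m)) F,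
      D = ((dgU d : GL (Fin (2 * m)) F) : Matrix (Fin (2 * m)) (Fin (2 * m)) F) := ⟨_, rfl⟩
  obtain ⟨D', hD'⟩ : ∃ D' : Matrix (Fin (2 * m)) (Fin (2 * m)) F,
      D' = (((dgU d)⁻¹ : GL (Fin (2 * m)) F) : Matrix (Fin (2 * m)) (Fin (2 * m)) F) := ⟨_, rfl⟩
  obtain ⟨H, hH⟩ : ∃ H : Matrix (Fin (2 * m)) (Fin (2 * m)) F,
      H = (h : Matrix (Fin (2 * m)) (Fin (2 * m)) F) := ⟨_, rfl⟩
  rw [Units.val_mul, Units.val_mul, ← hD, ← hD', ← hH]
  rw [← hD] at h1
  rw [← hD'] at h2
  rw [← hH] at hh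
  calc (D * H * D')ᵀ * Jm m F * (D * H * D')
      = D'ᵀ * (Hᵀ * (Dᵀ * Jm m F * D) * H) * D' := by
        simp only [Matrix.transpose_mul, Matrix.mul_assoc]
    _ = (l : F) • (D'ᵀ * (Hᵀ * Jm m F * H) * D') := by
        rw [h1]
        simp only [Matrix.mul_smul, Matrix.smul_mul]
    _ = Jm m F := by
        rw [hh, h2, smul_smul, Units.val_inv_eq_inv_val, mul_inv_cancel₀ (Units.ne_zero l),
          one_smul]

theorem conj_dgU_mem' {d : Fin (2 * m) → Fˣ} {l : Fˣ} (hd : ∀ k, d k * d k.rev = l)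
    {h : GL (Fin (2 * m)) F} (hh : h ∈ SpH m F) : (dgU d)⁻¹ * h * dgU d ∈ SpH m F := by
  have hd' : ∀ k, (fun i => (d i)⁻¹) k * (fun i => (d i)⁻¹) k.rev = l⁻¹ := by
    intro k
    beta_reduce
    rw [← mul_inv, hd k]
  have := conj_dgU_mem (F := F) hd' hh
  rw [← dgU_inv, inv_inv] at this
  exact this

/-- the diagonal automorphism of the symplectic group -/
noncomputable def conjS (d : Fin (2 * m) → Fˣ) (l : Fˣ) (hd : ∀ k, d k * d k.rev = l) :
    ↥(SpH m F) ≃* ↥(SpH m F) where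
  toFun h := ⟨dgU d * h * (dgU d)⁻¹, conj_dgU_mem hd h.2⟩
  invFun h := ⟨(dgU d)⁻¹ * h * dgU d, conj_dgU_mem' hd h.2⟩
  left_inv h := by
    apply Subtype.ext
    show (dgU d)⁻¹ * (dgU d * h * (dgU d)⁻¹) * dgU d = h
    group
  right_inv h := by
    apply Subtype.ext
    show dgU d * ((dgU d)⁻¹ * h * dgU d) * (dgU d)⁻¹ = h
    group
  map_mul' g h := by
    apply Subtype.ext
    show dgU d * (g * h : ↥(SpH m F)) * (dgU d)⁻¹ = (dgU d * g * (dgU d)⁻¹) * (dgU d * h * (dgU d)⁻¹)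
    rw [Subgroup.coe_mul]
    group

theorem conjS_coe (d : Fin (2 * m) → Fˣ) (l : Fˣ) (hd : ∀ k, d k * d k.rev = l)
    (h : ↥(SpH m F)) :
    ((conjS d l hd h : ↥(SpH m F)) : GL (Fin (2 * m)) F) = dgU d * h * (dgU d)⁻¹ := rfl

theorem conj_dgU_rt {d : Fin (2 * m) → Fˣ} {l : Fˣ} (hd : ∀ k, d k * d k.rev = l)
    (a b : Fin (2 * m)) (hab : a ≠ b) (c : F) :
    dgU d * rt a b hab c * (dgU d)⁻¹ = rt a b hab (d a * c * ((d b)⁻¹ : Fˣ)) := by
  have hdF : ∀ k, (d k : F) * d k.rev = l := by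
    intro k
    rw [← Units.val_mul, hd k]
  apply gl_ext_mulVec
  intro x i
  rw [Units.val_mul, Units.val_mul, ← Matrix.mulVec_mulVec, ← Matrix.mulVec_mulVec, dgU_mulVec,
    rt_mulVec, rt_mulVec, dgU_inv]
  simp only [dgU_mulVec]
  have hi : (d i : F) ≠ 0 := Units.ne_zero _
  have hb : (d b : F) ≠ 0 := Units.ne_zero _
  have ha : (d a : F) ≠ 0 := Units.ne_zero _
  have ha' : (d a.rev : F) ≠ 0 := Units.ne_zero _
  have hb' : (d b.rev : F) ≠ 0 := Units.ne_zero _
  simp only [Units.val_inv_eq_inv_val]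
  rw [mul_add, mul_add, mul_inv_cancel_left₀ hi]
  congr 1
  · congr 1
    split_ifs with h1
    · rw [h1]; field_simp
    · rw [mul_zero]
  · split_ifs with h1 h2
    · rw [mul_zero]
    · rw [h2]
      have e1 := hdF a
      have e2 := hdF b
      field_simp
      rw [← e1] at e2
      linear_combination (-(eps m F a * eps m F b * c * x a.rev)) * e2
    · rw [mul_zero]

theorem conjS_xp (d : Fin (2 * m) → Fˣ) (l : Fˣ) (hd : ∀ k, d k * d k.rev = l) (i : Fin m)
    (t : F) : conjS d l hd (xp i t) = xp i (d (kk i) * t * ((d (kk' i))⁻¹ : Fˣ)) := by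
  apply Subtype.ext
  rw [conjS_coe, xp_coe, xp_coe, conj_dgU_rt hd]

theorem conjS_xm (d : Fin (2 * m) → Fˣ) (l : Fˣ) (hd : ∀ k, d k * d k.rev = l) (i : Fin m)
    (t : F) : conjS d l hd (xm i t) = xm i (d (kk' i) * t * ((d (kk i))⁻¹ : Fˣ)) := by
  apply Subtype.ext
  rw [conjS_coe, xm_coe, xm_coe, conj_dgU_rt hd]

/-- a conformal diagonal matrix with prescribed ratios at the fundamental roots -/
theorem exists_diag (c : Fin m → Fˣ) :
    ∃ (d : Fin (2 * m) → Fˣ) (l : Fˣ), (∀ k, d k * d k.rev = l) ∧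
      ∀ i : Fin m, d (kk i) * (d (kk' i))⁻¹ = c i := by
  obtain ⟨c', hc'⟩ : ∃ c' : ℕ → Fˣ, ∀ i : Fin m, c' i = c i :=
    ⟨fun j => if h : j < m then c ⟨j, h⟩ else 1, fun i => by simp [i.2]⟩
  obtain ⟨e, he⟩ : ∃ e : ℕ → Fˣ, ∀ k, e k = ∏ j ∈ Finset.Ico k m, c' j := ⟨_, fun _ => rfl⟩
  have hstep : ∀ k, k < m → e k = c' k * e (k + 1) := by
    intro k hk
    rw [he, he, Finset.prod_eq_prod_Ico_succ_bot hk]
  have hlast : e m = 1 := by rw [he, Finset.Ico_self, Finset.prod_empty]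
  refine ⟨fun k => if (k : ℕ) < m then e k else e (m - 1) * (e (2 * m - 1 - k))⁻¹, e (m - 1),
    ?_, ?_⟩
  · intro k
    beta_reduce
    by_cases hk : (k : ℕ) < m
    · have hk' : ¬ ((k.rev : Fin (2 * m)) : ℕ) < m := by rw [Fin.val_rev]; omega
      rw [if_pos hk, if_neg hk', Fin.val_rev]
      have : 2 * m - 1 - (2 * m - (k + 1)) = k := by omega
      rw [this, mul_comm (e (m - 1)), mul_inv_cancel_left]
    · have hk' : ((k.rev : Fin (2 * m)) : ℕ) < m := by rw [Fin.val_rev]; have := k.2; omega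
      rw [if_neg hk, if_pos hk', Fin.val_rev]
      have : 2 * m - (k + 1) = 2 * m - 1 - k := by omega
      rw [this, inv_mul_cancel_right]
  · intro i
    beta_reduce
    have hi := i.2
    rw [if_pos (by rw [kk_val]; exact hi), kk_val, kk'_val]
    by_cases h1 : (i : ℕ) + 1 < m
    · rw [if_pos h1, hstep i hi, hc' i, mul_inv_cancel_right]
    · have h3 : 2 * m - 1 - ((i : ℕ) + 1) = m - 1 := by omega
      have h4 : (i : ℕ) + 1 = m := by omega
      rw [if_neg h1, h3, mul_inv_cancel, inv_one, mul_one, hstep i hi, h4, hlast, mul_one, hc' i]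

end Cfsg.Agent.Lib.Helper8.AutSp
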