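import Cfsg.Agent.Lib.Helper8.AutSp.Opp
import Mathlib

/-!
# The normal form of the automorphisms of a central quotient of `Sp_{2m}(F)` (helper8)
-/

set_option autoImplicit false

namespace Cfsg.Agent.Lib.Helper8.AutSp

open Matrix Cfsg Cfsg.Agent.Lib.Helper5.GLBN Cfsg.Agent.Lib.Helper5.BN
open Cfsg.Agent.Lib.Helper5.AutBN Cfsg.Agent.Lib.Helper8.SpBN
open scoped MatrixGroups

variable {m : ℕ} {F : Type*} [Field F]

theorem range_sG (hm : 0 < m) :
    Set.range (fun i : Fin m => sG m F (i : ℕ)) = (spBN m F hm).S := by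
  ext x
  constructor
  · rintro ⟨i, rfl⟩
    exact sG_mem_S hm i.2
  · intro hx
    obtain ⟨j, hj, rfl⟩ := sG_surj hm x hx
    exact ⟨⟨j, Finset.mem_range.1 hj⟩, rfl⟩

/-- **The normal form of an automorphism of `Sp_{2m}(F)` modulo its centre**: after an inner
automorphism it fixes `U`, `V`, `B` and permutes the fundamental root subgroups. -/
theorem sp_normal_form [Finite F] (hm2 : 2 ≤ m) (p : ℕ) [Fact p.Prime] [CharP F p]
    {Q : Type*} [Group Q] [Finite Q] (f : ↥(SpH m F) →* Q) (hf : Function.Surjective f)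
    (hker : f.ker = Subgroup.center ↥(SpH m F)) (θ : Q ≃* Q) :
    ∃ (x : Q) (ρ : Equiv.Perm (Fin m)),
      ((UG m F).map f).map (θ.trans (MulAut.conj x⁻¹)).toMonoidHom = (UG m F).map f ∧
      ((VG (F := F) (by omega : 0 < m)).map f).map (θ.trans (MulAut.conj x⁻¹)).toMonoidHom
        = (VG (F := F) (by omega : 0 < m)).map f ∧
      ((spBN m F (by omega)).B.map f).map (θ.trans (MulAut.conj x⁻¹)).toMonoidHom
        = (spBN m F (by omega)).B.map f ∧
      (∀ J : Set (Fin m),
        (((spBN m F (by omega)).parabolic ((fun i : Fin m => sG m F (i : ℕ)) '' J)).map f).map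
            (θ.trans (MulAut.conj x⁻¹)).toMonoidHom
          = ((spBN m F (by omega)).parabolic
              ((fun i : Fin m => sG m F (i : ℕ)) '' (ρ '' J))).map f) ∧
      (∀ i, ((Xp (F := F) i).map f).map (θ.trans (MulAut.conj x⁻¹)).toMonoidHom
        = (Xp (ρ i)).map f) ∧
      (∀ i, ((Xm (F := F) i).map f).map (θ.trans (MulAut.conj x⁻¹)).toMonoidHom
        = (Xm (ρ i)).map f) := by
  have hm : 0 < m := by omega
  have hkerB : f.ker ≤ (spBN m F hm).B := by
    rw [hker]; exact center_le_BG (by omega)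
  apply exists_normal_form_push (spBN m F hm) f hf hkerB p (fun i : Fin m => sG m F (i : ℕ))
    (UG m F) (VG hm) (w0 hm) Xp Xm (sG_injective hm) (range_sG hm) (isPGroup_UG p)
    (UG_index_not_dvd p) UG_normal UG_le_BG (exists_TU_decomp hm)
  · rw [hker]; exact UG_inf_center hm
  · rfl
  · exact cj_w0_VG hm
  · exact BG_inf_VG hm
  · exact hopp_sp hm
  · exact parabolic_inf_VG hm
  · exact cj_w0_Xm hm
  · rintro i j hij _ ⟨t, rfl⟩ _ ⟨u, rfl⟩
    exact xp_xm_comm hij t u
  · intro i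
    refine ⟨xp i 1, ⟨1, rfl⟩, xm i 1, ⟨1, rfl⟩, ?_⟩
    intro hcon
    have hz : (xp i (1 : F) * xm i 1) * (xm i 1 * xp i 1)⁻¹ ∈ f.ker := by
      rw [MonoidHom.mem_ker, map_mul, map_inv, hcon, mul_inv_cancel]
    rw [hker] at hz
    apply xp_xm_ncomm hm2 i hz
    group

end Cfsg.Agent.Lib.Helper8.AutSp
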