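import Cfsg.Agent.Lib.Helper8.AutSp.Pos
import Cfsg.Agent.Lib.Helper8.AutSp.PathAut
import Cfsg.Agent.Lib.Helper8.AutSp.NormalForm
import Mathlib

/-!
# The permutation of the fundamental roots preserves the Dynkin diagram (helper8)
-/

set_option autoImplicit false

namespace Cfsg.Agent.Lib.Helper8.AutSp

open Matrix Cfsg Cfsg.Agent.Lib.Helper5.GLBN Cfsg.Agent.Lib.Helper5.BN
open Cfsg.Agent.Lib.Helper5.AutBN Cfsg.Agent.Lib.Helper8.SpBN
open scoped MatrixGroups

variable {m : ℕ} {F : Type*} [Field F]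

/-- non-adjacent fundamental root elements commute -/
theorem xp_xp_comm {i j : Fin m} (h : ¬ PAdj i j) (t u : F) :
    xp i t * xp j u = xp j u * xp i t := by
  by_cases hij : i = j
  · subst hij
    rw [xp_add, xp_add, add_comm]
  have hi := i.2
  have hj := j.2
  have hne : (i : ℕ) ≠ j := fun e => hij (Fin.ext e)
  unfold PAdj at h
  apply Subtype.ext
  rw [Subgroup.coe_mul, Subgroup.coe_mul, xp_coe, xp_coe]
  apply rt_comm_of_disjoint <;> intro e <;> have := congrArg Fin.val e <;>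
    simp only [kk_val, kk'_val, Fin.val_rev] at this <;> omega

/-- the product of a short and a long root element with the same first coordinate is not `1` -/
theorem rt_short_long_ne_one (a b : Fin (2 * m)) (h1 : a ≠ b) (h2 : b ≠ a.rev) (c d : F)
    (hd : d ≠ 0) : rt a b h1 c * rt a a.rev (self_ne_rev a) d ≠ 1 := by
  intro h
  have h3 : rt a b h1 c = rt a a.rev (self_ne_rev a) (-d) := by
    rw [← rt_inv, eq_inv_iff_mul_eq_one, h]
  have h4 := congrArg (fun g : GL (Fin (2 * m)) F =>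
    (g : Matrix (Fin (2 * m)) (Fin (2 * m)) F) a a.rev) h3
  beta_reduce at h4
  rw [rt_apply_self, rt_apply_ne a b h1 c (self_ne_rev a) (fun e => h2 e.2.symm)
    (fun e => h2 (by rw [e.1, Fin.rev_rev]))] at h4
  exact hd (neg_eq_zero.1 h4.symm)

/-- adjacent fundamental root elements do not commute -/
theorem xp_xp_ncomm {i j : Fin m} (h : (i : ℕ) + 1 = j) :
    xp i (1 : F) * xp j 1 ≠ xp j 1 * xp i 1 := by
  intro hc
  have hj := j.2
  have hc' := congrArg (Subtype.val) hc
  rw [Subgroup.coe_mul, Subgroup.coe_mul, xp_coe, xp_coe] at hc'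
  have e1 : kk j = kk' i := by apply Fin.ext; rw [kk_val, kk'_val, h]
  by_cases hs : (j : ℕ) + 1 < m
  · -- type `A₂`
    have hab := kk_ne i
    have hbc : kk' i ≠ kk' j := by
      intro e; have := congrArg Fin.val e; simp only [kk'_val] at this; omega
    have hac : kk i ≠ kk' j := by
      intro e; have := congrArg Fin.val e; simp only [kk_val, kk'_val] at this; omega
    have h2 : rt (kk j) (kk' j) (kk_ne j) (1 : F) = rt (kk' i) (kk' j) hbc 1 :=
      rt_congr e1 rfl _ _ rfl
    have h3 := posA (F := F) (kk i) (kk' i) (kk' j) (by rw [kk_val]; omega) (by rw [kk'_val]; omega)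
      (by rw [kk'_val]; omega) hab hbc hac 1 1
    rw [h2, h3, mul_assoc] at hc'
    exact rt_ne_one _ _ _ (by norm_num) (mul_eq_right.1 hc')
  · -- type `C₂`
    have hab := kk_ne i
    have e2 : kk' j = (kk' i).rev := by
      apply Fin.ext; rw [kk'_val, kk'_rev_val]; omega
    have h2 : rt (kk j) (kk' j) (kk_ne j) (1 : F)
        = rt (kk' i) (kk' i).rev (self_ne_rev _) 1 := rt_congr e1 e2 _ _ rfl
    have h3 := posC (F := F) (kk i) (kk' i) (by rw [kk_val]; omega) (by rw [kk'_val]; omega)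
      hab 1 1
    rw [h2, h3, mul_assoc] at hc'
    refine rt_short_long_ne_one _ _ _ ?_ _ _ (by norm_num) (mul_eq_right.1 hc')
    intro e
    exact hab (Fin.rev_injective e).symm

section quotient

variable {Q : Type*} [Group Q] (f : ↥(SpH m F) →* Q)
  (hker : f.ker = Subgroup.center ↥(SpH m F))

include hker

/-- `f` is injective on the unipotent radical -/
theorem f_inj_UG [Finite F] (hm : 0 < m) {u v : ↥(SpH m F)} (hu : u ∈ UG m F) (hv : v ∈ UG m F)
    (h : f u = f v) : u = v := by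
  have h1 : u * v⁻¹ ∈ UG m F ⊓ Subgroup.center ↥(SpH m F) := by
    refine Subgroup.mem_inf.2 ⟨mul_mem hu (inv_mem hv), ?_⟩
    rw [← hker, MonoidHom.mem_ker, map_mul, map_inv, h, mul_inv_cancel]
  rw [UG_inf_center hm, Subgroup.mem_bot] at h1
  exact mul_inv_eq_one.1 h1

/-- the images of two fundamental root groups commute exactly when the roots are not adjacent -/
theorem comm_iff_not_pAdj [Finite F] (i j : Fin m) :
    (∀ t u : F, f (xp i t) * f (xp j u) = f (xp j u) * f (xp i t)) ↔ ¬ PAdj i j := by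
  have hm : 0 < m := by have := i.2; omega
  constructor
  · intro h hadj
    have key : ∀ i j : Fin m, (i : ℕ) + 1 = j →
        f (xp i (1 : F)) * f (xp j 1) = f (xp j 1) * f (xp i 1) → False := by
      intro i j hij h1
      rw [← map_mul, ← map_mul] at h1
      exact xp_xp_ncomm hij (f_inj_UG f hker hm (mul_mem (xp_mem_UG i 1) (xp_mem_UG j 1))
        (mul_mem (xp_mem_UG j 1) (xp_mem_UG i 1)) h1)
    rcases hadj with h1 | h1
    · exact key i j h1 (h 1 1)
    · exact key j i h1 (h 1 1).symm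
  · intro h t u
    rw [← map_mul, ← map_mul, xp_xp_comm h]

omit hker in
/-- the parametrisation of the image of a fundamental root group under an automorphism -/
theorem exists_param_of_map {θ : Q ≃* Q} {i k : Fin m}
    (h : ((Xp (F := F) i).map f).map θ.toMonoidHom = (Xp k).map f) :
    (∀ t : F, ∃ s : F, θ (f (xp i t)) = f (xp k s)) ∧
      ∀ s : F, ∃ t : F, θ (f (xp i t)) = f (xp k s) := by
  constructor
  · intro t
    have h1 : θ (f (xp i t)) ∈ ((Xp (F := F) i).map f).map θ.toMonoidHom :=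
      ⟨f (xp i t), ⟨xp i t, ⟨t, rfl⟩, rfl⟩, rfl⟩
    rw [h] at h1
    obtain ⟨g, ⟨s, rfl⟩, hg⟩ := h1
    exact ⟨s, hg.symm⟩
  · intro s
    have h1 : f (xp k s) ∈ (Xp (F := F) k).map f := ⟨xp k s, ⟨s, rfl⟩, rfl⟩
    rw [← h] at h1
    obtain ⟨y, ⟨g, ⟨t, rfl⟩, rfl⟩, hy⟩ := h1
    exact ⟨t, hy⟩

omit hker in
theorem exists_param_of_map' {θ : Q ≃* Q} {i k : Fin m}
    (h : ((Xm (F := F) i).map f).map θ.toMonoidHom = (Xm k).map f) :
    (∀ t : F, ∃ s : F, θ (f (xm i t)) = f (xm k s)) ∧
      ∀ s : F, ∃ t : F, θ (f (xm i t)) = f (xm k s) := by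
  constructor
  · intro t
    have h1 : θ (f (xm i t)) ∈ ((Xm (F := F) i).map f).map θ.toMonoidHom :=
      ⟨f (xm i t), ⟨xm i t, ⟨t, rfl⟩, rfl⟩, rfl⟩
    rw [h] at h1
    obtain ⟨g, ⟨s, rfl⟩, hg⟩ := h1
    exact ⟨s, hg.symm⟩
  · intro s
    have h1 : f (xm k s) ∈ (Xm (F := F) k).map f := ⟨xm k s, ⟨s, rfl⟩, rfl⟩
    rw [← h] at h1
    obtain ⟨y, ⟨g, ⟨t, rfl⟩, rfl⟩, hy⟩ := h1
    exact ⟨t, hy⟩

/-- an automorphism permuting the images of the fundamental root groups induces the identity or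
the reversal of the Dynkin diagram -/
theorem perm_eq_one_or_rev [Finite F] {θ : Q ≃* Q} {ρ : Equiv.Perm (Fin m)}
    (h : ∀ i, ((Xp (F := F) i).map f).map θ.toMonoidHom = (Xp (ρ i)).map f) :
    ρ = 1 ∨ ρ = Fin.revPerm := by
  apply path_aut
  intro i j
  rw [← not_iff_not, ← comm_iff_not_pAdj f hker, ← comm_iff_not_pAdj f hker]
  constructor
  · intro h1 t u
    obtain ⟨s, hs⟩ := (exists_param_of_map f (h i)).1 t
    obtain ⟨s', hs'⟩ := (exists_param_of_map f (h j)).1 u
    apply θ.injective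
    rw [map_mul, map_mul, hs, hs', h1]
  · intro h1 t u
    obtain ⟨s, hs⟩ := (exists_param_of_map f (h i)).2 t
    obtain ⟨s', hs'⟩ := (exists_param_of_map f (h j)).2 u
    rw [← hs, ← hs', ← map_mul θ, ← map_mul θ, h1]

end quotient

end Cfsg.Agent.Lib.Helper8.AutSp
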