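import Cfsg.Agent.Lib.Helper8.AutSp.Push
import Cfsg.Agent.Lib.Helper8.SpBN.Unip
import Cfsg.Agent.Lib.Helper8.SpBN.Main
import Mathlib

/-!
# The split `(B, N)`-pair facts of the symplectic group needed for the normal form (helper8)
-/

set_option autoImplicit false

namespace Cfsg.Agent.Lib.Helper8.AutSp

open Matrix Cfsg Cfsg.Agent.Lib.Helper5.GLBN Cfsg.Agent.Lib.Helper5.BN
open Cfsg.Agent.Lib.Helper5.AutBN Cfsg.Agent.Lib.Helper8.SpBN
open scoped MatrixGroups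

variable {m : ℕ} {F : Type*} [Field F]

/-! ### unitriangular matrices -/

/-- the upper unitriangular matrices -/
def UUH (n : ℕ) (F : Type*) [Field F] : Subgroup (GL (Fin n) F) where
  carrier := {g | g ∈ upperTriangularGL n F ∧ ∀ i, (g : Matrix (Fin n) (Fin n) F) i i = 1}
  one_mem' := ⟨one_mem _, fun i => by simp⟩
  mul_mem' := by
    rintro a b ⟨ha, ha'⟩ ⟨hb, hb'⟩
    refine ⟨mul_mem ha hb, fun i => ?_⟩
    rw [upper_mul_diag ha hb, ha', hb', mul_one]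
  inv_mem' := by
    rintro a ⟨ha, ha'⟩
    refine ⟨inv_mem ha, fun i => ?_⟩
    have := upper_inv_diag ha i
    rw [ha', mul_one] at this
    exact this

theorem mem_UUH {n : ℕ} {g : GL (Fin n) F} : g ∈ UUH n F ↔
    g ∈ upperTriangularGL n F ∧ ∀ i, (g : Matrix (Fin n) (Fin n) F) i i = 1 := Iff.rfl

theorem mem_UG_iff' [Finite F] {g : ↥(SpH m F)} :
    g ∈ UG m F ↔ (g : GL (Fin (2 * m)) F) ∈ UUH (2 * m) F := mem_UG_iff

/-- the transpose of an invertible matrix -/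
def trGL {n : ℕ} (g : GL (Fin n) F) : GL (Fin n) F := invT g⁻¹

theorem trGL_coe {n : ℕ} (g : GL (Fin n) F) :
    ((trGL g : GL (Fin n) F) : Matrix (Fin n) (Fin n) F) = (g : Matrix (Fin n) (Fin n) F)ᵀ := by
  unfold trGL
  rw [invT_coe, inv_inv]

/-! ### the opposite unipotent subgroup -/

/-- the longest element of the Weyl group -/
def w0 (hm : 0 < m) : ↥(SpH m F) := ((n0 hm : (spBN m F hm).N) : ↥(SpH m F))

theorem w0_coe (hm : 0 < m) : ((w0 (F := F) hm : ↥(SpH m F)) : GL (Fin (2 * m)) F) = (JG m F)⁻¹ :=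
  rfl

theorem w0_mem_N (hm : 0 < m) : w0 (F := F) hm ∈ (spBN m F hm).N := (n0 hm).2

/-- the lower unitriangular symplectic matrices -/
noncomputable def VG [Finite F] (hm : 0 < m) : Subgroup ↥(SpH m F) := cj (w0 hm) (UG m F)

theorem mem_VG_iff [Finite F] (hm : 0 < m) {g : ↥(SpH m F)} :
    g ∈ VG hm ↔ (∀ i j, i < j →
        ((g : GL (Fin (2 * m)) F) : Matrix (Fin (2 * m)) (Fin (2 * m)) F) i j = 0) ∧
      ∀ i, ((g : GL (Fin (2 * m)) F) : Matrix (Fin (2 * m)) (Fin (2 * m)) F) i i = 1 := by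
  unfold VG
  rw [mem_cj, mem_UG_iff']
  have e : (((w0 hm)⁻¹ * g * w0 hm : ↥(SpH m F)) : GL (Fin (2 * m)) F)
      = invT (g : GL (Fin (2 * m)) F) := by
    rw [Subgroup.coe_mul, Subgroup.coe_mul, Subgroup.coe_inv, w0_coe, inv_inv]
    exact JG_conj_of_mem g.2
  rw [e]
  have h1 : invT (g : GL (Fin (2 * m)) F) ∈ UUH (2 * m) F ↔
      trGL (g : GL (Fin (2 * m)) F) ∈ UUH (2 * m) F := by
    have e2 : trGL (g : GL (Fin (2 * m)) F) = (invT (g : GL (Fin (2 * m)) F))⁻¹ := by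
      unfold trGL
      rw [eq_inv_iff_mul_eq_one, ← invT_mul, inv_mul_cancel, invT_one]
    rw [e2, inv_mem_iff]
  rw [h1, mem_UUH, mem_upper]
  simp only [trGL_coe, Matrix.transpose_apply]
  constructor
  · rintro ⟨h2, h3⟩
    exact ⟨fun i j hij => h2 j i hij, h3⟩
  · rintro ⟨h2, h3⟩
    exact ⟨fun i j hij => h2 j i hij, h3⟩

theorem BG_inf_VG [Finite F] (hm : 0 < m) : (spBN m F hm).B ⊓ VG hm = ⊥ := by
  rw [eq_bot_iff]
  rintro g ⟨hgB, hgV⟩
  have hgB' : g ∈ BG m F := hgB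
  rw [mem_BG, mem_upper] at hgB'
  obtain ⟨h1, h2⟩ := (mem_VG_iff hm).1 hgV
  rw [Subgroup.mem_bot]
  apply Subtype.ext
  apply Units.ext
  ext i j
  rw [Subgroup.coe_one, Units.val_one]
  rcases lt_trichotomy i j with h | h | h
  · rw [h1 i j h, Matrix.one_apply_ne (ne_of_lt h)]
  · rw [h, h2, Matrix.one_apply_eq]
  · rw [hgB' i j h, Matrix.one_apply_ne (ne_of_gt h)]

theorem w0_sq_mem_BG (hm : 0 < m) : w0 (F := F) hm * w0 hm ∈ BG m F := by
  rw [mem_BG, Subgroup.coe_mul, w0_coe, mem_upper]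
  intro i j hji
  rw [← _root_.mul_inv_rev, ← Units.inv_eq_val_inv]
  have : (JG m F * JG m F : GL (Fin (2 * m)) F) = ⟨-1, -1, by simp, by simp⟩ := by
    apply Units.ext
    rw [Units.val_mul, JG_coe, Jm_mul_Jm]
  rw [this]
  show (-1 : Matrix (Fin (2 * m)) (Fin (2 * m)) F) i j = 0
  rw [Matrix.neg_apply, Matrix.one_apply_ne (ne_of_gt hji), neg_zero]

theorem cj_w0_VG [Finite F] (hm : 0 < m) : cj (w0 hm) (VG hm) = UG m F := by
  unfold VG
  rw [cj_mul]
  apply cj_of_mem_normalizer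
  rw [Subgroup.mem_normalizer_iff]
  intro u
  constructor
  · exact UG_normal _ (w0_sq_mem_BG hm) u
  · intro h
    have := UG_normal _ (inv_mem (w0_sq_mem_BG (F := F) hm)) _ h
    have e : (w0 hm * w0 hm)⁻¹ * (w0 hm * w0 hm * u * (w0 hm * w0 hm)⁻¹) * (w0 hm * w0 hm)⁻¹⁻¹
        = u := by group
    rwa [e] at this

/-! ### the torus decomposition -/

theorem diagK_le_N (hm : 0 < m) : diagK (F := F) hm ≤ (spBN m F hm).N := by
  intro t ht
  show t ∈ NG m F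
  rw [mem_NG, mem_monoN]
  exact ⟨1, (mem_diagK_iff hm).1 ht⟩

theorem exists_TU_decomp [Finite F] (hm : 0 < m) :
    ∀ b ∈ (spBN m F hm).B, ∃ t ∈ (spBN m F hm).B ⊓ (spBN m F hm).N, ∃ u ∈ UG m F, b = t * u := by
  intro b hb
  obtain ⟨t, ht, hu⟩ := exists_torus_decomp hm (b := b) hb
  have htB : t ∈ BG m F := diagK_le hm ht
  refine ⟨t, ⟨htB, diagK_le_N hm ht⟩, t⁻¹ * (b * t⁻¹) * t⁻¹⁻¹, UG_normal _ (inv_mem htB) _ hu, ?_⟩
  group

/-! ### the centre -/

theorem center_cases_SpH (hm : 1 ≤ m) {z : ↥(SpH m F)} (hz : z ∈ Subgroup.center ↥(SpH m F)) :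
    ((z : GL (Fin (2 * m)) F) : Matrix (Fin (2 * m)) (Fin (2 * m)) F) = 1 ∨
      ((z : GL (Fin (2 * m)) F) : Matrix (Fin (2 * m)) (Fin (2 * m)) F) = -1 := by
  have hz' : (spIso m F).symm z ∈ Subgroup.center ↥(Matrix.symplecticGroup (Fin m) F) := by
    rw [Subgroup.mem_center_iff]
    intro y
    apply (spIso m F).injective
    rw [map_mul, map_mul, (spIso m F).apply_symm_apply]
    exact Subgroup.mem_center_iff.1 hz _
  have e : z = spIso m F ((spIso m F).symm z) := ((spIso m F).apply_symm_apply z).symm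
  rcases Cfsg.Agent.Lib.Helper5.SpProj.center_cases m hm _ hz' with h | h
  · left
    rw [e, h, map_one]; rfl
  · right
    rw [e, h, spIso_coe, toGLH_coe, Cfsg.Agent.Lib.Helper5.SpProj.negOne_val, map_neg, map_one]

theorem center_le_BG (hm : 1 ≤ m) : Subgroup.center ↥(SpH m F) ≤ BG m F := by
  intro z hz
  rw [mem_BG, mem_upper]
  intro i j hji
  rcases center_cases_SpH hm hz with h | h
  · rw [h, Matrix.one_apply_ne (ne_of_gt hji)]
  · rw [h, Matrix.neg_apply, Matrix.one_apply_ne (ne_of_gt hji), neg_zero]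

theorem UG_inf_center [Finite F] (hm : 0 < m) : UG m F ⊓ Subgroup.center ↥(SpH m F) = ⊥ := by
  rw [eq_bot_iff]
  rintro z ⟨hzU, hzZ⟩
  have hzV : z ∈ VG hm := by
    unfold VG
    rw [mem_cj]
    have : (w0 hm)⁻¹ * z * w0 hm = z := by
      rw [mul_assoc, ← Subgroup.mem_center_iff.1 hzZ (w0 hm), ← mul_assoc, inv_mul_cancel, one_mul]
    rw [this]
    exact hzU
  have : z ∈ (spBN m F hm).B ⊓ VG hm := ⟨UG_le_BG hzU, hzV⟩
  rw [BG_inf_VG] at this
  exact this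

end Cfsg.Agent.Lib.Helper8.AutSp
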