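import Cfsg.Agent.Lib.Helper8.AutSp.FieldCalc
import Mathlib

/-!
# A normalised root-stable automorphism is a field automorphism on the root groups (helper8)
-/

set_option autoImplicit false

namespace Cfsg.Agent.Lib.Helper8.AutSp

open Matrix Cfsg Cfsg.Agent.Lib.Helper5.GLBN Cfsg.Agent.Lib.Helper5.BN
open Cfsg.Agent.Lib.Helper5.AutBN Cfsg.Agent.Lib.Helper8.SpBN
open scoped MatrixGroups

variable {m : ℕ} {F : Type*} [Field F]

theorem nu_eq_N4a (i : Fin m) (hi : (i : ℕ) + 2 ≤ m) (t : F) : nu i t = N4a i hi t := by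
  unfold nu N4a
  rw [xp_eq_R4 _ hi, xm_eq_R4 _ hi]

theorem nu_succ_eq_N4b (i k : Fin m) (hi : (i : ℕ) + 2 = m) (hk : (k : ℕ) = i + 1) (t : F) :
    nu k t = N4b i hi.le t := by
  unfold nu N4b
  rw [xp_succ_eq_R4 i k hi hk, xm_succ_eq_R4 i k hi hk]

section quotient

variable {Q : Type*} [Group Q] (f : ↥(SpH m F) →* Q)
  (hker : f.ker = Subgroup.center ↥(SpH m F))
  {θ : Q ≃* Q} {A B : Fin m → F → F}
  (hA : ∀ i t, θ (f (xp i t)) = f (xp i (A i t)))
  (hB : ∀ i t, θ (f (xm i t)) = f (xm i (B i t)))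
  (h1 : ∀ i, A i 1 = 1)

include hker hA

theorem A_add (hm : 1 ≤ m) (i : Fin m) (t u : F) : A i (t + u) = A i t + A i u := by
  apply f_xp_inj f hker hm (i := i)
  rw [← hA, ← xp_add, map_mul, map_mul, hA, hA, ← map_mul, xp_add]

theorem A_zero (hm : 1 ≤ m) (i : Fin m) : A i 0 = 0 := by
  have := A_add f hker hA hm i 0 0
  rw [add_zero] at this
  exact left_eq_add.1 this

theorem A_neg (hm : 1 ≤ m) (i : Fin m) (t : F) : A i (-t) = - A i t := by
  have := A_add f hker hA hm i (-t) t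
  rw [neg_add_cancel, A_zero f hker hA hm] at this
  exact eq_neg_of_add_eq_zero_left this.symm

omit hA in
include hB in
theorem B_zero (hm : 1 ≤ m) (i : Fin m) : B i 0 = 0 := by
  apply f_xm_inj f hker hm (i := i)
  rw [← hB, xm_zero, map_one, map_one]

include hB h1

theorem theta_nu (hm2 : 2 ≤ m) (i : Fin m) : θ (f (nu i 1)) = f (nu i 1) := by
  apply aut_nu_one f hker hm2
  · rw [hA, h1]
  · intro t
    exact ⟨_, hB i t⟩

theorem rank_AB (hm2 : 2 ≤ m) (i : Fin m) {t : F} (ht : t ≠ 0) :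
    1 + A i t * B i (-(1 / t)) = 0 := by
  apply rank_one_of_aut f hker hm2 (i := i) (k := i) (t := t) (w := B i (-(1 / t ^ 2))) _ ht
    (hA i t) (hB i _) (hB i _)
  rw [hA, h1]

/-- the relations of type `C₂` -/
theorem c2_rel (hm2 : 2 ≤ m) (t u : F) :
    A (iPen hm2) (t * u) = A (iPen hm2) t * A (iLast (by omega : 0 < m)) u ∧
      A (iLast (by omega : 0 < m)) (t ^ 2 * u)
        = A (iPen hm2) t ^ 2 * A (iLast (by omega : 0 < m)) u := by
  obtain ⟨a, ha⟩ : ∃ a : Fin m, a = iPen hm2 := ⟨_, rfl⟩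
  obtain ⟨b, hb⟩ : ∃ b : Fin m, b = iLast (by omega : 0 < m) := ⟨_, rfl⟩
  rw [← ha, ← hb]
  have hi' : (a : ℕ) + 2 = m := by rw [ha]; exact iPen_add_two hm2
  have hk : (b : ℕ) = a + 1 := by rw [ha, hb]; exact iLast_eq hm2
  have eA : ∀ t : F, xp a t = R4 a hi'.le j0 j1 j01 t := fun t => xp_eq_R4 a hi'.le t
  have eB : ∀ t : F, xp b t = R4 a hi'.le j1 j2 j12 t := fun t => xp_succ_eq_R4 a b hi' hk t
  have nA : θ (f (N4a a hi'.le 1)) = f (N4a a hi'.le 1) := by
    have := theta_nu f hker hA hB h1 hm2 a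
    rw [nu_eq_N4a a hi'.le] at this
    exact this
  have nB : θ (f (N4b a hi'.le 1)) = f (N4b a hi'.le 1) := by
    have := theta_nu f hker hA hB h1 hm2 b
    rw [nu_succ_eq_N4b a b hi' hk] at this
    exact this
  have h03 : ∀ u : F, θ (f (R4 a hi'.le j0 j3 j03 u)) = f (R4 a hi'.le j0 j3 j03 (A b u)) := by
    intro u
    have e : ∀ v : F, R4 a hi'.le j0 j3 j03 v
        = N4a a hi'.le 1 * R4 a hi'.le j1 j2 j12 v * (N4a a hi'.le 1)⁻¹ := by
      intro v
      rw [r4_nuA_b]; group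
    rw [e u, e (A b u)]
    simp only [map_mul, map_inv, nA]
    rw [← eB, ← eB, hA]
  have h02 : ∀ c : F, θ (f (R4 a hi'.le j0 j2 j02 c)) = f (R4 a hi'.le j0 j2 j02 (A a c)) := by
    intro c
    have e : ∀ v : F, R4 a hi'.le j0 j2 j02 (-v)
        = N4b a hi'.le 1 * R4 a hi'.le j0 j1 j01 v * (N4b a hi'.le 1)⁻¹ := by
      intro v
      rw [r4_nuB_a]; group
    have e1 : c = - -c := (neg_neg c).symm
    have e2 : A a c = - (A a (-c)) := by rw [A_neg f hker hA (by omega), neg_neg]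
    rw [e2]
    conv_lhs => rw [e1]
    rw [e (-c), e (A a (-c))]
    simp only [map_mul, map_inv, nB]
    rw [← eA, ← eA, hA]
  have key := congrArg (fun g => θ (f g)) (r4_comm a hi'.le t u)
  simp only [map_mul, h02, h03] at key
  rw [← eA, ← eB, hA, hA] at key
  have key2 := congrArg f (r4_comm a hi'.le (A a t) (A b u))
  simp only [map_mul] at key2
  rw [← eA, ← eB] at key2
  rw [key2] at key
  have key3 := mul_right_cancel (mul_right_cancel key)
  rw [← map_mul, ← map_mul] at key3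
  obtain ⟨e1, e2⟩ := f_pair_inj f hker (by omega) a hi'.le key3
  exact ⟨e1.symm, e2.symm⟩

omit hB in
/-- the relations of type `A₂` -/
theorem a2_rel (i j : Fin m) (hij : (i : ℕ) + 1 = j) (hj : (j : ℕ) + 1 < m) (t u : F) :
    A j (t * u) = A i t * A j u := by
  have hac : kk i ≠ kk' j := by
    intro e; have := congrArg Fin.val e; simp only [kk_val, kk'_val] at this; omega
  have hbc : kk' i ≠ kk' j := by
    intro e; have := congrArg Fin.val e; simp only [kk'_val] at this; omega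
  have e1 : kk j = kk' i := by apply Fin.ext; rw [kk_val, kk'_val, hij]
  have rel : ∀ t u : F, xp i t * xp j u = rtS (kk i) (kk' j) hac (t * u) * xp j u * xp i t := by
    intro t u
    apply Subtype.ext
    have h2 : rt (kk j) (kk' j) (kk_ne j) u = rt (kk' i) (kk' j) hbc u :=
      rt_congr e1 rfl _ _ rfl
    show rt (kk i) (kk' i) (kk_ne i) t * rt (kk j) (kk' j) (kk_ne j) u
      = rt (kk i) (kk' j) hac (t * u) * rt (kk j) (kk' j) (kk_ne j) u
        * rt (kk i) (kk' i) (kk_ne i) t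
    rw [h2]
    exact posA (kk i) (kk' i) (kk' j) (by rw [kk_val]; omega) (by rw [kk'_val]; omega)
      (by rw [kk'_val]; omega) (kk_ne i) hbc hac t u
  have rel' : ∀ t u : F, rtS (kk i) (kk' j) hac (t * u)
      = xp i t * xp j u * (xp i t)⁻¹ * (xp j u)⁻¹ := by
    intro t u
    rw [rel]; group
  have hX : ∀ t u : F, θ (f (rtS (kk i) (kk' j) hac (t * u)))
      = f (rtS (kk i) (kk' j) hac (A i t * A j u)) := by
    intro t u
    rw [rel' t u, rel' (A i t) (A j u)]
    simp only [map_mul, map_inv, hA]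
  have h3 := hX 1 (t * u)
  rw [one_mul, h1, one_mul] at h3
  have h4 := hX t u
  rw [h3] at h4
  exact f_rtS_inj f hker (by omega) h4

/-- a normalised root-stable automorphism acts on the root groups as a field automorphism -/
theorem exists_field_aut [Finite F] (hm2 : 2 ≤ m) :
    ∃ σ : F ≃+* F, (∀ i t, A i t = σ t) ∧ (∀ i t, B i t = σ t) := by
  obtain ⟨a, ha⟩ : ∃ a : Fin m, a = iPen hm2 := ⟨_, rfl⟩
  obtain ⟨b, hb⟩ : ∃ b : Fin m, b = iLast (by omega : 0 < m) := ⟨_, rfl⟩
  have hc2 := c2_rel f hker hA hB h1 hm2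
  rw [← ha, ← hb] at hc2
  have hab : ∀ u, A b u = A a u := by
    intro u
    have := (hc2 1 u).1
    rw [one_mul, h1, one_mul] at this
    exact this.symm
  have hmul : ∀ t u, A a (t * u) = A a t * A a u := by
    intro t u
    rw [(hc2 t u).1, hab]
  have hshort : ∀ d : ℕ, ∀ i : Fin m, (i : ℕ) + d + 2 = m → ∀ t, A i t = A a t := by
    intro d
    induction d with
    | zero =>
      intro i hi t
      have : i = a := by
        rw [ha]; apply Fin.ext; rw [iPen_val]; omega
      rw [this]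
    | succ d ih =>
      intro i hi t
      obtain ⟨j, hj⟩ : ∃ j : Fin m, (j : ℕ) = i + 1 := ⟨⟨i + 1, by omega⟩, rfl⟩
      have h2 := a2_rel f hker hA h1 i j hj.symm (by omega) t 1
      rw [mul_one, h1, mul_one] at h2
      rw [← h2]
      exact ih j (by omega) t
  have hall : ∀ i : Fin m, ∀ t, A i t = A a t := by
    intro i t
    by_cases hi : (i : ℕ) + 2 ≤ m
    · exact hshort (m - 2 - i) i (by omega) t
    · have : i = b := by
        rw [hb]; apply Fin.ext; simp only [iLast]; have := i.2; omega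
      rw [this, hab]
  obtain ⟨σ₀, hσ₀⟩ : ∃ σ₀ : F →+* F, ∀ t, σ₀ t = A a t :=
    ⟨{ toFun := A a
       map_one' := h1 a
       map_mul' := hmul
       map_zero' := A_zero f hker hA (by omega) a
       map_add' := A_add f hker hA (by omega) a }, fun _ => rfl⟩
  obtain ⟨σ, hσ⟩ : ∃ σ : F ≃+* F, ∀ t, σ t = σ₀ t :=
    ⟨RingEquiv.ofBijective σ₀ ⟨σ₀.injective, Finite.injective_iff_surjective.1 σ₀.injective⟩,
      fun _ => rfl⟩
  have hAσ : ∀ i t, A i t = σ t := by
    intro i t
    rw [hall, hσ, hσ₀]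
  refine ⟨σ, hAσ, ?_⟩
  intro i s
  by_cases hs : s = 0
  · rw [hs, B_zero f hker hB (by omega), map_zero]
  · have ht : -(1 / s) ≠ 0 := by
      rw [neg_ne_zero]; exact one_div_ne_zero hs
    have h2 := rank_AB f hker hA hB h1 hm2 i ht
    have e : -(1 / -(1 / s)) = s := by field_simp
    rw [e, hAσ, map_neg, map_div₀, map_one] at h2
    have hσs : σ s ≠ 0 := (map_ne_zero σ).2 hs
    field_simp at h2
    linear_combination -h2

end quotient

end Cfsg.Agent.Lib.Helper8.AutSp
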