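import Cfsg.Agent.Lib.Helper8.AutSp.Braid
import Mathlib

/-!
# Injectivity statements for root elements modulo the centre (helper8)
-/

set_option autoImplicit false
set_option linter.unusedSimpArgs false
set_option linter.unnecessarySeqFocus false
set_option linter.unreachableTactic false
set_option linter.unusedTactic false

namespace Cfsg.Agent.Lib.Helper8.AutSp

open Matrix Cfsg Cfsg.Agent.Lib.Helper5.GLBN Cfsg.Agent.Lib.Helper5.BN
open Cfsg.Agent.Lib.Helper5.AutBN Cfsg.Agent.Lib.Helper8.SpBN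
open scoped MatrixGroups

variable {m : ℕ} {F : Type*} [Field F]

/-- the entries of a product of two root elements of `Sp₄` -/
theorem sp4_pair_entry (x y : F) :
    (((rt j0 j2 j02 x * rt j0 j3 j03 y : GL (Fin (2 * 2)) F) :
        Matrix (Fin (2 * 2)) (Fin (2 * 2)) F) j0 j2 = x) ∧
    (((rt j0 j2 j02 x * rt j0 j3 j03 y : GL (Fin (2 * 2)) F) :
        Matrix (Fin (2 * 2)) (Fin (2 * 2)) F) j0 j3 = y) := by
  constructor
  · rw [apply_eq_mulVec_single ((rt j0 j2 j02 x * rt j0 j3 j03 y : GL (Fin (2 * 2)) F) :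
        Matrix (Fin (2 * 2)) (Fin (2 * 2)) F) j0 j2]
    simp only [Units.val_mul, ← Matrix.mulVec_mulVec, rt_mulVec]
    simp [j0, j1, j2, j3, SpBN.eps, Fin.rev, Fin.ext_iff, Pi.single_apply]
  · rw [apply_eq_mulVec_single ((rt j0 j2 j02 x * rt j0 j3 j03 y : GL (Fin (2 * 2)) F) :
        Matrix (Fin (2 * 2)) (Fin (2 * 2)) F) j0 j3]
    simp only [Units.val_mul, ← Matrix.mulVec_mulVec, rt_mulVec]
    simp [j0, j1, j2, j3, SpBN.eps, Fin.rev, Fin.ext_iff, Pi.single_apply]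

/-- root elements as elements of the symplectic group -/
def rtS (a b : Fin (2 * m)) (hab : a ≠ b) (c : F) : ↥(SpH m F) :=
  ⟨rt a b hab c, rt_mem_SpH _ _ _ _⟩

theorem rtS_add (a b : Fin (2 * m)) (hab : a ≠ b) (c d : F) :
    rtS a b hab c * rtS a b hab d = rtS a b hab (c + d) := Subtype.ext (rt_add _ _ _ c d)

theorem rtS_zero (a b : Fin (2 * m)) (hab : a ≠ b) : rtS a b hab (0 : F) = 1 :=
  Subtype.ext (rt_zero _ _ _)

theorem rtS_inv (a b : Fin (2 * m)) (hab : a ≠ b) (c : F) :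
    (rtS a b hab c)⁻¹ = rtS a b hab (-c) := by
  rw [inv_eq_iff_mul_eq_one, rtS_add, add_neg_cancel, rtS_zero]

theorem xp_eq_rtS (i : Fin m) (t : F) : xp i t = rtS (kk i) (kk' i) (kk_ne i) t := rfl

theorem xm_eq_rtS (i : Fin m) (t : F) : xm i t = rtS (kk' i) (kk i) (kk_ne i).symm t := rfl

section quotient

variable {Q : Type*} [Group Q] (f : ↥(SpH m F) →* Q)
  (hker : f.ker = Subgroup.center ↥(SpH m F))

include hker

theorem f_rtS_inj (hm : 1 ≤ m) {a b : Fin (2 * m)} {hab : a ≠ b} {c c' : F}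
    (h : f (rtS a b hab c) = f (rtS a b hab c')) : c = c' := by
  have hz : rtS a b hab c * (rtS a b hab c')⁻¹ ∈ Subgroup.center ↥(SpH m F) := by
    rw [← hker, MonoidHom.mem_ker, map_mul, map_inv, h, mul_inv_cancel]
  rw [rtS_inv, rtS_add] at hz
  have := rt_center_eq_zero hm hz hab rfl
  linear_combination this

theorem f_xp_inj (hm : 1 ≤ m) {i : Fin m} {c c' : F} (h : f (xp i c) = f (xp i c')) : c = c' :=
  f_rtS_inj f hker hm h

theorem f_xm_inj (hm : 1 ≤ m) {i : Fin m} {c c' : F} (h : f (xm i c) = f (xm i c')) : c = c' :=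
  f_rtS_inj f hker hm h

theorem f_pair_inj (hm : 1 ≤ m) (i : Fin m) (hi : (i : ℕ) + 2 ≤ m) {c c' d d' : F}
    (h : f (R4 i hi j0 j2 j02 c * R4 i hi j0 j3 j03 d)
      = f (R4 i hi j0 j2 j02 c' * R4 i hi j0 j3 j03 d')) : c = c' ∧ d = d' := by
  have hz : (R4 i hi j0 j2 j02 c * R4 i hi j0 j3 j03 d)
      * (R4 i hi j0 j2 j02 c' * R4 i hi j0 j3 j03 d')⁻¹ ∈ Subgroup.center ↥(SpH m F) := by
    rw [← hker, MonoidHom.mem_ker, map_mul, map_inv, h, mul_inv_cancel]
  have e : (R4 i hi j0 j2 j02 c * R4 i hi j0 j3 j03 d)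
      * (R4 i hi j0 j2 j02 c' * R4 i hi j0 j3 j03 d')⁻¹
      = R4 i hi j0 j2 j02 (c + -c') * R4 i hi j0 j3 j03 (d + -d') := by
    rw [_root_.mul_inv_rev, R4_inv, R4_inv, mul_assoc,
      ← mul_assoc (R4 i hi j0 j3 j03 d), R4_add, ← r4_comm_ab_aab, ← mul_assoc, R4_add]
  rw [e] at hz
  have h1 : ∀ a b : Fin (2 * 2), a ≠ b →
      (((R4 i hi j0 j2 j02 (c + -c') * R4 i hi j0 j3 j03 (d + -d') : ↥(SpH m F)) :
        GL (Fin (2 * m)) F) : Matrix (Fin (2 * m)) (Fin (2 * m)) F) (eS i hi a) (eS i hi b)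
      = 0 := by
    intro a b hab
    have hne : eS i hi a ≠ eS i hi b := fun h' => hab ((spEmb_eS i hi).inj h')
    rcases center_cases_SpH hm hz with h2 | h2
    · rw [h2, Matrix.one_apply_ne hne]
    · rw [h2, Matrix.neg_apply, Matrix.one_apply_ne hne, neg_zero]
  have h2 := h1 j0 j2 j02
  have h3 := h1 j0 j3 j03
  rw [Subgroup.coe_mul, R4_coe, R4_coe, ← map_mul, embGL_coe,
    emb_apply_apply _ (spEmb_eS i hi).inj] at h2 h3
  rw [(sp4_pair_entry _ _).1] at h2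
  rw [(sp4_pair_entry _ _).2] at h3
  exact ⟨by linear_combination h2, by linear_combination h3⟩

end quotient

end Cfsg.Agent.Lib.Helper8.AutSp
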