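import Cfsg.Agent.Lib.Helper8.AutSp.GenRoot
import Cfsg.Agent.Lib.Helper8.AutSp.FieldCalc
import Mathlib

/-!
# The symplectic group is generated by its fundamental root groups (helper8)
-/

set_option autoImplicit false

namespace Cfsg.Agent.Lib.Helper8.AutSp

open Matrix Cfsg Cfsg.Agent.Lib.Helper5.GLBN Cfsg.Agent.Lib.Helper8.SpBN
open scoped MatrixGroups

variable {m : ℕ} {F : Type*} [Field F]

/-- the symmetry of the root elements -/
theorem rt_rev (a b : Fin (2 * m)) (hab : a ≠ b) (h : b ≠ a.rev) (c : F) :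
    rt a b hab c = rt b.rev a.rev (fun e => hab (Fin.rev_injective e).symm)
      (-(eps m F a * eps m F b * c)) := by
  have h' : a.rev ≠ b.rev.rev := by rw [Fin.rev_rev]; exact fun e => h e.symm
  apply gl_ext_mulVec
  intro x i
  rw [rt_mulVec, rt_mulVec, if_neg h, if_neg h', Fin.rev_rev, Fin.rev_rev, eps_rev, eps_rev]
  have ha : eps m F a = 1 ∨ eps m F a = -1 := by unfold eps; split_ifs <;> simp
  have hb : eps m F b = 1 ∨ eps m F b = -1 := by unfold eps; split_ifs <;> simp
  rcases ha with ha | ha <;> rcases hb with hb | hb <;> rw [ha, hb] <;> split_ifs <;> ring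

/-- the Weyl elements at arbitrary positions, in the symplectic group -/
def nPS (a b : Fin (2 * m)) (hab : a ≠ b) (t : F) : ↥(SpH m F) :=
  rtS a b hab t * rtS b a hab.symm (-(1 / t)) * rtS a b hab t

theorem nPS_coe (a b : Fin (2 * m)) (hab : a ≠ b) (t : F) :
    ((nPS a b hab t : ↥(SpH m F)) : GL (Fin (2 * m)) F) = nP a b hab t := rfl

theorem rtS_congr {a a' b b' : Fin (2 * m)} (ha : a = a') (hb : b = b') (h : a ≠ b)
    (h' : a' ≠ b') {c c' : F} (hc : c = c') : rtS a b h c = rtS a' b' h' c' := by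
  subst ha hb hc; rfl

section gen

variable (H : Subgroup ↥(SpH m F)) (hp : ∀ (i : Fin m) (t : F), xp i t ∈ H)
  (hn : ∀ (i : Fin m) (t : F), xm i t ∈ H)

include hp in
theorem step1_up : ∀ d : ℕ, ∀ a b : Fin (2 * m), (b : ℕ) < m → (a : ℕ) + d + 1 = b →
    ∀ (hab : a ≠ b) (c : F), rtS a b hab c ∈ H := by
  intro d
  induction d with
  | zero =>
    intro a b hb hd hab c
    have e : rtS a b hab c = xp (⟨a, by omega⟩ : Fin m) c := by
      apply Subtype.ext
      apply rt_congr _ _ _ _ rfl
      · rfl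
      · apply Fin.ext; rw [kk'_val]; show (b : ℕ) = (a : ℕ) + 1; omega
    rw [e]; exact hp _ _
  | succ d ih =>
    intro a b hb hd hab c
    obtain ⟨b', hb'⟩ : ∃ b' : Fin (2 * m), (b' : ℕ) = b - 1 := ⟨⟨b - 1, by omega⟩, rfl⟩
    have hab' : a ≠ b' := by intro e; have := congrArg Fin.val e; omega
    have hb'b : b' ≠ b := by intro e; have := congrArg Fin.val e; omega
    have h1 := ih a b' (by omega) (by omega) hab' c
    have h2 : rtS b' b hb'b (1 : F) ∈ H := by
      have e : rtS b' b hb'b (1 : F) = xp (⟨b', by omega⟩ : Fin m) 1 := by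
        apply Subtype.ext
        apply rt_congr _ _ _ _ rfl
        · rfl
        · apply Fin.ext; rw [kk'_val]; show (b : ℕ) = b' + 1; omega
      rw [e]; exact hp _ _
    have rel := posA (F := F) a b' b (by omega) (by omega) hb hab' hb'b hab c 1
    have e : rtS a b hab (c * 1)
        = rtS a b' hab' c * rtS b' b hb'b 1 * (rtS a b' hab' c)⁻¹ * (rtS b' b hb'b 1)⁻¹ := by
      have rel' : rtS a b' hab' c * rtS b' b hb'b 1
          = rtS a b hab (c * 1) * rtS b' b hb'b 1 * rtS a b' hab' c := Subtype.ext rel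
      rw [rel']; group
    rw [mul_one] at e
    rw [e]
    exact mul_mem (mul_mem (mul_mem h1 h2) (inv_mem h1)) (inv_mem h2)

include hn in
theorem step1_down : ∀ d : ℕ, ∀ a b : Fin (2 * m), (a : ℕ) < m → (b : ℕ) + d + 1 = a →
    ∀ (hab : a ≠ b) (c : F), rtS a b hab c ∈ H := by
  intro d
  induction d with
  | zero =>
    intro a b ha hd hab c
    have e : rtS a b hab c = xm (⟨b, by omega⟩ : Fin m) c := by
      apply Subtype.ext
      apply rt_congr _ _ _ _ rfl
      · apply Fin.ext; rw [kk'_val]; show (a : ℕ) = (b : ℕ) + 1; omega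
      · rfl
    rw [e]; exact hn _ _
  | succ d ih =>
    intro a b ha hd hab c
    obtain ⟨a', ha'⟩ : ∃ a' : Fin (2 * m), (a' : ℕ) = a - 1 := ⟨⟨a - 1, by omega⟩, rfl⟩
    have haa' : a ≠ a' := by intro e; have := congrArg Fin.val e; omega
    have ha'b : a' ≠ b := by intro e; have := congrArg Fin.val e; omega
    have h1 := ih a' b (by omega) (by omega) ha'b 1
    have h2 : rtS a a' haa' c ∈ H := by
      have e : rtS a a' haa' c = xm (⟨a', by omega⟩ : Fin m) c := by
        apply Subtype.ext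
        apply rt_congr _ _ _ _ rfl
        · apply Fin.ext; rw [kk'_val]; show (a : ℕ) = a' + 1; omega
        · rfl
      rw [e]; exact hn _ _
    have rel := posA (F := F) a a' b ha (by omega) (by omega) haa' ha'b hab c 1
    have e : rtS a b hab (c * 1)
        = rtS a a' haa' c * rtS a' b ha'b 1 * (rtS a a' haa' c)⁻¹ * (rtS a' b ha'b 1)⁻¹ := by
      have rel' : rtS a a' haa' c * rtS a' b ha'b 1
          = rtS a b hab (c * 1) * rtS a' b ha'b 1 * rtS a a' haa' c := Subtype.ext rel
      rw [rel']; group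
    rw [mul_one] at e
    rw [e]
    exact mul_mem (mul_mem (mul_mem h2 h1) (inv_mem h2)) (inv_mem h1)

include hp hn

/-- the root elements of type `e_a - e_b` -/
theorem step1 (a b : Fin (2 * m)) (ha : (a : ℕ) < m) (hb : (b : ℕ) < m) (hab : a ≠ b) (c : F) :
    rtS a b hab c ∈ H := by
  rcases lt_or_gt_of_ne (fun e => hab (Fin.ext e) : (a : ℕ) ≠ b) with h | h
  · exact step1_up H hp (b - a - 1) a b hb (by omega) hab c
  · exact step1_down H hn (a - b - 1) a b ha (by omega) hab c

theorem nPS_mem (a b : Fin (2 * m)) (ha : (a : ℕ) < m) (hb : (b : ℕ) < m) (hab : a ≠ b) (t : F) :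
    nPS a b hab t ∈ H :=
  mul_mem (mul_mem (step1 H hp hn a b ha hb hab t) (step1 H hp hn b a hb ha hab.symm _))
    (step1 H hp hn a b ha hb hab t)

/-- the long root elements -/
theorem step2 (hm : 0 < m) (a : Fin (2 * m)) (ha : (a : ℕ) < m) (c : F) :
    rtS a a.rev (self_ne_rev a) c ∈ H ∧ rtS a.rev a (self_ne_rev a).symm c ∈ H := by
  obtain ⟨b, hb⟩ : ∃ b : Fin (2 * m), (b : ℕ) = m - 1 := ⟨⟨m - 1, by omega⟩, rfl⟩
  have hbl : (b : ℕ) < m := by omega
  have hbrev : kk' (⟨b, hbl⟩ : Fin m) = b.rev := by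
    apply Fin.ext; rw [kk'_val, Fin.val_rev]; show (b : ℕ) + 1 = _; omega
  have h1 : ∀ c : F, rtS b b.rev (self_ne_rev b) c ∈ H := by
    intro c
    have e : rtS b b.rev (self_ne_rev b) c = xp (⟨b, hbl⟩ : Fin m) c := by
      apply Subtype.ext
      exact rt_congr rfl hbrev.symm _ _ rfl
    rw [e]; exact hp _ _
  have h2 : ∀ c : F, rtS b.rev b (self_ne_rev b).symm c ∈ H := by
    intro c
    have e : rtS b.rev b (self_ne_rev b).symm c = xm (⟨b, hbl⟩ : Fin m) c := by
      apply Subtype.ext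
      exact rt_congr hbrev.symm rfl _ _ rfl
    rw [e]; exact hn _ _
  by_cases hab : a = b
  · subst hab
    exact ⟨h1 c, h2 c⟩
  · have hn1 := nPS_mem H hp hn a b ha hbl hab 1
    constructor
    · have rel := pos_nuA_b (F := F) a b ha hbl hab c
      have e : rtS a a.rev (self_ne_rev a) c
          = nPS a b hab 1 * rtS b b.rev (self_ne_rev b) c * (nPS a b hab 1)⁻¹ := by
        have rel' : nPS a b hab 1 * rtS b b.rev (self_ne_rev b) c
            = rtS a a.rev (self_ne_rev a) c * nPS a b hab 1 := Subtype.ext rel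
        rw [rel']; group
      rw [e]
      exact mul_mem (mul_mem hn1 (h1 c)) (inv_mem hn1)
    · have rel := pos_nuA_mb (F := F) a b ha hbl hab c
      have e : rtS a.rev a (self_ne_rev a).symm c
          = nPS a b hab 1 * rtS b.rev b (self_ne_rev b).symm c * (nPS a b hab 1)⁻¹ := by
        have rel' : nPS a b hab 1 * rtS b.rev b (self_ne_rev b).symm c
            = rtS a.rev a (self_ne_rev a).symm c * nPS a b hab 1 := Subtype.ext rel
        rw [rel']; group
      rw [e]
      exact mul_mem (mul_mem hn1 (h2 c)) (inv_mem hn1)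

/-- the root elements of type `± (e_a + e_b)` -/
theorem step3 (hm : 0 < m) (a b : Fin (2 * m)) (ha : (a : ℕ) < m) (hb : (b : ℕ) < m)
    (hab : a ≠ b) (c : F) :
    rtS a b.rev (ne_rev_of_lt ha hb) c ∈ H ∧ rtS b.rev a (ne_rev_of_lt ha hb).symm c ∈ H := by
  have hn1 : nPS b b.rev (self_ne_rev b) (1 : F) ∈ H :=
    mul_mem (mul_mem (step2 H hp hn hm b hb 1).1 (step2 H hp hn hm b hb _).2)
      (step2 H hp hn hm b hb 1).1
  constructor
  · have rel := pos_nuB_a (F := F) a b ha hb hab (-c)
    rw [neg_neg] at rel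
    have e : rtS a b.rev (ne_rev_of_lt ha hb) c
        = nPS b b.rev (self_ne_rev b) 1 * rtS a b hab (-c) * (nPS b b.rev (self_ne_rev b) 1)⁻¹ := by
      have rel' : nPS b b.rev (self_ne_rev b) 1 * rtS a b hab (-c)
          = rtS a b.rev (ne_rev_of_lt ha hb) c * nPS b b.rev (self_ne_rev b) 1 := Subtype.ext rel
      rw [rel']; group
    rw [e]
    exact mul_mem (mul_mem hn1 (step1 H hp hn a b ha hb hab _)) (inv_mem hn1)
  · have rel := pos_nuB_ma (F := F) a b ha hb hab (-c)
    rw [neg_neg] at rel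
    have e : rtS b.rev a (ne_rev_of_lt ha hb).symm c
        = nPS b b.rev (self_ne_rev b) 1 * rtS b a hab.symm (-c)
          * (nPS b b.rev (self_ne_rev b) 1)⁻¹ := by
      have rel' : nPS b b.rev (self_ne_rev b) 1 * rtS b a hab.symm (-c)
          = rtS b.rev a (ne_rev_of_lt ha hb).symm c * nPS b b.rev (self_ne_rev b) 1 :=
        Subtype.ext rel
      rw [rel']; group
    rw [e]
    exact mul_mem (mul_mem hn1 (step1 H hp hn b a hb ha hab.symm _)) (inv_mem hn1)

/-- all root elements lie in the subgroup generated by the fundamental root groups -/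
theorem rtS_mem (hm : 0 < m) (a b : Fin (2 * m)) (hab : a ≠ b) (c : F) : rtS a b hab c ∈ H := by
  have hrev : ∀ x : Fin (2 * m), ¬ (x : ℕ) < m → ((x.rev : Fin (2 * m)) : ℕ) < m := by
    intro x hx; rw [Fin.val_rev]; have := x.2; omega
  by_cases ha : (a : ℕ) < m <;> by_cases hb : (b : ℕ) < m
  · exact step1 H hp hn a b ha hb hab c
  · -- `b = b'.rev`
    by_cases h : b.rev = a
    · have e : rtS a b hab c = rtS a a.rev (self_ne_rev a) c :=
        rtS_congr rfl (by rw [← h, Fin.rev_rev]) _ _ rfl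
      rw [e]; exact (step2 H hp hn hm a ha c).1
    · have e : rtS a b hab c = rtS a b.rev.rev (ne_rev_of_lt ha (hrev b hb)) c :=
        rtS_congr rfl (Fin.rev_rev b).symm _ _ rfl
      rw [e]
      exact (step3 H hp hn hm a b.rev ha (hrev b hb) (fun e => h e.symm) c).1
  · by_cases h : a.rev = b
    · have e : rtS a b hab c = rtS b.rev b (self_ne_rev b).symm c :=
        rtS_congr (by rw [← h, Fin.rev_rev]) rfl _ _ rfl
      rw [e]; exact (step2 H hp hn hm b hb c).2
    · have e : rtS a b hab c = rtS a.rev.rev b (ne_rev_of_lt hb (hrev a ha)).symm c :=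
        rtS_congr (Fin.rev_rev a).symm rfl _ _ rfl
      rw [e]
      exact (step3 H hp hn hm b a.rev hb (hrev a ha) (fun e => h e.symm) c).2
  · have hne : b ≠ a.rev := by
      intro e
      have := congrArg Fin.val e
      rw [Fin.val_rev] at this
      have := a.2
      omega
    have e : rtS a b hab c = rtS b.rev a.rev (fun e => hab (Fin.rev_injective e).symm)
        (-(eps m F a * eps m F b * c)) := Subtype.ext (rt_rev a b hab hne c)
    rw [e]
    exact step1 H hp hn b.rev a.rev (hrev b hb) (hrev a ha) _ _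

end gen

/-- the symplectic group is generated by its fundamental root groups -/
theorem closure_simple_eq_top (hm : 0 < m) :
    Subgroup.closure ({g : ↥(SpH m F) | ∃ (i : Fin m) (t : F), g = xp i t} ∪
      {g : ↥(SpH m F) | ∃ (i : Fin m) (t : F), g = xm i t}) = ⊤ := by
  rw [eq_top_iff]
  intro g _
  obtain ⟨H, hH⟩ : ∃ H : Subgroup ↥(SpH m F), H = Subgroup.closure
      ({g : ↥(SpH m F) | ∃ (i : Fin m) (t : F), g = xp i t} ∪
        {g : ↥(SpH m F) | ∃ (i : Fin m) (t : F), g = xm i t}) := ⟨_, rfl⟩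
  rw [← hH]
  have hp : ∀ (i : Fin m) (t : F), xp i t ∈ H := by
    intro i t; rw [hH]; exact Subgroup.subset_closure (Or.inl ⟨i, t, rfl⟩)
  have hn : ∀ (i : Fin m) (t : F), xm i t ∈ H := by
    intro i t; rw [hH]; exact Subgroup.subset_closure (Or.inr ⟨i, t, rfl⟩)
  have hle : SpH m F ≤ H.map (SpH m F).subtype := by
    apply SpH_le_of_roots _ _ _ hm
    · intro a b hab c
      exact ⟨rtS a b hab c, rtS_mem H hp hn hm a b hab c, rfl⟩
    · rintro _ ⟨x, _, rfl⟩
      exact x.2
  obtain ⟨x, hx, hxg⟩ := hle g.2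
  have : x = g := Subtype.ext hxg
  rw [← this]; exact hx

end Cfsg.Agent.Lib.Helper8.AutSp
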