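import Cfsg.Agent.Lib.Helper8.AutSp.Auts
import Cfsg.Agent.Lib.Helper8.SpBN.Iso
import Cfsg.Agent.Lib.Helper5.Symp
import Cfsg.Prelude.Def_LieTypeDatum
import Mathlib

/-!
# The automorphisms of `PSp_{2m}(F)` induced by semilinear maps (helper8)
-/

set_option autoImplicit false

namespace Cfsg.Agent.Lib.Helper8.AutSp

open Matrix Cfsg Cfsg.Agent.Lib.Helper5.GLBN Cfsg.Agent.Lib.Helper8.SpBN
open scoped MatrixGroups

variable {m : ℕ} {F : Type*} [Field F]

/-- the projection of the symplectic group onto `PSp` -/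
noncomputable def fP (m : ℕ) (F : Type*) [Field F] : ↥(SpH m F) →* PSp m F :=
  (QuotientGroup.mk' (Subgroup.center ↥(Matrix.symplecticGroup (Fin m) F))).comp
    (spIso m F).symm.toMonoidHom

theorem fP_apply (h : ↥(SpH m F)) :
    fP m F h = QuotientGroup.mk ((spIso m F).symm h) := rfl

theorem fP_spIso (s : ↥(Matrix.symplecticGroup (Fin m) F)) :
    fP m F (spIso m F s) = QuotientGroup.mk s := by
  rw [fP_apply, MulEquiv.symm_apply_apply]

theorem fP_surjective : Function.Surjective (fP m F) := by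
  intro q
  obtain ⟨s, rfl⟩ := QuotientGroup.mk_surjective q
  exact ⟨spIso m F s, fP_spIso s⟩

theorem fP_ker : (fP m F).ker = Subgroup.center ↥(SpH m F) := by
  ext h
  rw [MonoidHom.mem_ker, fP_apply, QuotientGroup.eq_one_iff]
  constructor
  · intro hh
    have := mulEquiv_center_of hh (spIso m F)
    rwa [MulEquiv.apply_symm_apply] at this
  · intro hh
    exact mulEquiv_center_of hh (spIso m F).symm

/-! ### reindexing -/

theorem Rx_symm_apply (M : Matrix (Fin (2 * m)) (Fin (2 * m)) F) (a b : Fin m ⊕ Fin m) :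
    (Rx m F).symm M a b = M (idxEquiv m a) (idxEquiv m b) := by
  have := Rx_apply ((Rx m F).symm M) a b
  rw [AlgEquiv.apply_symm_apply] at this
  exact this.symm

theorem Rx_map (σ : F ≃+* F) (M : Matrix (Fin m ⊕ Fin m) (Fin m ⊕ Fin m) F) :
    Rx m F (M.map σ) = (Rx m F M).map σ := by
  rw [Rx_eq, Rx_eq]
  rfl

/-- a matrix of size `2m` as a matrix indexed by `Fin m ⊕ Fin m` -/
noncomputable def gOf (D : GL (Fin (2 * m)) F) : GL (Fin m ⊕ Fin m) F :=
  Units.map ((Rx m F).symm.toRingEquiv.toMulEquiv.toMonoidHom) D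

theorem gOf_coe (D : GL (Fin (2 * m)) F) :
    ((gOf D : GL (Fin m ⊕ Fin m) F) : Matrix (Fin m ⊕ Fin m) (Fin m ⊕ Fin m) F)
      = (Rx m F).symm (D : Matrix (Fin (2 * m)) (Fin (2 * m)) F) := rfl

theorem gOf_inv_coe (D : GL (Fin (2 * m)) F) :
    (((gOf D)⁻¹ : GL (Fin m ⊕ Fin m) F) : Matrix (Fin m ⊕ Fin m) (Fin m ⊕ Fin m) F)
      = (Rx m F).symm ((D⁻¹ : GL (Fin (2 * m)) F) : Matrix (Fin (2 * m)) (Fin (2 * m)) F) := rfl

/-! ### the semilinear automorphisms -/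

/-- the automorphism `h ↦ D σ(h) D⁻¹` of the symplectic group -/
noncomputable def semiS (σ : F ≃+* F) (d : Fin (2 * m) → Fˣ) (l : Fˣ)
    (hd : ∀ k, d k * d k.rev = l) : ↥(SpH m F) ≃* ↥(SpH m F) :=
  (fieldS σ).trans (conjS d l hd)

theorem semiS_coe (σ : F ≃+* F) (d : Fin (2 * m) → Fˣ) (l : Fˣ)
    (hd : ∀ k, d k * d k.rev = l) (h : ↥(SpH m F)) :
    ((semiS σ d l hd h : ↥(SpH m F)) : GL (Fin (2 * m)) F)
      = dgU d * Matrix.GeneralLinearGroup.map (σ : F →+* F) (h : GL (Fin (2 * m)) F)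
        * (dgU d)⁻¹ := rfl

theorem semiS_xp (σ : F ≃+* F) (d : Fin (2 * m) → Fˣ) (l : Fˣ)
    (hd : ∀ k, d k * d k.rev = l) (i : Fin m) (t : F) :
    semiS σ d l hd (xp i t) = xp i (d (kk i) * σ t * ((d (kk' i))⁻¹ : Fˣ)) := by
  unfold semiS
  rw [MulEquiv.trans_apply, fieldS_xp, conjS_xp]

theorem semiS_xm (σ : F ≃+* F) (d : Fin (2 * m) → Fˣ) (l : Fˣ)
    (hd : ∀ k, d k * d k.rev = l) (i : Fin m) (t : F) :
    semiS σ d l hd (xm i t) = xm i (d (kk' i) * σ t * ((d (kk i))⁻¹ : Fˣ)) := by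
  unfold semiS
  rw [MulEquiv.trans_apply, fieldS_xm, conjS_xm]

/-- the automorphism of `PSp` induced by `h ↦ D σ(h) D⁻¹` -/
noncomputable def semiP (σ : F ≃+* F) (d : Fin (2 * m) → Fˣ) (l : Fˣ)
    (hd : ∀ k, d k * d k.rev = l) : PSp m F ≃* PSp m F :=
  descend (fP m F) fP_surjective fP_ker (semiS σ d l hd)

theorem semiP_apply (σ : F ≃+* F) (d : Fin (2 * m) → Fˣ) (l : Fˣ)
    (hd : ∀ k, d k * d k.rev = l) (h : ↥(SpH m F)) :
    semiP σ d l hd (fP m F h) = fP m F (semiS σ d l hd h) :=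
  descend_apply (fP m F) fP_surjective fP_ker _ h

theorem isInduced_semiP (σ : F ≃+* F) (d : Fin (2 * m) → Fˣ) (l : Fˣ)
    (hd : ∀ k, d k * d k.rev = l) :
    IsInducedBySemilinearPSp (gOf (dgU d)) σ (semiP σ d l hd) := by
  intro s s' hs'
  rw [← fP_spIso s, ← fP_spIso s', semiP_apply]
  congr 1
  apply Subtype.ext
  rw [semiS_coe, spIso_coe, spIso_coe]
  apply Units.ext
  rw [Units.val_mul, Units.val_mul, toGLH_coe, glMap_coe, toGLH_coe, hs', map_mul, map_mul,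
    gOf_coe, gOf_inv_coe, AlgEquiv.apply_symm_apply, AlgEquiv.apply_symm_apply, Rx_map]

theorem gOf_dgU_mem_GSp (d : Fin (2 * m) → Fˣ) (l : Fˣ) (hd : ∀ k, d k * d k.rev = l) :
    gOf (dgU d) ∈ GSp m F := by
  show ∃ c : Fˣ, ∀ u v, sympForm m F _ _ = (c : F) * sympForm m F u v
  refine ⟨l, fun u v => ?_⟩
  have h0 : (Rx m F).symm ((dgU d : GL (Fin (2 * m)) F) : Matrix (Fin (2 * m)) (Fin (2 * m)) F)
      = Matrix.diagonal (fun a => (d (idxEquiv m a) : F)) := by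
    ext a b
    rw [Rx_symm_apply, dgU_coe, Matrix.diagonal_apply, Matrix.diagonal_apply]
    simp [(idxEquiv m).injective.eq_iff]
  have h1 : ∀ w : Fin m ⊕ Fin m → F,
      ((gOf (dgU d) : GL (Fin m ⊕ Fin m) F) : Matrix (Fin m ⊕ Fin m) (Fin m ⊕ Fin m) F) *ᵥ w
        = fun a => (d (idxEquiv m a) : F) * w a := by
    intro w
    funext a
    rw [gOf_coe, h0, Matrix.mulVec_diagonal]
  rw [h1, h1, Cfsg.Agent.Lib.Helper5.Symp.sympForm_eq_sum,
    Cfsg.Agent.Lib.Helper5.Symp.sympForm_eq_sum, Finset.mul_sum]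
  apply Finset.sum_congr rfl
  intro i _
  have h2 : (d (idxEquiv m (Sum.inl i)) : F) * d (idxEquiv m (Sum.inr i)) = l := by
    have : idxEquiv m (Sum.inr i) = (idxEquiv m (Sum.inl i)).rev := by
      apply Fin.ext
      rw [Fin.val_rev, idx_val_inl, idx_val_inr]
      omega
    rw [this, ← Units.val_mul, hd]
  beta_reduce
  linear_combination (u (Sum.inr i) * v (Sum.inl i) - u (Sum.inl i) * v (Sum.inr i)) * h2

theorem semiP_mem_gamma (σ : F ≃+* F) (d : Fin (2 * m) → Fˣ) (l : Fˣ)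
    (hd : ∀ k, d k * d k.rev = l) : semiP σ d l hd ∈ gammaPSp m F :=
  Subgroup.subset_closure ⟨gOf (dgU d), σ, gOf_dgU_mem_GSp d l hd, isInduced_semiP σ d l hd⟩

theorem conj_mem_gamma (q : PSp m F) : MulAut.conj q ∈ gammaPSp m F := by
  obtain ⟨s₀, rfl⟩ := QuotientGroup.mk_surjective q
  refine Subgroup.subset_closure
    ⟨(Matrix.symplecticGroup (Fin m) F).subtype.toHomUnits s₀, RingEquiv.refl F, ?_, ?_⟩
  · show ∃ c : Fˣ, ∀ u v, sympForm m F _ _ = (c : F) * sympForm m F u v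
    refine ⟨1, fun u v => ?_⟩
    rw [Units.val_one, one_mul]
    exact Cfsg.Agent.Lib.Helper5.Symp.sympForm_of_mem m s₀.2 u v
  · intro s s' hs'
    have h1 : (s : Matrix (Fin m ⊕ Fin m) (Fin m ⊕ Fin m) F).map (RingEquiv.refl F)
        = (s : Matrix (Fin m ⊕ Fin m) (Fin m ⊕ Fin m) F) := by
      ext i j
      rfl
    have h2 : s' = s₀ * s * s₀⁻¹ := by
      apply Subtype.ext
      rw [hs', h1]
      rfl
    rw [h2, MulAut.conj_apply]
    rfl

end Cfsg.Agent.Lib.Helper8.AutSp
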