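import Mathlib
import Cfsg.Agent.Lib.Helper8.AutSp.Final

/-!
# Local balance for `PSp` (S2730), part E: automorphisms of `PSp_4` in characteristic two which
are not semilinear swap long and short root elements (helper8)
-/

set_option autoImplicit false

namespace Cfsg.Agent.Lib.Helper8.AutSp

open Matrix Cfsg Cfsg.Agent.Lib.Helper5.GLBN Cfsg.Agent.Lib.Helper5.BN
open Cfsg.Agent.Lib.Helper5.AutBN Cfsg.Agent.Lib.Helper8.SpBN
open scoped MatrixGroups

variable {m : ℕ} {F : Type*} [Field F]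

/-- `g - 1` has rank at most one -/
def IsTv {n : ℕ} (g : GL (Fin n) F) : Prop :=
  ∃ u : Fin n → F, ∀ v : Fin n → F, ∃ a : F,
    (g : Matrix (Fin n) (Fin n) F) *ᵥ v - v = a • u

theorem isTv_conj {n : ℕ} {g : GL (Fin n) F} (P : GL (Fin n) F) (h : IsTv g) :
    IsTv (P * g * P⁻¹) := by
  obtain ⟨u, hu⟩ := h
  refine ⟨(P : Matrix (Fin n) (Fin n) F) *ᵥ u, ?_⟩
  intro v
  obtain ⟨a, ha⟩ := hu ((P⁻¹ : GL (Fin n) F).val *ᵥ v)
  refine ⟨a, ?_⟩
  have hPP : (P : Matrix (Fin n) (Fin n) F) * (P⁻¹ : GL (Fin n) F).val = 1 := by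
    rw [← Units.val_mul, mul_inv_cancel, Units.val_one]
  have h1 : v = (P : Matrix (Fin n) (Fin n) F) *ᵥ ((P⁻¹ : GL (Fin n) F).val *ᵥ v) := by
    rw [Matrix.mulVec_mulVec, hPP, Matrix.one_mulVec]
  calc ((P * g * P⁻¹ : GL (Fin n) F) : Matrix (Fin n) (Fin n) F) *ᵥ v - v
      = (P : Matrix (Fin n) (Fin n) F) *ᵥ ((g : Matrix (Fin n) (Fin n) F) *ᵥ
          ((P⁻¹ : GL (Fin n) F).val *ᵥ v)) -
          (P : Matrix (Fin n) (Fin n) F) *ᵥ ((P⁻¹ : GL (Fin n) F).val *ᵥ v) := by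
        rw [← h1, Units.val_mul, Units.val_mul, Matrix.mulVec_mulVec, Matrix.mulVec_mulVec]
    _ = (P : Matrix (Fin n) (Fin n) F) *ᵥ ((g : Matrix (Fin n) (Fin n) F) *ᵥ
          ((P⁻¹ : GL (Fin n) F).val *ᵥ v) - (P⁻¹ : GL (Fin n) F).val *ᵥ v) := by
        rw [Matrix.mulVec_sub]
    _ = a • (P : Matrix (Fin n) (Fin n) F) *ᵥ u := by
        rw [ha, Matrix.mulVec_smul]

theorem isTv_rt_long (a b : Fin (2 * m)) (hab : a ≠ b) (h : b = a.rev) (c : F) :
    IsTv (rt a b hab c) := by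
  refine ⟨Pi.single a 1, ?_⟩
  intro v
  refine ⟨c * v b, ?_⟩
  funext i
  rw [Pi.sub_apply, rt_mulVec, if_pos h, add_zero, Pi.smul_apply, Pi.single_apply, smul_eq_mul]
  split_ifs <;> ring

theorem not_isTv_rt_short (a b : Fin (2 * m)) (hab : a ≠ b) (h : b ≠ a.rev) {c : F}
    (hc : c ≠ 0) : ¬ IsTv (rt a b hab c) := by
  rintro ⟨u, hu⟩
  have hab' : a ≠ b.rev := by
    intro e
    apply h
    rw [e, Fin.rev_rev]
  have hrev : a.rev ≠ b := fun e => h e.symm
  obtain ⟨x, hx⟩ := hu (Pi.single b 1)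
  obtain ⟨y, hy⟩ := hu (Pi.single a.rev 1)
  -- evaluate the first at `a` and `b.rev`, the second at `a` and `b.rev`
  have hxa := congrFun hx a
  have hxb := congrFun hx b.rev
  have hya := congrFun hy a
  have hyb := congrFun hy b.rev
  rw [Pi.sub_apply, rt_mulVec, if_neg h, Pi.smul_apply, smul_eq_mul] at hxa hxb hya hyb
  simp only [Pi.single_apply, if_true, if_neg hab, if_neg hab'.symm, if_neg hrev,
    if_neg hrev.symm, if_neg hab.symm, if_neg hab', mul_one, mul_zero, add_zero, zero_add,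
    sub_zero, neg_zero] at hxa hxb hya hyb
  rw [add_sub_cancel_left] at hyb
  have hua : u a ≠ 0 := by
    intro e
    rw [e, mul_zero] at hxa
    exact hc hxa
  have hy0 : y = 0 := by
    rw [sub_self] at hya
    rcases mul_eq_zero.1 hya.symm with h1 | h1
    · exact h1
    · exact absurd h1 hua
  rw [hy0, zero_mul, neg_eq_zero] at hyb
  exact mul_ne_zero (mul_ne_zero (eps_ne_zero a) (eps_ne_zero b)) hc hyb

/-! ### the dichotomy -/

/-- an automorphism of `PSp_{2m}(F)` is induced by a semilinear similitude, or it reverses the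
Dynkin diagram (possible only for `m = 2` in characteristic two) -/
theorem gamma_or_swap [Fintype F] {p : ℕ} [Fact p.Prime] [CharP F p] (hm2 : 2 ≤ m)
    (θ : MulAut (PSp m F)) :
    θ ∈ gammaPSp m F ∨ ∃ (x : PSp m F) (A : Fin m → F → F), (∀ i t, t ≠ 0 → A i t ≠ 0) ∧
      ∀ i t, θ (fP m F (xp i t)) = x * fP m F (xp (Fin.revPerm i) (A i t)) * x⁻¹ := by
  have hm : 0 < m := by omega
  obtain ⟨x, ρ, -, -, -, -, hXp, hXm⟩ :=
    sp_normal_form hm2 p (fP m F) fP_surjective fP_ker θ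
  obtain ⟨θ', hθ'⟩ : ∃ θ' : PSp m F ≃* PSp m F, θ' = θ.trans (MulAut.conj x⁻¹) := ⟨_, rfl⟩
  rw [← hθ'] at hXp hXm
  have hρ := perm_eq_one_or_rev (fP m F) fP_ker hXp
  choose A₀ hA₀ using fun i t => (exists_param_of_map (fP m F) (hXp i)).1 t
  choose B₀ hB₀ using fun i t => (exists_param_of_map' (fP m F) (hXm i)).1 t
  have hc : ∀ i, A₀ i 1 ≠ 0 := fun i =>
    param_ne_zero (fP m F) fP_ker (by omega) one_ne_zero (hA₀ i 1)
  rcases hρ with hρ | hρ
  · left
    obtain ⟨d, l, hd, hratio⟩ :=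
      exists_diag (fun k : Fin m => (Units.mk0 (A₀ (ρ.symm k) 1) (hc _))⁻¹)
    obtain ⟨δ, hδ⟩ : ∃ δ : PSp m F ≃* PSp m F, δ = semiP (RingEquiv.refl F) d l hd := ⟨_, rfl⟩
    obtain ⟨θ'', hθ''⟩ : ∃ θ'' : PSp m F ≃* PSp m F, θ'' = θ'.trans δ := ⟨_, rfl⟩
    have hA : ∀ i t, θ'' (fP m F (xp i t))
        = fP m F (xp (ρ i) ((A₀ i 1)⁻¹ * A₀ i t)) := by
      intro i t
      rw [hθ'', MulEquiv.trans_apply, hA₀, hδ, semiP_apply, semiS_xp]
      congr 2
      have h1 := congrArg (fun u : Fˣ => (u : F)) (hratio (ρ i))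
      simp only [Units.val_mul, Units.val_inv_eq_inv_val, Units.val_mk0, Equiv.symm_apply_apply]
        at h1
      rw [RingEquiv.refl_apply, Units.val_inv_eq_inv_val, mul_right_comm, h1]
    have hB : ∀ i t, θ'' (fP m F (xm i t))
        = fP m F (xm (ρ i) (d (kk' (ρ i)) * B₀ i t * ((d (kk (ρ i)))⁻¹ : Fˣ))) := by
      intro i t
      rw [hθ'', MulEquiv.trans_apply, hB₀, hδ, semiP_apply, semiS_xm]
      rfl
    have hA' : ∀ i t, θ'' (fP m F (xp i t)) = fP m F (xp i ((A₀ i 1)⁻¹ * A₀ i t)) := by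
      intro i t
      rw [hA, hρ]; rfl
    have hB' : ∀ i t, θ'' (fP m F (xm i t))
        = fP m F (xm i (d (kk' (ρ i)) * B₀ i t * ((d (kk (ρ i)))⁻¹ : Fˣ))) := by
      intro i t
      rw [hB]
      congr 2
      rw [hρ]; rfl
    obtain ⟨σ, hσA, hσB⟩ := exists_field_aut (fP m F) fP_ker hA' hB'
      (fun i => inv_mul_cancel₀ (hc i)) hm2
    have hfin : θ'' = fieldP σ := by
      apply aut_ext_simple (fP m F) fP_surjective hm
      · intro i t
        rw [hA', fieldP_xp, hσA]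
      · intro i t
        rw [hB', fieldP_xm, hσB]
    have e : θ = (MulAut.conj x⁻¹)⁻¹ * (δ⁻¹ * fieldP σ) := by
      ext q
      rw [MulAut.mul_apply, MulAut.mul_apply, MulAut.inv_apply, MulAut.inv_apply, ← hfin, hθ'',
        MulEquiv.trans_apply, MulEquiv.symm_apply_apply, hθ', MulEquiv.trans_apply,
        MulEquiv.symm_apply_apply]
    rw [e]
    refine mul_mem (inv_mem (conj_mem_gamma _)) (mul_mem (inv_mem ?_) (semiP_mem_gamma _ _ _ _))
    rw [hδ]
    exact semiP_mem_gamma _ _ _ _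
  · right
    refine ⟨x, A₀, ?_, ?_⟩
    · intro i t ht
      exact param_ne_zero (fP m F) fP_ker (by omega) ht (hA₀ i t)
    · intro i t
      have h1 := hA₀ i t
      rw [hθ', MulEquiv.trans_apply, MulAut.conj_apply, inv_inv, hρ] at h1
      rw [← h1]
      group

/-! ### characteristic two -/

theorem fP_injective_char_two [CharP F 2] (hm : 1 ≤ m) : Function.Injective (fP m F) := by
  rw [injective_iff_map_eq_one]
  intro h hh
  have hc : h ∈ Subgroup.center ↥(SpH m F) := by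
    rw [← fP_ker]
    exact hh
  apply Subtype.ext
  apply Units.ext
  rcases center_cases_SpH hm hc with h1 | h1
  · exact h1
  · rw [h1]
    have h2 : (-1 : F) = 1 := by
      have : (2 : F) = 0 := CharP.cast_eq_zero F 2
      linear_combination -this
    ext i j
    rw [Matrix.neg_apply]
    show -(1 : Matrix (Fin (2 * m)) (Fin (2 * m)) F) i j = (1 : Matrix _ _ F) i j
    rw [Matrix.one_apply]
    split_ifs
    · exact h2
    · exact neg_zero

/-- the class of long root elements (images of transvections) -/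
def LongK (k : PSp m F) : Prop :=
  ∃ h : ↥(SpH m F), fP m F h = k ∧ IsTv (h : GL (Fin (2 * m)) F)

theorem longK_conj (y : PSp m F) {k : PSp m F} (hk : LongK k) : LongK (y * k * y⁻¹) := by
  obtain ⟨h, rfl, hh⟩ := hk
  obtain ⟨hy, rfl⟩ := fP_surjective y
  refine ⟨hy * h * hy⁻¹, by rw [map_mul, map_mul, map_inv], ?_⟩
  exact isTv_conj (hy : GL (Fin (2 * m)) F) hh

theorem kk'_last (hm : 0 < m) : kk' (iLast hm) = (kk (iLast hm)).rev := by
  apply Fin.ext
  rw [kk_rev_val, kk'_val]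
  simp only [iLast]
  omega

theorem longK_xp_last (hm : 0 < m) (t : F) : LongK (fP m F (xp (iLast hm) t)) :=
  ⟨xp (iLast hm) t, rfl, by
    rw [xp_coe]
    exact isTv_rt_long _ _ _ (kk'_last hm) t⟩

theorem not_longK_xp_short [CharP F 2] (hm2 : 2 ≤ m) (i : Fin m) (hi : (i : ℕ) + 1 < m)
    {t : F} (ht : t ≠ 0) : ¬ LongK (fP m F (xp i t)) := by
  rintro ⟨h, hh, htv⟩
  have := fP_injective_char_two (F := F) (by omega : 1 ≤ m) hh
  rw [this, xp_coe] at htv
  refine not_isTv_rt_short _ _ _ ?_ ht htv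
  intro e
  have := congrArg (fun a : Fin (2 * m) => (a : ℕ)) e
  simp only [kk'_val, kk_rev_val] at this
  omega

/-- in `PSp_4` over a field of characteristic two, an automorphism which maps some long root
element to a long root element is semilinear -/
theorem mem_gamma_of_long [Fintype F] [CharP F 2] (θ : MulAut (PSp 2 F))
    (h : LongK (θ (fP 2 F (xp (iLast (by norm_num : 0 < 2)) 1)))) : θ ∈ gammaPSp 2 F := by
  rcases gamma_or_swap (p := 2) (le_refl 2) θ with h1 | ⟨x, A, hA, hθ⟩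
  · exact h1
  · exfalso
    rw [hθ] at h
    have h2 := longK_conj x⁻¹ h
    have e : x⁻¹ * (x * fP 2 F (xp (Fin.revPerm (iLast (by norm_num : 0 < 2)))
        (A (iLast (by norm_num : 0 < 2)) 1)) * x⁻¹) * x⁻¹⁻¹ =
        fP 2 F (xp (Fin.revPerm (iLast (by norm_num : 0 < 2)))
          (A (iLast (by norm_num : 0 < 2)) 1)) := by group
    rw [e] at h2
    refine not_longK_xp_short (le_refl 2) _ ?_ (hA _ 1 one_ne_zero) h2
    rw [Fin.revPerm_apply, Fin.val_rev]
    simp only [iLast]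
    norm_num

/-- in `PSp_4` over a field of characteristic two, the square of an automorphism is semilinear -/
theorem sq_mem_gamma [Fintype F] [CharP F 2] (θ : MulAut (PSp 2 F)) : θ ^ 2 ∈ gammaPSp 2 F := by
  rcases gamma_or_swap (p := 2) (le_refl 2) θ with h1 | ⟨x, A, hA, hθ⟩
  · exact pow_mem h1 2
  · apply mem_gamma_of_long
    have hrev1 : Fin.revPerm (iLast (by norm_num : 0 < 2)) = (⟨0, by norm_num⟩ : Fin 2) := by
      apply Fin.ext
      rw [Fin.revPerm_apply, Fin.val_rev]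
      simp only [iLast]
    have hrev0 : Fin.revPerm (⟨0, by norm_num⟩ : Fin 2) = iLast (by norm_num : 0 < 2) := by
      apply Fin.ext
      rw [Fin.revPerm_apply, Fin.val_rev]
      simp only [iLast]
    rw [pow_two, MulAut.mul_apply, hθ, map_mul, map_mul, map_inv, hθ, hrev1, hrev0]
    have e : θ x * (x * fP 2 F (xp (iLast (by norm_num : 0 < 2))
          (A ⟨0, by norm_num⟩ (A (iLast (by norm_num : 0 < 2)) 1))) * x⁻¹) * (θ x)⁻¹ =
        (θ x * x) * fP 2 F (xp (iLast (by norm_num : 0 < 2))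
          (A ⟨0, by norm_num⟩ (A (iLast (by norm_num : 0 < 2)) 1))) * (θ x * x)⁻¹ := by group
    rw [e]
    exact longK_conj _ (longK_xp_last _ _)

/-- in `PSp_4` over a field of characteristic two, automorphisms of odd order are semilinear -/
theorem mem_gamma_of_odd_order [Fintype F] [CharP F 2] (θ : MulAut (PSp 2 F)) {n : ℕ}
    (hn : Odd n) (hθ : θ ^ n = 1) : θ ∈ gammaPSp 2 F := by
  obtain ⟨k, rfl⟩ := hn
  have h1 : θ = (θ ^ 2) ^ (k + 1) := by
    rw [← pow_mul]
    have : 2 * (k + 1) = (2 * k + 1) + 1 := by ring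
    rw [this, pow_succ, hθ, one_mul]
  rw [h1]
  exact pow_mem (sq_mem_gamma θ) _

end Cfsg.Agent.Lib.Helper8.AutSp
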