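import Cfsg.Agent.Lib.Helper8.AutSp.CountD
import Cfsg.Agent.Lib.Helper5.SpProjRank
import Cfsg.Agent.Lib.Helper5.AutBN.OutTools
import Mathlib

/-!
# The order of the automorphism group of `PSp_{2m}(F)`: the formula (helper8)
-/

set_option autoImplicit false

namespace Cfsg.Agent.Lib.Helper8.AutSp

open Matrix Cfsg Cfsg.Agent.Lib.Helper5.GLBN Cfsg.Agent.Lib.Helper8.SpBN
open Cfsg.Agent.Lib.Helper5.SpProj
open scoped MatrixGroups

variable {m : ℕ} {F : Type*} [Field F]

/-- the order of the centre of the symplectic group -/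
theorem card_center_sp [Fintype F] {p f : ℕ} [Fact p.Prime] [CharP F p] (hf : 1 ≤ f)
    (hF : Fintype.card F = p ^ f) (hm : 1 ≤ m) :
    Nat.card ↥(Subgroup.center ↥(Matrix.symplecticGroup (Fin m) F)) = Nat.gcd 2 (p ^ f - 1) := by
  rcases (Fact.out : p.Prime).eq_two_or_odd' with h2 | h2
  · -- characteristic two
    have h3 : (2 : F) = 0 := by
      have := CharP.cast_eq_zero F p
      rw [h2, Nat.cast_ofNat] at this
      exact this
    have h4 : (negOne m : Matrix.symplecticGroup (Fin m) F) = 1 := by
      apply Subtype.ext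
      rw [negOne_val]
      have h5 : (-1 : F) = 1 := by linear_combination -h3
      calc (-1 : Matrix (Fin m ⊕ Fin m) (Fin m ⊕ Fin m) F)
          = (-1 : F) • (1 : Matrix (Fin m ⊕ Fin m) (Fin m ⊕ Fin m) F) := by rw [neg_one_smul]
        _ = 1 := by rw [h5, one_smul]
    have h6 : Subgroup.center ↥(Matrix.symplecticGroup (Fin m) F) = ⊥ := by
      rw [eq_bot_iff]
      intro z hz
      rcases center_cases m hm z hz with h | h
      · rw [h]; exact one_mem _
      · rw [h, h4]; exact one_mem _
    rw [h6, Subgroup.card_bot, h2]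
    have h7 : Odd (2 ^ f - 1) := by
      have : 2 ^ f = 2 * 2 ^ (f - 1) := by rw [← pow_succ']; congr 1; omega
      rw [this]
      exact ⟨2 ^ (f - 1) - 1, by have := Nat.one_le_two_pow (n := f - 1); omega⟩
    exact (Nat.Coprime.gcd_eq_one (Nat.coprime_two_left.2 h7)).symm
  · -- odd characteristic
    have h3 : (2 : F) ≠ 0 := by
      intro h
      have h2' : ((2 : ℕ) : F) = 0 := by rw [Nat.cast_ofNat]; exact h
      rw [CharP.cast_eq_zero_iff F p] at h2'
      have := (Nat.prime_dvd_prime_iff_eq (Fact.out) Nat.prime_two).1 h2'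
      rw [this] at h2
      exact absurd h2 (by decide)
    have h4 := negOne_ne_one h3 m hm
    have h5 : Nat.card ↥(Subgroup.center ↥(Matrix.symplecticGroup (Fin m) F)) = 2 := by
      rw [Nat.card_eq_two_iff]
      refine ⟨⟨1, one_mem _⟩, ⟨negOne m, negOne_mem_center m⟩, ?_, ?_⟩
      · intro h
        exact h4 (congrArg Subtype.val h).symm
      · rw [Set.eq_univ_iff_forall]
        rintro ⟨z, hz⟩
        rcases center_cases m hm z hz with h | h
        · left; exact Subtype.ext h
        · right; exact Subtype.ext h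
    rw [h5]
    have h7 : Even (p ^ f - 1) := by
      have : Odd (p ^ f) := h2.pow
      obtain ⟨k, hk⟩ := this
      exact ⟨k, by omega⟩
    obtain ⟨k, hk⟩ := h7
    rw [hk, ← two_mul]
    exact (Nat.gcd_mul_right_right k 2).symm

/-- **the order of the automorphism group**, the generic case -/
theorem card_aut_psp_formula [Fintype F] {p f : ℕ} [Fact p.Prime] (hf : 1 ≤ f)
    (hF : Fintype.card F = p ^ f) (hm2 : 2 ≤ m) (h4 : m = 2 → p ≠ 2) :
    Nat.card (MulAut (PSp m F)) = Nat.gcd 2 (p ^ f - 1) * f * Nat.card (PSp m F) := by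
  haveI : CharP F p := charP_of_card_eq_prime_pow hF
  rw [card_aut_psp (p := p) hm2 h4]
  have h1 : Nat.card (RingAut F) = f :=
    Cfsg.Agent.Lib.Helper5.AutBN.card_ringAut p f hF
  have h2 : Nat.card ↥(SpH m F) = Nat.card ↥(Matrix.symplecticGroup (Fin m) F) :=
    (Nat.card_congr (spIso m F).toEquiv).symm
  have h3 := Subgroup.card_eq_card_quotient_mul_card_subgroup
    (Subgroup.center ↥(Matrix.symplecticGroup (Fin m) F))
  rw [card_center_sp hf hF (by omega : 1 ≤ m)] at h3
  rw [h1, h2, h3]
  ring

/-- the centre of `PSp` is trivial -/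
theorem center_PSp_eq_bot [Finite F] {p : ℕ} [Fact p.Prime] [CharP F p] (hm : 1 ≤ m) :
    Subgroup.center (PSp m F) = ⊥ := by
  rw [eq_bot_iff]
  intro q hq
  obtain ⟨z, rfl⟩ := fP_surjective q
  have h1 : MulAut.conj (fP m F z) = 1 := by
    ext x
    rw [MulAut.conj_apply, MulAut.one_apply, ← Subgroup.mem_center_iff.1 hq x,
      mul_inv_cancel_right]
  rw [conj_fP] at h1
  obtain ⟨c, hc⟩ := exists_scalG_of_mem_ker (p := p) hm (MonoidHom.mem_ker.2 h1)
  have h2 : (z : GL (Fin (2 * m)) F) = dgU (fun _ => c) := by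
    have := congrArg Subtype.val hc
    exact this
  have h3 : z ∈ Subgroup.center ↥(SpH m F) := by
    rw [Subgroup.mem_center_iff]
    intro g
    apply Subtype.ext
    rw [Subgroup.coe_mul, Subgroup.coe_mul, h2, dgU_const_comm]
  rw [Subgroup.mem_bot, ← MonoidHom.mem_ker, fP_ker]
  exact h3

/-- the order of the automorphism group of a centreless group, from the outer automorphism group -/
theorem card_mulAut_of_center_eq_bot {G : Type*} [Group G] (hZ : Subgroup.center G = ⊥) :
    Nat.card (MulAut G) = Nat.card (Cfsg.Out G) * Nat.card G := by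
  rw [Subgroup.card_eq_card_quotient_mul_card_subgroup (Cfsg.Inn G)]
  congr 1
  have hinj : Function.Injective (MulAut.conj : G →* MulAut G) := by
    rw [injective_iff_map_eq_one]
    intro g hg
    have : g ∈ Subgroup.center G := by
      rw [Subgroup.mem_center_iff]
      intro x
      have := DFunLike.congr_fun hg x
      rw [MulAut.conj_apply, MulAut.one_apply] at this
      calc x * g = (g * x * g⁻¹) * g := by rw [this]
        _ = g * x := by group
    rw [hZ, Subgroup.mem_bot] at this
    exact this
  exact (Nat.card_congr (MonoidHom.ofInjective hinj).toEquiv).symm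

end Cfsg.Agent.Lib.Helper8.AutSp
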