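import Mathlib
import Cfsg.Agent.Lib.Helper8.AutSp.BalD
import Cfsg.Agent.Lib.Helper8.AutSp.BalE
import Cfsg.Agent.Lib.Helper8.AutSp.CountE
import Cfsg.Agent.Lib.Helper8.SpBN.Orders
import Cfsg.Agent.Lib.Helper7.AutPSp.CosetFieldSp
import Cfsg.Agent.S2713

/-!
# Local balance for `PSp` (S2730), part F: assembly (helper8)
-/

set_option autoImplicit false

namespace Cfsg.Agent.Lib.Helper8.AutSp

open Matrix Cfsg Cfsg.Agent.Lib.H7AutPSp Cfsg.Agent.Lib.Helper5.Symp
open Cfsg.Agent.Lib.Helper8.SpBN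

variable {m : ℕ} {F : Type*} [Field F]

theorem gamma_le_semiSub : Cfsg.gammaPSp m F ≤ semiSub m F := by
  unfold Cfsg.gammaPSp Cfsg.autSubgroupOf
  rw [Subgroup.closure_le]
  rintro β ⟨g, σ, hg, hβ⟩
  exact ⟨⟨g, hg⟩, σ, (semilinear_iff ⟨g, hg⟩ σ β).1 hβ⟩

/-- the entries of the preimage under `spIso` -/
theorem spIso_symm_apply (h : ↥(SpH m F)) (a b : Fin m ⊕ Fin m) :
    ((spIso m F).symm h).val a b =
      ((h : GL (Fin (2 * m)) F) : Matrix (Fin (2 * m)) (Fin (2 * m)) F)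
        (idxEquiv m a) (idxEquiv m b) := by
  have h1 := toGLH_apply ((spIso m F).symm h) a b
  rw [← h1, ← spIso_coe, MulEquiv.apply_symm_apply]

/-- an element of `SpH` with `σ`-fixed entries maps into the subfield subgroup -/
theorem fP_mem_range_jP {F₀ : Type*} [Field F₀] (σ : RingAut F) (ι : F₀ →+* F)
    (hfix : ∀ t : F, σ t = t → ∃ s : F₀, ι s = t) (h : ↥(SpH m F))
    (hh : ∀ i j, σ (((h : GL (Fin (2 * m)) F) : Matrix (Fin (2 * m)) (Fin (2 * m)) F) i j) =
      ((h : GL (Fin (2 * m)) F) : Matrix (Fin (2 * m)) (Fin (2 * m)) F) i j) :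
    ∃ s₀ : Spm m F₀, (jP ι s₀ : PSpm m F) = fP m F h := by
  obtain ⟨s₀, hs₀⟩ := exists_mapSp_eq σ ι hfix ((spIso m F).symm h) (by
    ext a b
    rw [Matrix.map_apply, spIso_symm_apply]
    exact hh _ _)
  refine ⟨s₀, ?_⟩
  rw [jP_apply, hs₀]
  rfl

theorem xp_one_fixed (σ : RingAut F) (i : Fin m) (a b : Fin (2 * m)) :
    σ (((xp i (1 : F) : ↥(SpH m F)) : GL (Fin (2 * m)) F).val a b) =
      ((xp i (1 : F) : ↥(SpH m F)) : GL (Fin (2 * m)) F).val a b := by
  have h1 := fieldS_xp σ i (1 : F)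
  rw [map_one] at h1
  have h2 := congrArg (fun h : ↥(SpH m F) =>
    ((h : GL (Fin (2 * m)) F) : Matrix (Fin (2 * m)) (Fin (2 * m)) F) a b) h1
  simp only [fieldS_coe, glMap_coe, Matrix.map_apply] at h2
  exact h2

/-- automorphisms fixing the subfield subgroup pointwise are semilinear -/
theorem semi_of_fix [Fintype F] {r : ℕ} [Fact r.Prime] [CharP F r] (hm : 2 ≤ m)
    (σ : RingAut F) (w : MulAut (PSpm m F))
    (hw : ∀ s : Spm m ↥(fixSub σ), w (jP (fixι σ) s) = jP (fixι σ) s) : w ∈ semiSub m F := by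
  apply gamma_le_semiSub
  by_cases h4 : m = 2 ∧ r = 2
  · obtain ⟨rfl, rfl⟩ := h4
    apply mem_gamma_of_long
    obtain ⟨s₀, hs₀⟩ := fP_mem_range_jP σ (fixι σ) (fixι_surj σ)
      (xp (iLast (by norm_num : 0 < 2)) (1 : F)) (xp_one_fixed σ _)
    have h1 := hw s₀
    rw [hs₀] at h1
    have h2 : (w : PSp 2 F ≃* PSp 2 F) (fP 2 F (xp (iLast (by norm_num : 0 < 2)) 1)) =
        fP 2 F (xp (iLast (by norm_num : 0 < 2)) 1) := h1
    rw [h2]
    exact longK_xp_last _ _
  · rw [gammaPSp_eq_top (p := r) hm (fun h2 hr => h4 ⟨h2, hr⟩)]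
    trivial

/-- every automorphism of odd prime order `p ≠ char F`, or any automorphism unless
`m = 2` and `char F = 2`, is semilinear -/
theorem mem_semiSub_of_order [Fintype F] {r : ℕ} [Fact r.Prime] [CharP F r] (hm : 2 ≤ m)
    {p : ℕ} [Fact p.Prime] (hpr : p ≠ r) (x : MulAut (PSpm m F)) (hx : x ^ p = 1) :
    x ∈ semiSub m F := by
  apply gamma_le_semiSub
  by_cases h4 : m = 2 ∧ r = 2
  · obtain ⟨rfl, rfl⟩ := h4
    have hp : p.Prime := Fact.out
    exact mem_gamma_of_odd_order x (hp.odd_of_ne_two hpr) hx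
  · rw [gammaPSp_eq_top (p := r) hm (fun h2 hr => h4 ⟨h2, hr⟩)]
    trivial

/-- **non-inner-diagonal automorphisms of prime order `p ≠ char F` are field automorphisms** -/
theorem isFieldClass_of_not_inndiag [Fintype F] {r : ℕ} [Fact r.Prime] [CharP F r] (hm : 2 ≤ m)
    (hs : m = 2 → 3 ≤ Fintype.card F) {p : ℕ} [Fact p.Prime] (hpr : p ≠ r)
    (x : MulAut (Cfsg.PSp m F)) (hord : orderOf x = p)
    (hnot : ¬ Cfsg.IsInnerDiagonalAutPSp x) : Cfsg.IsFieldAutClassPSp x := by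
  have hp : p.Prime := Fact.out
  have hm1 : 1 ≤ m := by omega
  have hxp : x ^ p = 1 := by rw [← hord]; exact pow_orderOf_eq_one x
  obtain ⟨g, τ, hgτ⟩ := mem_semiSub_of_order hm hpr x hxp
  have hτ1 : τ ≠ 1 := by
    rintro rfl
    apply hnot
    rw [innerDiagSp_iff]
    exact ⟨g, by rw [hgτ, map_one, mul_one]⟩
  have hτp : τ ^ p = 1 := by
    apply PhSp_inj hm1
    have h1 := coset_pow_sp τ g p
    rw [← hgτ, hxp] at h1
    refine ⟨(gnormSp τ g p)⁻¹, ?_⟩
    rw [map_inv]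
    exact inv_eq_of_mul_eq_one_right h1.symm
  have hφ1 : (PhSp τ : MulAut (PSpm m F)) ≠ 1 := by
    intro h
    apply hτ1
    apply PhSp_inj hm1
    rw [h]
    exact one_mem _
  have hφord : orderOf (PhSp τ : MulAut (PSpm m F)) = p := by
    apply orderOf_eq_prime _ hφ1
    rw [← map_pow, hτp, map_one]
  have hφclass : Cfsg.IsFieldAutClassPSp (PhSp τ : MulAut (PSpm m F)) := by
    refine ⟨1, τ, hτ1, ?_⟩
    rw [stdFieldSp_iff, one_mul, inv_one, mul_one]
  have hδ : (DhSp g : MulAut (PSpm m F)) ∈ Cfsg.inndiagPSp m F := by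
    rw [inndiagPSp_eq]
    exact ⟨g, rfl⟩
  have key := (Cfsg.Agent.S2713.result hm hs (PhSp τ) (DhSp g) hφclass hp hφord hδ).1
    (by rw [← hgτ]; exact hord)
  obtain ⟨h, -, hh⟩ := key
  refine ⟨h⁻¹, τ, hτ1, ?_⟩
  rw [stdFieldSp_iff, hgτ, hh]
  group

/-- the fixed points of a field automorphism are nontrivial -/
theorem fixG_ne_bot_of_class (hm : 1 ≤ m) (x : MulAut (Cfsg.PSp m F))
    (hx : Cfsg.IsFieldAutClassPSp x) : fixG x ≠ ⊥ := by
  obtain ⟨α, σ, -, hα⟩ := field_data_sp x hx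
  obtain ⟨e, he⟩ : ∃ e : Fin m ⊕ Fin m → F, e = Pi.single (Sum.inl ⟨0, hm⟩) 1 := ⟨_, rfl⟩
  have heσ : (fun i => σ (e i)) = e := by
    ext i
    rw [he, Pi.single_apply]
    split_ifs
    · exact map_one σ
    · exact map_zero σ
  have hfixT : PhSp σ (prC (sympT m e 1) : PSpm m F) = prC (sympT m e 1) := by
    rw [PhSp_pr]
    congr 1
    apply Subtype.ext
    rw [fieldSpFun_val]
    show (sympTransvection m e 1).map σ = sympTransvection m e 1
    rw [map_sympTransvection, heσ, map_one]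
  have hT1 : (prC (sympT m e 1) : PSpm m F) ≠ 1 := by
    intro h
    have hc : sympT m e 1 ∈ Subgroup.center (Spm m F) :=
      (QuotientGroup.eq_one_iff (N := Subgroup.center (Spm m F)) (sympT m e 1)).1 h
    obtain ⟨a, ha⟩ := Cfsg.Agent.Lib.H7AutPSp.center_scalar _ hc
    have h1 : (sympT m e (1 : F)).val *ᵥ e = e := sympTransvection_self e 1
    rw [ha, Matrix.smul_mulVec, Matrix.one_mulVec] at h1
    have h2 := congrFun h1 (Sum.inl ⟨0, hm⟩)
    rw [he, Pi.smul_apply, Pi.single_eq_same, smul_eq_mul, mul_one] at h2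
    rw [h2, one_smul] at ha
    apply Cfsg.Agent.S0270.sympT_ne_one (F := F) m hm
    apply Subtype.ext
    rw [← he]
    exact ha
  intro hbot
  have hmem : α⁻¹ (prC (sympT m e 1) : PSpm m F) ∈ fixG x := by
    rw [mem_fixG]
    have h1 : x = α⁻¹ * PhSp σ * α := by
      rw [← hα]
      group
    rw [h1, MulAut.mul_apply, MulAut.mul_apply, MulAut.apply_inv_self, hfixT]
  rw [hbot, Subgroup.mem_bot] at hmem
  apply hT1
  have := congrArg α hmem
  rw [MulAut.apply_inv_self, map_one] at this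
  exact this

/-- transport of the main argument to an arbitrary field automorphism -/
theorem core_trivial_class [Fintype F] {r : ℕ} [Fact r.Prime] [CharP F r] (hm : 2 ≤ m)
    (hZ : Subgroup.center (PSpm m F) = ⊥)
    {p : ℕ} [Fact p.Prime] (hpr : p ≠ r) (x : MulAut (PSpm m F))
    (hx : Cfsg.IsFieldAutClassPSp x) (hord : orderOf x = p)
    (W : Subgroup (MulAut (PSpm m F)))
    (hWcop : (Nat.card ↥W).Coprime p)
    (hWcent : ∀ w ∈ W, w * x = x * w)
    (hWnorm : ∀ k : PSpm m F, x k = k → ∀ w ∈ W, MulAut.conj k * w * (MulAut.conj k)⁻¹ ∈ W)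
    (hdiv : p ∣ Nat.card ↥(fixG x)) : W = ⊥ := by
  have hm1 : 1 ≤ m := by omega
  obtain ⟨α, σ, -, hα⟩ := field_data_sp x hx
  have hσp : σ ^ p = 1 := by
    apply PhSp_inj hm1
    rw [map_pow, ← hα]
    have : (α * x * α⁻¹) ^ p = 1 := by
      rw [← MulAut.conj_apply, ← map_pow, ← hord, pow_orderOf_eq_one, map_one]
    rw [this]
    exact one_mem _
  have hinj : Function.Injective (MulAut.conj α : MulAut (PSpm m F) ≃* MulAut (PSpm m F)) :=
    (MulAut.conj α).injective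
  have hW1 : W.map (MulAut.conj α).toMonoidHom = ⊥ := by
    apply core_trivial_field (r := r) hm hZ hpr σ hσp
    · rw [Subgroup.card_map_of_injective hinj]
      exact hWcop
    · rintro _ ⟨w, hw, rfl⟩
      show α * w * α⁻¹ * PhSp σ = PhSp σ * (α * w * α⁻¹)
      rw [← hα]
      have := hWcent w hw
      calc α * w * α⁻¹ * (α * x * α⁻¹) = α * (w * x) * α⁻¹ := by group
        _ = α * (x * w) * α⁻¹ := by rw [this]
        _ = α * x * α⁻¹ * (α * w * α⁻¹) := by group
    · rintro k₁ hk₁ _ ⟨w, hw, rfl⟩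
      have hk : x (α⁻¹ k₁) = α⁻¹ k₁ := by
        have h1 : x = α⁻¹ * PhSp σ * α := by
          rw [← hα]
          group
        rw [h1, MulAut.mul_apply, MulAut.mul_apply, MulAut.apply_inv_self, hk₁]
      have h2 := hWnorm _ hk w hw
      refine ⟨_, h2, ?_⟩
      show α * (MulAut.conj (α⁻¹ k₁) * w * (MulAut.conj (α⁻¹ k₁))⁻¹) * α⁻¹ =
        MulAut.conj k₁ * (α * w * α⁻¹) * (MulAut.conj k₁)⁻¹
      have h3 : MulAut.conj k₁ = α * MulAut.conj (α⁻¹ k₁) * α⁻¹ := by
        rw [aut_mul_conj_mul_inv, MulAut.apply_inv_self]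
      rw [h3]
      group
    · have hfixeq : fixG (PhSp σ : MulAut (PSpm m F)) = (fixG x).map α.toMonoidHom := by
        ext k
        rw [mem_fixG, Subgroup.mem_map]
        constructor
        · intro hk
          refine ⟨α⁻¹ k, ?_, MulAut.apply_inv_self _ α k⟩
          rw [mem_fixG]
          have h1 : x = α⁻¹ * PhSp σ * α := by
            rw [← hα]
            group
          rw [h1, MulAut.mul_apply, MulAut.mul_apply, MulAut.apply_inv_self, hk]
        · rintro ⟨k', hk', rfl⟩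
          rw [mem_fixG] at hk'
          rw [← hα]
          show (α * x * α⁻¹) (α k') = α k'
          rw [MulAut.mul_apply, MulAut.mul_apply, MulAut.inv_apply_self, hk']
      rw [hfixeq, Subgroup.card_map_of_injective α.injective]
      exact hdiv
    · intro w _ hw
      exact semi_of_fix (r := r) hm σ w hw
  rwa [Subgroup.map_eq_bot_iff_of_injective _ hinj] at hW1

end Cfsg.Agent.Lib.Helper8.AutSp
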