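import Cfsg.Agent.Lib.Helper8.AutSp.Sp6
import Mathlib

/-!
# Root relations of `Sp_{2m}(F)` at arbitrary positions (helper8)

An injective choice of coordinates in the first half extends to a symplectic embedding of the
coordinates; the relations of `Sp₄` and `Sp₆` are transported along it.
-/

set_option autoImplicit false

namespace Cfsg.Agent.Lib.Helper8.AutSp

open Matrix Cfsg Cfsg.Agent.Lib.Helper5.GLBN Cfsg.Agent.Lib.Helper8.SpBN
open scoped MatrixGroups

variable {m r : ℕ} {F : Type*} [Field F]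

/-- the embedding of the coordinates determined by a choice of coordinates in the first half -/
def eOf (g : Fin r → Fin (2 * m)) (j : Fin (2 * r)) : Fin (2 * m) :=
  if h : (j : ℕ) < r then g ⟨j, h⟩
  else (g ⟨((j.rev : Fin (2 * r)) : ℕ), by rw [Fin.val_rev]; omega⟩).rev

theorem eOf_of_lt (g : Fin r → Fin (2 * m)) (j : Fin (2 * r)) (h : (j : ℕ) < r) :
    eOf g j = g ⟨j, h⟩ := by
  unfold eOf; rw [dif_pos h]

theorem eOf_of_not_lt (g : Fin r → Fin (2 * m)) (j : Fin (2 * r)) (h : ¬ (j : ℕ) < r) :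
    eOf g j = (g ⟨((j.rev : Fin (2 * r)) : ℕ), by rw [Fin.val_rev]; omega⟩).rev := by
  unfold eOf; rw [dif_neg h]

theorem spEmb_eOf (g : Fin r → Fin (2 * m)) (hg : Function.Injective g)
    (hlt : ∀ k, ((g k : Fin (2 * m)) : ℕ) < m) : SpEmb (eOf g) where
  inj := by
    intro j j' h
    by_cases h1 : (j : ℕ) < r <;> by_cases h2 : (j' : ℕ) < r
    · rw [eOf_of_lt g j h1, eOf_of_lt g j' h2] at h
      have := hg h
      apply Fin.ext
      simpa using this
    · rw [eOf_of_lt g j h1, eOf_of_not_lt g j' h2] at h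
      have := congrArg Fin.val h
      rw [Fin.val_rev] at this
      have h3 := hlt ⟨j, h1⟩
      have h4 := hlt ⟨((j'.rev : Fin (2 * r)) : ℕ), by rw [Fin.val_rev]; omega⟩
      omega
    · rw [eOf_of_not_lt g j h1, eOf_of_lt g j' h2] at h
      have := congrArg Fin.val h
      rw [Fin.val_rev] at this
      have h3 := hlt ⟨j', h2⟩
      have h4 := hlt ⟨((j.rev : Fin (2 * r)) : ℕ), by rw [Fin.val_rev]; omega⟩
      omega
    · rw [eOf_of_not_lt g j h1, eOf_of_not_lt g j' h2] at h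
      have := hg (Fin.rev_injective h)
      have h5 := congrArg Fin.val this
      simp only [Fin.val_rev] at h5
      apply Fin.ext
      have := j.2
      have := j'.2
      omega
  rev := by
    intro j
    by_cases h1 : (j : ℕ) < r
    · have h2 : ¬ ((j.rev : Fin (2 * r)) : ℕ) < r := by rw [Fin.val_rev]; omega
      rw [eOf_of_lt g j h1, eOf_of_not_lt g j.rev h2]
      congr 2
      apply Fin.ext
      simp
    · have h2 : ((j.rev : Fin (2 * r)) : ℕ) < r := by rw [Fin.val_rev]; have := j.2; omega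
      rw [eOf_of_not_lt g j h1, eOf_of_lt g j.rev h2, Fin.rev_rev]
  lt := by
    intro j
    by_cases h1 : (j : ℕ) < r
    · rw [eOf_of_lt g j h1]
      exact ⟨fun _ => h1, fun _ => hlt _⟩
    · rw [eOf_of_not_lt g j h1, Fin.val_rev]
      have h4 := hlt ⟨((j.rev : Fin (2 * r)) : ℕ), by rw [Fin.val_rev]; omega⟩
      constructor
      · intro h; omega
      · intro h; exact absurd h h1

theorem embGL_rt_eq {e : Fin (2 * r) → Fin (2 * m)} (h : SpEmb e) (i j : Fin (2 * r))
    (hij : i ≠ j) (c : F) {a b : Fin (2 * m)} (hab : a ≠ b) (ha : e i = a) (hb : e j = b) :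
    embGL e h.inj (rt i j hij c) = rt a b hab c := by
  subst ha hb
  exact embGL_rt h i j hij c

/-! ### pairs -/

section pair

variable (a b : Fin (2 * m))

theorem pair_inj (hab : a ≠ b) : Function.Injective (![a, b] : Fin 2 → Fin (2 * m)) := by
  intro x y h
  fin_cases x <;> fin_cases y <;> simp_all [eq_comm]

theorem pair_lt (ha : (a : ℕ) < m) (hb : (b : ℕ) < m) :
    ∀ k, (((![a, b] : Fin 2 → Fin (2 * m)) k : Fin (2 * m)) : ℕ) < m := by
  intro k
  fin_cases k
  · exact ha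
  · exact hb

theorem ePair_j0 : eOf (![a, b] : Fin 2 → Fin (2 * m)) j0 = a := by
  rw [eOf_of_lt _ _ (by decide)]; rfl

theorem ePair_j1 : eOf (![a, b] : Fin 2 → Fin (2 * m)) j1 = b := by
  rw [eOf_of_lt _ _ (by decide)]; rfl

theorem ePair_j2 : eOf (![a, b] : Fin 2 → Fin (2 * m)) j2 = b.rev := by
  rw [eOf_of_not_lt _ _ (by decide)]; rfl

theorem ePair_j3 : eOf (![a, b] : Fin 2 → Fin (2 * m)) j3 = a.rev := by
  rw [eOf_of_not_lt _ _ (by decide)]; rfl

theorem ne_rev_of_lt {a b : Fin (2 * m)} (ha : (a : ℕ) < m) (hb : (b : ℕ) < m) : a ≠ b.rev := by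
  intro h
  have := congrArg Fin.val h
  rw [Fin.val_rev] at this
  omega

end pair

/-- the Weyl element of the root at position `(a, b)` -/
def nP (a b : Fin (2 * m)) (hab : a ≠ b) (t : F) : GL (Fin (2 * m)) F :=
  rt a b hab t * rt b a hab.symm (-(1 / t)) * rt a b hab t

theorem nP_mem_SpH (a b : Fin (2 * m)) (hab : a ≠ b) (t : F) : nP a b hab t ∈ SpH m F :=
  mul_mem (mul_mem (rt_mem_SpH _ _ _ _) (rt_mem_SpH _ _ _ _)) (rt_mem_SpH _ _ _ _)

theorem self_ne_rev (a : Fin (2 * m)) : a ≠ a.rev := (rev_ne_self a).symm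

section pairRel

variable (a b : Fin (2 * m)) (ha : (a : ℕ) < m) (hb : (b : ℕ) < m) (hab : a ≠ b)

include ha hb hab

theorem spEmb_pair : SpEmb (eOf (![a, b] : Fin 2 → Fin (2 * m))) :=
  spEmb_eOf _ (pair_inj a b hab) (pair_lt a b ha hb)

theorem embGL_nuA (t : F) :
    embGL _ (spEmb_pair a b ha hb hab).inj (nuA t) = nP a b hab t := by
  have h := spEmb_pair a b ha hb hab
  unfold nuA nP
  rw [map_mul, map_mul, embGL_rt_eq h j0 j1 j01 t hab (ePair_j0 a b) (ePair_j1 a b),
    embGL_rt_eq h j1 j0 j10 _ hab.symm (ePair_j1 a b) (ePair_j0 a b)]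

theorem embGL_nuB (t : F) :
    embGL _ (spEmb_pair a b ha hb hab).inj (nuB t) = nP b b.rev (self_ne_rev b) t := by
  have h := spEmb_pair a b ha hb hab
  unfold nuB nP
  rw [map_mul, map_mul, embGL_rt_eq h j1 j2 j12 t (self_ne_rev b) (ePair_j1 a b) (ePair_j2 a b),
    embGL_rt_eq h j2 j1 j21 _ (self_ne_rev b).symm (ePair_j2 a b) (ePair_j1 a b)]

/-- the commutator relation of type `C₂` at the pair `(a, b)` -/
theorem posC (t u : F) :
    rt a b hab t * rt b b.rev (self_ne_rev b) u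
      = rt a b.rev (ne_rev_of_lt ha hb) (t * u) * rt a a.rev (self_ne_rev a) (t ^ 2 * u)
        * rt b b.rev (self_ne_rev b) u * rt a b hab t := by
  have h := spEmb_pair a b ha hb hab
  have := congrArg (embGL _ h.inj) (sp4_comm t u)
  rw [map_mul, map_mul, map_mul, map_mul,
    embGL_rt_eq h j0 j1 j01 t hab (ePair_j0 a b) (ePair_j1 a b),
    embGL_rt_eq h j1 j2 j12 u (self_ne_rev b) (ePair_j1 a b) (ePair_j2 a b),
    embGL_rt_eq h j0 j2 j02 _ (ne_rev_of_lt ha hb) (ePair_j0 a b) (ePair_j2 a b),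
    embGL_rt_eq h j0 j3 j03 _ (self_ne_rev a) (ePair_j0 a b) (ePair_j3 a b)] at this
  exact this

theorem pos_nuA_b (u : F) :
    nP a b hab 1 * rt b b.rev (self_ne_rev b) u
      = rt a a.rev (self_ne_rev a) u * nP a b hab 1 := by
  have h := spEmb_pair a b ha hb hab
  have := congrArg (embGL _ h.inj) (sp4_nuA_b u)
  rw [map_mul, map_mul, embGL_nuA a b ha hb hab,
    embGL_rt_eq h j1 j2 j12 u (self_ne_rev b) (ePair_j1 a b) (ePair_j2 a b),
    embGL_rt_eq h j0 j3 j03 _ (self_ne_rev a) (ePair_j0 a b) (ePair_j3 a b)] at this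
  exact this

theorem pos_nuA_mb (w : F) :
    nP a b hab 1 * rt b.rev b (self_ne_rev b).symm w
      = rt a.rev a (self_ne_rev a).symm w * nP a b hab 1 := by
  have h := spEmb_pair a b ha hb hab
  have := congrArg (embGL _ h.inj) (sp4_nuA_mb w)
  rw [map_mul, map_mul, embGL_nuA a b ha hb hab,
    embGL_rt_eq h j2 j1 j21 w (self_ne_rev b).symm (ePair_j2 a b) (ePair_j1 a b),
    embGL_rt_eq h j3 j0 j30 _ (self_ne_rev a).symm (ePair_j3 a b) (ePair_j0 a b)] at this
  exact this

theorem pos_nuB_a (t : F) :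
    nP b b.rev (self_ne_rev b) 1 * rt a b hab t
      = rt a b.rev (ne_rev_of_lt ha hb) (-t) * nP b b.rev (self_ne_rev b) 1 := by
  have h := spEmb_pair a b ha hb hab
  have := congrArg (embGL _ h.inj) (sp4_nuB_a t)
  rw [map_mul, map_mul, embGL_nuB a b ha hb hab,
    embGL_rt_eq h j0 j1 j01 t hab (ePair_j0 a b) (ePair_j1 a b),
    embGL_rt_eq h j0 j2 j02 _ (ne_rev_of_lt ha hb) (ePair_j0 a b) (ePair_j2 a b)] at this
  exact this

theorem pos_nuB_ma (v : F) :
    nP b b.rev (self_ne_rev b) 1 * rt b a hab.symm v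
      = rt b.rev a (ne_rev_of_lt ha hb).symm (-v) * nP b b.rev (self_ne_rev b) 1 := by
  have h := spEmb_pair a b ha hb hab
  have := congrArg (embGL _ h.inj) (sp4_nuB_ma v)
  rw [map_mul, map_mul, embGL_nuB a b ha hb hab,
    embGL_rt_eq h j1 j0 j10 v hab.symm (ePair_j1 a b) (ePair_j0 a b),
    embGL_rt_eq h j2 j0 j20 _ (ne_rev_of_lt ha hb).symm (ePair_j2 a b) (ePair_j0 a b)] at this
  exact this

end pairRel

/-! ### triples -/

section triple

variable (a b c : Fin (2 * m))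

theorem triple_inj (hab : a ≠ b) (hbc : b ≠ c) (hac : a ≠ c) :
    Function.Injective (![a, b, c] : Fin 3 → Fin (2 * m)) := by
  intro x y h
  fin_cases x <;> fin_cases y <;> simp_all [eq_comm]

theorem triple_lt (ha : (a : ℕ) < m) (hb : (b : ℕ) < m) (hc : (c : ℕ) < m) :
    ∀ k, (((![a, b, c] : Fin 3 → Fin (2 * m)) k : Fin (2 * m)) : ℕ) < m := by
  intro k
  fin_cases k
  · exact ha
  · exact hb
  · exact hc

theorem eTriple_k0 : eOf (![a, b, c] : Fin 3 → Fin (2 * m)) k0 = a := by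
  rw [eOf_of_lt _ _ (by decide)]; rfl

theorem eTriple_k1 : eOf (![a, b, c] : Fin 3 → Fin (2 * m)) k1 = b := by
  rw [eOf_of_lt _ _ (by decide)]; rfl

theorem eTriple_k2 : eOf (![a, b, c] : Fin 3 → Fin (2 * m)) k2 = c := by
  rw [eOf_of_lt _ _ (by decide)]; rfl

/-- the commutator relation of type `A₂` at the triple `(a, b, c)` -/
theorem posA (ha : (a : ℕ) < m) (hb : (b : ℕ) < m) (hc : (c : ℕ) < m)
    (hab : a ≠ b) (hbc : b ≠ c) (hac : a ≠ c) (t u : F) :
    rt a b hab t * rt b c hbc u = rt a c hac (t * u) * rt b c hbc u * rt a b hab t := by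
  have h : SpEmb (eOf (![a, b, c] : Fin 3 → Fin (2 * m))) :=
    spEmb_eOf _ (triple_inj a b c hab hbc hac) (triple_lt a b c ha hb hc)
  have := congrArg (embGL _ h.inj) (sp6_comm t u)
  rw [map_mul, map_mul, map_mul,
    embGL_rt_eq h k0 k1 k01 t hab (eTriple_k0 a b c) (eTriple_k1 a b c),
    embGL_rt_eq h k1 k2 k12 u hbc (eTriple_k1 a b c) (eTriple_k2 a b c),
    embGL_rt_eq h k0 k2 k02 _ hac (eTriple_k0 a b c) (eTriple_k2 a b c)] at this
  exact this

end triple

end Cfsg.Agent.Lib.Helper8.AutSp
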