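import Cfsg.Agent.Lib.Helper8.AutSp.Rel
import Mathlib

/-!
# The rank one relation for automorphisms of the central quotient of `Sp_{2m}(F)` (helper8)
-/

set_option autoImplicit false

namespace Cfsg.Agent.Lib.Helper8.AutSp

open Matrix Cfsg Cfsg.Agent.Lib.Helper5.GLBN Cfsg.Agent.Lib.Helper5.BN
open Cfsg.Agent.Lib.Helper5.AutBN Cfsg.Agent.Lib.Helper8.SpBN
open scoped MatrixGroups

variable {m : ℕ} {F : Type*} [Field F]

/-- the Weyl element of the `i`-th fundamental root -/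
def nu (i : Fin m) (t : F) : ↥(SpH m F) := xp i t * xm i (-(1 / t)) * xp i t

/-- the index of the last short fundamental root -/
def iPen (hm2 : 2 ≤ m) : Fin m := ⟨m - 2, by omega⟩

theorem iPen_val (hm2 : 2 ≤ m) : ((iPen hm2 : Fin m) : ℕ) = m - 2 := rfl

theorem nu_rel (hm2 : 2 ≤ m) (i : Fin m) (t s : F) (ht : t ≠ 0) :
    nu i t * xp i s = xm i (-(s / t ^ 2)) * nu i t := by
  unfold nu
  by_cases hs : (i : ℕ) + 2 ≤ m
  · simp only [xp_eq_R4 i hs, xm_eq_R4 i hs]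
    exact r4_nuA_a i hs t s ht
  · have hi := i.2
    have hi' : ((iPen hm2 : Fin m) : ℕ) + 2 = m := by rw [iPen_val]; omega
    have hk : (i : ℕ) = (iPen hm2 : Fin m) + 1 := by rw [iPen_val]; omega
    simp only [xp_succ_eq_R4 (iPen hm2) i hi' hk, xm_succ_eq_R4 (iPen hm2) i hi' hk]
    exact r4_nuB_b (iPen hm2) hi'.le t s ht

theorem rank1_crit (hm2 : 2 ≤ m) (i : Fin m) (a b w : F) {z : ↥(SpH m F)}
    (hz : z ∈ Subgroup.center ↥(SpH m F))
    (h : xp i a * xm i b * xp i a * xp i 1 = z * (xm i w * (xp i a * xm i b * xp i a))) :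
    1 + a * b = 0 := by
  by_cases hs : (i : ℕ) + 2 ≤ m
  · simp only [xp_eq_R4 i hs, xm_eq_R4 i hs] at h
    exact r4_rank1_a i hs (by omega) a b w hz h
  · have hi := i.2
    have hi' : ((iPen hm2 : Fin m) : ℕ) + 2 = m := by rw [iPen_val]; omega
    have hk : (i : ℕ) = (iPen hm2 : Fin m) + 1 := by rw [iPen_val]; omega
    simp only [xp_succ_eq_R4 (iPen hm2) i hi' hk, xm_succ_eq_R4 (iPen hm2) i hi' hk] at h
    exact r4_rank1_b (iPen hm2) hi'.le (by omega) a b w hz h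

section quotient

variable {Q : Type*} [Group Q] (f : ↥(SpH m F) →* Q)
  (hker : f.ker = Subgroup.center ↥(SpH m F))

include hker

/-- the rank one relation for an automorphism of the quotient -/
theorem rank_one_of_aut (hm2 : 2 ≤ m) {θ : Q ≃* Q} {i k : Fin m}
    (h1 : θ (f (xp i 1)) = f (xp k 1)) {t a b w : F} (ht : t ≠ 0)
    (ha : θ (f (xp i t)) = f (xp k a)) (hb : θ (f (xm i (-(1 / t)))) = f (xm k b))
    (hw : θ (f (xm i (-(1 / t ^ 2)))) = f (xm k w)) : 1 + a * b = 0 := by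
  have rel := congrArg (fun g => θ (f g)) (nu_rel hm2 i t 1 ht)
  unfold nu at rel
  simp only [map_mul, ha, hb, hw, h1] at rel
  simp only [← map_mul] at rel
  obtain ⟨L, hL⟩ : ∃ L : ↥(SpH m F), L = xp k a * xm k b * xp k a * xp k 1 := ⟨_, rfl⟩
  obtain ⟨R, hR⟩ : ∃ R : ↥(SpH m F), R = xm k w * (xp k a * xm k b * xp k a) := ⟨_, rfl⟩
  rw [← hL, ← hR] at rel
  have hz : L * R⁻¹ ∈ Subgroup.center ↥(SpH m F) := by
    rw [← hker, MonoidHom.mem_ker, map_mul, map_inv, rel, mul_inv_cancel]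
  apply rank1_crit hm2 k a b w hz
  rw [← hL, ← hR, inv_mul_cancel_right]

end quotient

end Cfsg.Agent.Lib.Helper8.AutSp
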