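import Cfsg.Agent.Lib.Helper8.AutSp.BraidCalc
import Cfsg.Agent.Lib.Helper8.AutSp.RankOne
import Cfsg.Agent.Lib.Helper8.AutSp.Pos
import Mathlib

/-!
# The permutation of the fundamental roots is not the reversal (helper8)
-/

set_option autoImplicit false

namespace Cfsg.Agent.Lib.Helper8.AutSp

open Matrix Cfsg Cfsg.Agent.Lib.Helper5.GLBN Cfsg.Agent.Lib.Helper5.BN
open Cfsg.Agent.Lib.Helper5.AutBN Cfsg.Agent.Lib.Helper8.SpBN
open scoped MatrixGroups

variable {m : ℕ} {F : Type*} [Field F]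

/-- the first fundamental root -/
def iZero (hm : 0 < m) : Fin m := ⟨0, hm⟩
/-- the second fundamental root -/
def iOne (hm : 1 < m) : Fin m := ⟨1, hm⟩
/-- the last fundamental root -/
def iLast (hm : 0 < m) : Fin m := ⟨m - 1, by omega⟩

theorem nu_coe (i : Fin m) (t : F) : ((nu i t : ↥(SpH m F)) : GL (Fin (2 * m)) F)
    = rt (kk i) (kk' i) (kk_ne i) t * rt (kk' i) (kk i) (kk_ne i).symm (-(1 / t))
      * rt (kk i) (kk' i) (kk_ne i) t := rfl

/-- the braid relation of the first two fundamental roots -/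
theorem nu_braid_one (hm3 : 3 ≤ m) :
    (nu (iZero (by omega : 0 < m)) (1 : F) * nu (iOne (by omega : 1 < m)) 1) ^ 3 = 1 := by
  obtain ⟨a, ha⟩ : ∃ a : Fin (2 * m), a = kk (iZero (by omega : 0 < m)) := ⟨_, rfl⟩
  obtain ⟨b, hb⟩ : ∃ b : Fin (2 * m), b = kk' (iZero (by omega : 0 < m)) := ⟨_, rfl⟩
  obtain ⟨c, hc⟩ : ∃ c : Fin (2 * m), c = kk' (iOne (by omega : 1 < m)) := ⟨_, rfl⟩
  have hb' : b = kk (iOne (by omega : 1 < m)) := by rw [hb]; rfl
  have hab : a ≠ b := by rw [ha, hb]; exact kk_ne _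
  have hbc : b ≠ c := by rw [hb', hc]; exact kk_ne _
  have hac : a ≠ c := by
    rw [ha, hc]; intro e; have := congrArg Fin.val e
    simp only [kk_val, kk'_val, iZero, iOne] at this
    omega
  have h : SpEmb (eOf (![a, b, c] : Fin 3 → Fin (2 * m))) :=
    spEmb_eOf _ (triple_inj a b c hab hbc hac) (triple_lt a b c
      (by rw [ha, kk_val]; simp only [iZero]; omega) (by rw [hb, kk'_val]; simp only [iZero]; omega)
      (by rw [hc, kk'_val]; simp only [iOne]; omega))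
  have e1 : ((nu (iZero (by omega : 0 < m)) (1 : F) : ↥(SpH m F)) : GL (Fin (2 * m)) F)
      = embGL _ h.inj n01 := by
    rw [nu_coe]
    unfold n01
    rw [map_mul, map_mul, embGL_rt_eq h k0 k1 k01 1 hab (eTriple_k0 a b c) (eTriple_k1 a b c),
      embGL_rt_eq h k1 k0 k10 _ hab.symm (eTriple_k1 a b c) (eTriple_k0 a b c)]
    exact congrArg₂ (· * ·) (congrArg₂ (· * ·) (rt_congr ha.symm hb.symm _ _ rfl)
      (rt_congr hb.symm ha.symm _ _ rfl)) (rt_congr ha.symm hb.symm _ _ rfl)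
  have e2 : ((nu (iOne (by omega : 1 < m)) (1 : F) : ↥(SpH m F)) : GL (Fin (2 * m)) F)
      = embGL _ h.inj n12 := by
    rw [nu_coe]
    unfold n12
    rw [map_mul, map_mul, embGL_rt_eq h k1 k2 k12 1 hbc (eTriple_k1 a b c) (eTriple_k2 a b c),
      embGL_rt_eq h k2 k1 k21 _ hbc.symm (eTriple_k2 a b c) (eTriple_k1 a b c)]
    exact congrArg₂ (· * ·) (congrArg₂ (· * ·) (rt_congr hb'.symm hc.symm _ _ rfl)
      (rt_congr hc.symm hb'.symm _ _ rfl)) (rt_congr hb'.symm hc.symm _ _ rfl)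
  apply Subtype.ext
  rw [Subgroup.coe_pow, Subgroup.coe_mul, e1, e2, ← map_mul, ← map_pow, sp6_braid, map_one]
  rfl

theorem iPen_add_two (hm2 : 2 ≤ m) : ((iPen hm2 : Fin m) : ℕ) + 2 = m := by
  rw [iPen_val]; omega

theorem iLast_eq (hm2 : 2 ≤ m) :
    ((iLast (by omega : 0 < m) : Fin m) : ℕ) = (iPen hm2 : Fin m) + 1 := by
  rw [iPen_val]; simp only [iLast]; omega

theorem nu_iPen (hm2 : 2 ≤ m) (t : F) :
    nu (iPen hm2) t = N4a (iPen hm2) (iPen_add_two hm2).le t := by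
  unfold nu N4a
  rw [xp_eq_R4 _ (iPen_add_two hm2).le, xm_eq_R4 _ (iPen_add_two hm2).le]

theorem nu_iLast (hm2 : 2 ≤ m) (t : F) :
    nu (iLast (by omega : 0 < m)) t = N4b (iPen hm2) (iPen_add_two hm2).le t := by
  unfold nu N4b
  rw [xp_succ_eq_R4 (iPen hm2) _ (iPen_add_two hm2) (iLast_eq hm2),
    xm_succ_eq_R4 (iPen hm2) _ (iPen_add_two hm2) (iLast_eq hm2)]

/-- the cube of the Coxeter element of the last two fundamental roots is not in `B` -/
theorem nu_braid_not_mem (hm2 : 2 ≤ m) :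
    (nu (iLast (by omega : 0 < m)) (1 : F) * nu (iPen hm2) 1) ^ 3 ∉ BG m F := by
  intro hmem
  rw [nu_iPen hm2, nu_iLast hm2, mem_BG, mem_upper] at hmem
  have hlt : eS (iPen hm2) (iPen_add_two hm2).le j0 < eS (iPen hm2) (iPen_add_two hm2).le j1 := by
    rw [eS_j0, eS_j1]; exact kk_lt _
  have h0 := hmem _ _ hlt
  rw [Subgroup.coe_pow, Subgroup.coe_mul, N4a_coe, N4b_coe, ← map_mul, ← map_pow, embGL_coe,
    emb_apply_apply _ (spEmb_eS _ _).inj, sp4_braid] at h0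
  exact one_ne_zero (neg_eq_zero.1 h0)

/-- a root element is not central -/
theorem rt_center_eq_zero (hm : 1 ≤ m) {z : ↥(SpH m F)} (hz : z ∈ Subgroup.center ↥(SpH m F))
    {a b : Fin (2 * m)} (hab : a ≠ b) {c : F}
    (h : (z : GL (Fin (2 * m)) F) = rt a b hab c) : c = 0 := by
  have h1 : ((z : GL (Fin (2 * m)) F) : Matrix (Fin (2 * m)) (Fin (2 * m)) F) a b = c := by
    rw [h, rt_apply_self]
  rcases center_cases_SpH hm hz with h2 | h2
  · rw [h2, Matrix.one_apply_ne hab] at h1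
    exact h1.symm
  · rw [h2, Matrix.neg_apply, Matrix.one_apply_ne hab, neg_zero] at h1
    exact h1.symm

section quotient

variable {Q : Type*} [Group Q] (f : ↥(SpH m F) →* Q)
  (hker : f.ker = Subgroup.center ↥(SpH m F))

include hker

/-- a normalised automorphism maps the Weyl elements to Weyl elements -/
theorem aut_nu_one (hm2 : 2 ≤ m) {θ : Q ≃* Q} {i k : Fin m}
    (h1 : θ (f (xp i 1)) = f (xp k 1)) (hm' : ∀ t : F, ∃ s : F, θ (f (xm i t)) = f (xm k s)) :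
    θ (f (nu i 1)) = f (nu k 1) := by
  obtain ⟨b, hb⟩ := hm' (-(1 / 1))
  obtain ⟨w, hw⟩ := hm' (-(1 / 1 ^ 2))
  have h := rank_one_of_aut f hker hm2 h1 one_ne_zero h1 hb hw
  have hb' : b = -(1 / 1) := by
    rw [div_one]
    linear_combination h
  unfold nu
  rw [map_mul, map_mul, map_mul, map_mul, map_mul, map_mul, h1, hb, hb']

/-- for `m ≥ 3` the reversal of the diagram is not induced by an automorphism -/
theorem not_rev_of_three_le (hm3 : 3 ≤ m) {θ : Q ≃* Q}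
    (hn : ∀ i : Fin m, θ (f (nu i (1 : F))) = f (nu (Fin.revPerm i) 1)) : False := by
  have h := congrArg (fun g => θ (f g)) (nu_braid_one (F := F) hm3)
  simp only [map_pow, map_mul, map_one, hn] at h
  have r0 : Fin.revPerm (iZero (by omega : 0 < m)) = iLast (by omega : 0 < m) := by
    apply Fin.ext
    rw [Fin.revPerm_apply, Fin.val_rev]
    simp only [iZero, iLast]
  have r1 : Fin.revPerm (iOne (by omega : 1 < m)) = iPen (by omega : 2 ≤ m) := by
    apply Fin.ext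
    rw [Fin.revPerm_apply, Fin.val_rev, iPen_val]
    simp only [iOne]
  rw [r0, r1, ← map_mul, ← map_pow] at h
  have hz : (nu (iLast (by omega : 0 < m)) (1 : F) * nu (iPen (by omega : 2 ≤ m)) 1) ^ 3
      ∈ Subgroup.center ↥(SpH m F) := by
    rw [← hker]; exact h
  exact nu_braid_not_mem (by omega) (center_le_BG (by omega) hz)

omit hker in
theorem aut_eq_one {θ : Q ≃* Q} {q : Q} (h : θ q = 1) : q = 1 :=
  (map_eq_one_iff θ θ.injective).1 h

/-- the parameter of the image of a non-trivial root element is not zero -/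
theorem param_ne_zero (hm : 1 ≤ m) {θ : Q ≃* Q} {i k : Fin m} {t s : F} (ht : t ≠ 0)
    (h : θ (f (xp i t)) = f (xp k s)) : s ≠ 0 := by
  intro hs
  rw [hs, xp_zero, map_one] at h
  have h1 := aut_eq_one h
  rw [← MonoidHom.mem_ker, hker] at h1
  exact ht (rt_center_eq_zero hm h1 (kk_ne i) (xp_coe i t))

/-- in odd characteristic the last two fundamental roots are not swapped by an automorphism -/
theorem not_swap_last_two (hm2 : 2 ≤ m) (h2 : (2 : F) ≠ 0) {θ : Q ≃* Q}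
    (hab : ∀ t : F, ∃ s : F, θ (f (xp (iPen hm2) t)) = f (xp (iLast (by omega : 0 < m)) s))
    (hba : ∀ t : F, ∃ s : F, θ (f (xp (iLast (by omega : 0 < m)) t)) = f (xp (iPen hm2) s))
    (hba' : ∀ s : F, ∃ t : F, θ (f (xp (iLast (by omega : 0 < m)) t)) = f (xp (iPen hm2) s)) :
    False := by
  obtain ⟨A, hA⟩ : ∃ A : Fin m, A = iPen hm2 := ⟨_, rfl⟩
  obtain ⟨B, hB⟩ : ∃ B : Fin m, B = iLast (by omega : 0 < m) := ⟨_, rfl⟩
  rw [← hA, ← hB] at hab hba hba'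
  have hi' : (A : ℕ) + 2 = m := by rw [hA]; exact iPen_add_two hm2
  have hk : (B : ℕ) = A + 1 := by rw [hA, hB]; exact iLast_eq hm2
  have eA : ∀ t : F, xp A t = R4 A hi'.le j0 j1 j01 t := fun t => xp_eq_R4 A hi'.le t
  have eB : ∀ t : F, xp B t = R4 A hi'.le j1 j2 j12 t := fun t => xp_succ_eq_R4 A B hi' hk t
  obtain ⟨c₁, h1⟩ := hab 1
  obtain ⟨c₂, h2'⟩ := hba 1
  obtain ⟨u₀, hu⟩ := hba' 1
  have hc₁ : c₁ ≠ 0 := param_ne_zero f hker (by omega) one_ne_zero h1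
  have hc₂ : c₂ ≠ 0 := param_ne_zero f hker (by omega) one_ne_zero h2'
  -- the commutator of the two root elements
  obtain ⟨C, hC⟩ : ∃ C : ↥(SpH m F), C = xp A 1 * xp B 1 * (xp A 1)⁻¹ * (xp B 1)⁻¹ := ⟨_, rfl⟩
  have hC' : C = R4 A hi'.le j0 j2 j02 ((1 : F) * 1) * R4 A hi'.le j0 j3 j03 ((1 : F) ^ 2 * 1) := by
    rw [hC, eA, eB, r4_comm]
    group
  have hCB : C * xp B u₀ = xp B u₀ * C := by
    rw [hC', eB, mul_assoc, ← r4_comm_b_aab, ← mul_assoc, ← r4_comm_b_ab, mul_assoc]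
  obtain ⟨Y, hY⟩ : ∃ Y : ↥(SpH m F), Y = R4 A hi'.le j0 j2 j02 (c₂ * c₁)
      * R4 A hi'.le j0 j3 j03 (c₂ ^ 2 * c₁) := ⟨_, rfl⟩
  have hY' : Y⁻¹ = xp B c₁ * xp A c₂ * (xp B c₁)⁻¹ * (xp A c₂)⁻¹ := by
    have : xp A c₂ * xp B c₁ = Y * xp B c₁ * xp A c₂ := by rw [hY, eA, eB, r4_comm]
    have hY2 : Y = xp A c₂ * xp B c₁ * (xp A c₂)⁻¹ * (xp B c₁)⁻¹ := by rw [this]; group
    rw [hY2]; group
  have hθC : θ (f C) = f Y⁻¹ := by
    rw [hC, hY']
    simp only [map_mul, map_inv, h1, h2']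
  have hrel := congrArg (fun g => θ (f g)) hCB
  simp only [map_mul, hθC, hu] at hrel
  rw [← map_mul, ← map_mul] at hrel
  have hz : (Y⁻¹ * xp A 1) * (xp A 1 * Y⁻¹)⁻¹ ∈ Subgroup.center ↥(SpH m F) := by
    rw [← hker, MonoidHom.mem_ker, map_mul, map_inv, hrel, mul_inv_cancel]
  have hcomm : xp A 1 * Y = R4 A hi'.le j0 j3 j03 (2 * 1 * (c₂ * c₁)) * Y * xp A 1 := by
    rw [hY, eA, ← mul_assoc, r4_comm2, mul_assoc, mul_assoc, r4_comm_a_aab]
    simp only [mul_assoc]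
  have hz2 : (Y⁻¹ * xp A 1) * (xp A 1 * Y⁻¹)⁻¹
      = R4 A hi'.le j0 j3 j03 (2 * 1 * (c₂ * c₁)) := by
    have h3 := Subgroup.mem_center_iff.1 hz Y
    have h4 : (Y⁻¹ * xp A 1) * (xp A 1 * Y⁻¹)⁻¹
        = Y * ((Y⁻¹ * xp A 1) * (xp A 1 * Y⁻¹)⁻¹) * Y⁻¹ := by
      rw [h3]; group
    rw [h4]
    have h5 : Y * ((Y⁻¹ * xp A 1) * (xp A 1 * Y⁻¹)⁻¹) * Y⁻¹
        = (xp A 1 * Y) * (xp A 1)⁻¹ * Y⁻¹ := by group
    rw [h5, hcomm]
    group
  rw [hz2] at hz
  have h6 : (2 : F) * 1 * (c₂ * c₁) = 0 := rt_center_eq_zero (by omega) hz _ rfl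
  exact mul_ne_zero (mul_ne_zero h2 one_ne_zero) (mul_ne_zero hc₂ hc₁) h6

end quotient

end Cfsg.Agent.Lib.Helper8.AutSp
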