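import Cfsg.Agent.Lib.Helper8.AutSp.Sp6
import Mathlib

/-!
# The braid computations in `Sp₆(F)` and `Sp₄(F)` (helper8)
-/

set_option autoImplicit false
set_option linter.unusedSimpArgs false
set_option linter.unnecessarySeqFocus false
set_option linter.unreachableTactic false
set_option linter.unusedTactic false

namespace Cfsg.Agent.Lib.Helper8.AutSp

open Matrix Cfsg Cfsg.Agent.Lib.Helper5.GLBN Cfsg.Agent.Lib.Helper8.SpBN
open scoped MatrixGroups

variable {F : Type*} [Field F]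

theorem k10 : k1 ≠ k0 := by decide
theorem k21 : k2 ≠ k1 := by decide

/-- the Weyl element of the first fundamental root of `Sp₆` -/
def n01 : GL (Fin (2 * 3)) F := rt k0 k1 k01 1 * rt k1 k0 k10 (-(1 / 1)) * rt k0 k1 k01 1

/-- the Weyl element of the second fundamental root of `Sp₆` -/
def n12 : GL (Fin (2 * 3)) F := rt k1 k2 k12 1 * rt k2 k1 k21 (-(1 / 1)) * rt k1 k2 k12 1

theorem n01_mulVec (x : Fin (2 * 3) → F) (i : Fin (2 * 3)) :
    (((n01 : GL (Fin (2 * 3)) F) : Matrix (Fin (2 * 3)) (Fin (2 * 3)) F) *ᵥ x) i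
      = if i = k0 then x k1 else if i = k1 then - x k0 else if i = k1.rev then - x k0.rev
        else if i = k0.rev then x k1.rev else x i := by
  unfold n01
  simp only [Units.val_mul, ← Matrix.mulVec_mulVec, rt_mulVec]
  fin_cases i <;> simp [k0, k1, k2, SpBN.eps, Fin.rev, Fin.ext_iff] <;> ring

theorem n12_mulVec (x : Fin (2 * 3) → F) (i : Fin (2 * 3)) :
    (((n12 : GL (Fin (2 * 3)) F) : Matrix (Fin (2 * 3)) (Fin (2 * 3)) F) *ᵥ x) i
      = if i = k1 then x k2 else if i = k2 then - x k1 else if i = k2.rev then - x k1.rev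
        else if i = k1.rev then x k2.rev else x i := by
  unfold n12
  simp only [Units.val_mul, ← Matrix.mulVec_mulVec, rt_mulVec]
  fin_cases i <;> simp [k0, k1, k2, SpBN.eps, Fin.rev, Fin.ext_iff] <;> ring

section pointwise

variable (x : Fin (2 * 3) → F)

theorem n01_k0 : (((n01 : GL (Fin (2 * 3)) F) : Matrix (Fin (2 * 3)) (Fin (2 * 3)) F) *ᵥ x) k0
    = x k1 := by rw [n01_mulVec, if_pos rfl]
theorem n01_k1 : (((n01 : GL (Fin (2 * 3)) F) : Matrix (Fin (2 * 3)) (Fin (2 * 3)) F) *ᵥ x) k1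
    = - x k0 := by rw [n01_mulVec, if_neg (by decide), if_pos rfl]
theorem n01_k2 : (((n01 : GL (Fin (2 * 3)) F) : Matrix (Fin (2 * 3)) (Fin (2 * 3)) F) *ᵥ x) k2
    = x k2 := by
  rw [n01_mulVec, if_neg (by decide), if_neg (by decide), if_neg (by decide), if_neg (by decide)]
theorem n01_k2r : (((n01 : GL (Fin (2 * 3)) F) : Matrix (Fin (2 * 3)) (Fin (2 * 3)) F) *ᵥ x) k2.rev
    = x k2.rev := by
  rw [n01_mulVec, if_neg (by decide), if_neg (by decide), if_neg (by decide), if_neg (by decide)]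
theorem n01_k1r : (((n01 : GL (Fin (2 * 3)) F) : Matrix (Fin (2 * 3)) (Fin (2 * 3)) F) *ᵥ x) k1.rev
    = - x k0.rev := by
  rw [n01_mulVec, if_neg (by decide), if_neg (by decide), if_pos rfl]
theorem n01_k0r : (((n01 : GL (Fin (2 * 3)) F) : Matrix (Fin (2 * 3)) (Fin (2 * 3)) F) *ᵥ x) k0.rev
    = x k1.rev := by
  rw [n01_mulVec, if_neg (by decide), if_neg (by decide), if_neg (by decide), if_pos rfl]

theorem n12_k0 : (((n12 : GL (Fin (2 * 3)) F) : Matrix (Fin (2 * 3)) (Fin (2 * 3)) F) *ᵥ x) k0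
    = x k0 := by
  rw [n12_mulVec, if_neg (by decide), if_neg (by decide), if_neg (by decide), if_neg (by decide)]
theorem n12_k1 : (((n12 : GL (Fin (2 * 3)) F) : Matrix (Fin (2 * 3)) (Fin (2 * 3)) F) *ᵥ x) k1
    = x k2 := by rw [n12_mulVec, if_pos rfl]
theorem n12_k2 : (((n12 : GL (Fin (2 * 3)) F) : Matrix (Fin (2 * 3)) (Fin (2 * 3)) F) *ᵥ x) k2
    = - x k1 := by rw [n12_mulVec, if_neg (by decide), if_pos rfl]
theorem n12_k2r : (((n12 : GL (Fin (2 * 3)) F) : Matrix (Fin (2 * 3)) (Fin (2 * 3)) F) *ᵥ x) k2.rev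
    = - x k1.rev := by
  rw [n12_mulVec, if_neg (by decide), if_neg (by decide), if_pos rfl]
theorem n12_k1r : (((n12 : GL (Fin (2 * 3)) F) : Matrix (Fin (2 * 3)) (Fin (2 * 3)) F) *ᵥ x) k1.rev
    = x k2.rev := by
  rw [n12_mulVec, if_neg (by decide), if_neg (by decide), if_neg (by decide), if_pos rfl]
theorem n12_k0r : (((n12 : GL (Fin (2 * 3)) F) : Matrix (Fin (2 * 3)) (Fin (2 * 3)) F) *ᵥ x) k0.rev
    = x k0.rev := by
  rw [n12_mulVec, if_neg (by decide), if_neg (by decide), if_neg (by decide), if_neg (by decide)]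

end pointwise

theorem fin6_cover (i : Fin (2 * 3)) :
    i = k0 ∨ i = k1 ∨ i = k2 ∨ i = k2.rev ∨ i = k1.rev ∨ i = k0.rev := by
  revert i; decide

theorem sp6_braid : ((n01 : GL (Fin (2 * 3)) F) * n12) ^ 3 = 1 := by
  apply gl_ext_mulVec
  intro x i
  simp only [pow_succ, pow_zero, one_mul, Units.val_mul, Units.val_one, Matrix.one_mulVec,
    ← Matrix.mulVec_mulVec]
  rcases fin6_cover i with h | h | h | h | h | h <;> subst h <;>
    simp only [n01_k0, n01_k1, n01_k2, n01_k2r, n01_k1r, n01_k0r, n12_k0, n12_k1, n12_k2,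
      n12_k2r, n12_k1r, n12_k0r, neg_neg]

/-! ### `Sp₄` -/

theorem nuA_one_mulVec (x : Fin (2 * 2) → F) (i : Fin (2 * 2)) :
    (((nuA 1 : GL (Fin (2 * 2)) F) : Matrix (Fin (2 * 2)) (Fin (2 * 2)) F) *ᵥ x) i
      = if i = j0 then x j1 else if i = j1 then - x j0 else if i = j2 then - x j3
        else x j2 := by
  unfold nuA
  simp only [Units.val_mul, ← Matrix.mulVec_mulVec, rt_mulVec]
  fin_cases i <;> simp [j0, j1, j2, j3, SpBN.eps, Fin.rev, Fin.ext_iff] <;> ring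

theorem nuB_one_mulVec (x : Fin (2 * 2) → F) (i : Fin (2 * 2)) :
    (((nuB 1 : GL (Fin (2 * 2)) F) : Matrix (Fin (2 * 2)) (Fin (2 * 2)) F) *ᵥ x) i
      = if i = j0 then x j0 else if i = j1 then x j2 else if i = j2 then - x j1
        else x j3 := by
  unfold nuB
  simp only [Units.val_mul, ← Matrix.mulVec_mulVec, rt_mulVec]
  fin_cases i <;> simp [j0, j1, j2, j3, SpBN.eps, Fin.rev, Fin.ext_iff] <;> ring

section pointwise4

variable (x : Fin (2 * 2) → F)

theorem nuA_j0 : (((nuA 1 : GL (Fin (2 * 2)) F) : Matrix (Fin (2 * 2)) (Fin (2 * 2)) F) *ᵥ x) j0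
    = x j1 := by rw [nuA_one_mulVec, if_pos rfl]
theorem nuA_j1 : (((nuA 1 : GL (Fin (2 * 2)) F) : Matrix (Fin (2 * 2)) (Fin (2 * 2)) F) *ᵥ x) j1
    = - x j0 := by rw [nuA_one_mulVec, if_neg (by decide), if_pos rfl]
theorem nuA_j2 : (((nuA 1 : GL (Fin (2 * 2)) F) : Matrix (Fin (2 * 2)) (Fin (2 * 2)) F) *ᵥ x) j2
    = - x j3 := by rw [nuA_one_mulVec, if_neg (by decide), if_neg (by decide), if_pos rfl]
theorem nuA_j3 : (((nuA 1 : GL (Fin (2 * 2)) F) : Matrix (Fin (2 * 2)) (Fin (2 * 2)) F) *ᵥ x) j3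
    = x j2 := by
  rw [nuA_one_mulVec, if_neg (by decide), if_neg (by decide), if_neg (by decide)]

theorem nuB_j0 : (((nuB 1 : GL (Fin (2 * 2)) F) : Matrix (Fin (2 * 2)) (Fin (2 * 2)) F) *ᵥ x) j0
    = x j0 := by rw [nuB_one_mulVec, if_pos rfl]
theorem nuB_j1 : (((nuB 1 : GL (Fin (2 * 2)) F) : Matrix (Fin (2 * 2)) (Fin (2 * 2)) F) *ᵥ x) j1
    = x j2 := by rw [nuB_one_mulVec, if_neg (by decide), if_pos rfl]
theorem nuB_j2 : (((nuB 1 : GL (Fin (2 * 2)) F) : Matrix (Fin (2 * 2)) (Fin (2 * 2)) F) *ᵥ x) j2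
    = - x j1 := by rw [nuB_one_mulVec, if_neg (by decide), if_neg (by decide), if_pos rfl]
theorem nuB_j3 : (((nuB 1 : GL (Fin (2 * 2)) F) : Matrix (Fin (2 * 2)) (Fin (2 * 2)) F) *ᵥ x) j3
    = x j3 := by
  rw [nuB_one_mulVec, if_neg (by decide), if_neg (by decide), if_neg (by decide)]

end pointwise4

/-- the cube of the Coxeter element of `Sp₄` is not upper triangular -/
theorem sp4_braid :
    ((((nuB 1 : GL (Fin (2 * 2)) F) * nuA 1) ^ 3 : GL (Fin (2 * 2)) F) :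
      Matrix (Fin (2 * 2)) (Fin (2 * 2)) F) j1 j0 = -1 := by
  rw [apply_eq_mulVec_single ((((nuB 1 : GL (Fin (2 * 2)) F) * nuA 1) ^ 3 : GL (Fin (2 * 2)) F) :
      Matrix (Fin (2 * 2)) (Fin (2 * 2)) F) j1 j0]
  simp only [pow_succ, pow_zero, one_mul, Units.val_mul, ← Matrix.mulVec_mulVec]
  simp only [nuA_j0, nuA_j1, nuA_j2, nuA_j3, nuB_j0, nuB_j1, nuB_j2, nuB_j3, neg_neg]
  simp

end Cfsg.Agent.Lib.Helper8.AutSp
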