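import Cfsg.Agent.Lib.Helper8.AutSp.Decomp
import Mathlib

/-!
# The conformal symplectic group acting on `PSp_{2m}(F)` (helper8)
-/

set_option autoImplicit false

namespace Cfsg.Agent.Lib.Helper8.AutSp

open Matrix Cfsg Cfsg.Agent.Lib.Helper5.GLBN Cfsg.Agent.Lib.Helper8.SpBN
open scoped MatrixGroups

/-! ### descending automorphisms, as a homomorphism -/

section descendHom

variable {G Q : Type*} [Group G] [Group Q] (f : G →* Q) (hf : Function.Surjective f)
  (hker : f.ker = Subgroup.center G)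

/-- the descent of automorphisms to the central quotient, as a homomorphism -/
noncomputable def descendAut : MulAut G →* MulAut Q where
  toFun Φ := descend f hf hker Φ
  map_one' := by
    ext q
    obtain ⟨g, rfl⟩ := hf q
    rw [descend_apply]
    rfl
  map_mul' Φ Ψ := by
    ext q
    obtain ⟨g, rfl⟩ := hf q
    rw [descend_apply, MulAut.mul_apply, MulAut.mul_apply, descend_apply, descend_apply]

theorem descendAut_apply (Φ : MulAut G) (g : G) : descendAut f hf hker Φ (f g) = f (Φ g) :=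
  descend_apply f hf hker Φ g

end descendHom

variable {m : ℕ} {F : Type*} [Field F]

theorem conformal_inv {a : GL (Fin (2 * m)) F} {l : Fˣ}
    (hl : (a : Matrix (Fin (2 * m)) (Fin (2 * m)) F)ᵀ * Jm m F
      * (a : Matrix (Fin (2 * m)) (Fin (2 * m)) F) = (l : F) • Jm m F) :
    ((a⁻¹ : GL (Fin (2 * m)) F) : Matrix (Fin (2 * m)) (Fin (2 * m)) F)ᵀ * Jm m F
      * ((a⁻¹ : GL (Fin (2 * m)) F) : Matrix (Fin (2 * m)) (Fin (2 * m)) F)
      = ((l⁻¹ : Fˣ) : F) • Jm m F := by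
  have h1 : Jm m F = ((l⁻¹ : Fˣ) : F) • ((a : Matrix (Fin (2 * m)) (Fin (2 * m)) F)ᵀ * Jm m F
      * (a : Matrix (Fin (2 * m)) (Fin (2 * m)) F)) := by
    rw [hl, smul_smul, Units.val_inv_eq_inv_val, inv_mul_cancel₀ (Units.ne_zero l), one_smul]
  have h2 : ((a⁻¹ : GL (Fin (2 * m)) F) : Matrix (Fin (2 * m)) (Fin (2 * m)) F)ᵀ
      * (a : Matrix (Fin (2 * m)) (Fin (2 * m)) F)ᵀ = 1 := by
    rw [← Matrix.transpose_mul, ← Units.val_mul, mul_inv_cancel, Units.val_one,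
      Matrix.transpose_one]
  have h3 : (a : Matrix (Fin (2 * m)) (Fin (2 * m)) F)
      * ((a⁻¹ : GL (Fin (2 * m)) F) : Matrix (Fin (2 * m)) (Fin (2 * m)) F) = 1 := by
    rw [← Units.val_mul, mul_inv_cancel, Units.val_one]
  conv_lhs => rw [h1]
  rw [Matrix.mul_smul, Matrix.smul_mul]
  congr 1
  calc ((a⁻¹ : GL (Fin (2 * m)) F) : Matrix (Fin (2 * m)) (Fin (2 * m)) F)ᵀ
        * ((a : Matrix (Fin (2 * m)) (Fin (2 * m)) F)ᵀ * Jm m F
          * (a : Matrix (Fin (2 * m)) (Fin (2 * m)) F))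
        * ((a⁻¹ : GL (Fin (2 * m)) F) : Matrix (Fin (2 * m)) (Fin (2 * m)) F)
      = (((a⁻¹ : GL (Fin (2 * m)) F) : Matrix (Fin (2 * m)) (Fin (2 * m)) F)ᵀ
          * (a : Matrix (Fin (2 * m)) (Fin (2 * m)) F)ᵀ) * Jm m F
        * ((a : Matrix (Fin (2 * m)) (Fin (2 * m)) F)
          * ((a⁻¹ : GL (Fin (2 * m)) F) : Matrix (Fin (2 * m)) (Fin (2 * m)) F)) := by
        simp only [Matrix.mul_assoc]
    _ = Jm m F := by rw [h2, h3, Matrix.one_mul, Matrix.mul_one]

/-- the conformal symplectic group -/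
def GSpH (m : ℕ) (F : Type*) [Field F] : Subgroup (GL (Fin (2 * m)) F) where
  carrier := {g | ∃ l : Fˣ, (g : Matrix (Fin (2 * m)) (Fin (2 * m)) F)ᵀ * Jm m F
      * (g : Matrix (Fin (2 * m)) (Fin (2 * m)) F) = (l : F) • Jm m F}
  one_mem' := ⟨1, by simp⟩
  mul_mem' := by
    rintro a b ⟨l, hl⟩ ⟨l', hl'⟩
    refine ⟨l * l', ?_⟩
    rw [Units.val_mul, Matrix.transpose_mul]
    calc (b : Matrix (Fin (2 * m)) (Fin (2 * m)) F)ᵀ * (a : Matrix (Fin (2 * m)) (Fin (2 * m)) F)ᵀ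
          * Jm m F * ((a : Matrix (Fin (2 * m)) (Fin (2 * m)) F) * b)
        = (b : Matrix (Fin (2 * m)) (Fin (2 * m)) F)ᵀ
          * ((a : Matrix (Fin (2 * m)) (Fin (2 * m)) F)ᵀ * Jm m F * a) * b := by
          simp only [Matrix.mul_assoc]
      _ = ((l * l' : Fˣ) : F) • Jm m F := by
          rw [hl, Matrix.mul_smul, Matrix.smul_mul, hl', smul_smul, Units.val_mul]
  inv_mem' := by
    rintro a ⟨l, hl⟩
    exact ⟨l⁻¹, conformal_inv hl⟩

theorem mem_GSpH {g : GL (Fin (2 * m)) F} : g ∈ GSpH m F ↔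
    ∃ l : Fˣ, (g : Matrix (Fin (2 * m)) (Fin (2 * m)) F)ᵀ * Jm m F
      * (g : Matrix (Fin (2 * m)) (Fin (2 * m)) F) = (l : F) • Jm m F := Iff.rfl

theorem SpH_le_GSpH : SpH m F ≤ GSpH m F := by
  intro g hg
  refine ⟨1, ?_⟩
  rw [mem_SpH_iff.1 hg, Units.val_one, one_smul]

theorem dgU_mem_GSpH {d : Fin (2 * m) → Fˣ} {l : Fˣ} (hd : ∀ k, d k * d k.rev = l) :
    (dgU d : GL (Fin (2 * m)) F) ∈ GSpH m F := ⟨l, dgU_J hd⟩

/-- the conformal symplectic group normalises the symplectic group -/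
theorem conj_mem_SpH {g : GL (Fin (2 * m)) F} (hg : g ∈ GSpH m F) {h : GL (Fin (2 * m)) F}
    (hh : h ∈ SpH m F) : g * h * g⁻¹ ∈ SpH m F := by
  obtain ⟨l, hl⟩ := hg
  have hl' := conformal_inv hl
  rw [mem_SpH_iff] at hh ⊢
  rw [Units.val_mul, Units.val_mul, Matrix.transpose_mul, Matrix.transpose_mul]
  calc ((g⁻¹ : GL (Fin (2 * m)) F) : Matrix (Fin (2 * m)) (Fin (2 * m)) F)ᵀ
        * ((h : Matrix (Fin (2 * m)) (Fin (2 * m)) F)ᵀ
          * (g : Matrix (Fin (2 * m)) (Fin (2 * m)) F)ᵀ) * Jm m F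
        * ((g : Matrix (Fin (2 * m)) (Fin (2 * m)) F) * (h : Matrix (Fin (2 * m)) (Fin (2 * m)) F)
          * ((g⁻¹ : GL (Fin (2 * m)) F) : Matrix (Fin (2 * m)) (Fin (2 * m)) F))
      = ((g⁻¹ : GL (Fin (2 * m)) F) : Matrix (Fin (2 * m)) (Fin (2 * m)) F)ᵀ
        * ((h : Matrix (Fin (2 * m)) (Fin (2 * m)) F)ᵀ
          * ((g : Matrix (Fin (2 * m)) (Fin (2 * m)) F)ᵀ * Jm m F
            * (g : Matrix (Fin (2 * m)) (Fin (2 * m)) F))
          * (h : Matrix (Fin (2 * m)) (Fin (2 * m)) F))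
        * ((g⁻¹ : GL (Fin (2 * m)) F) : Matrix (Fin (2 * m)) (Fin (2 * m)) F) := by
        simp only [Matrix.mul_assoc]
    _ = (l : F) • (((g⁻¹ : GL (Fin (2 * m)) F) : Matrix (Fin (2 * m)) (Fin (2 * m)) F)ᵀ
        * ((h : Matrix (Fin (2 * m)) (Fin (2 * m)) F)ᵀ * Jm m F
          * (h : Matrix (Fin (2 * m)) (Fin (2 * m)) F))
        * ((g⁻¹ : GL (Fin (2 * m)) F) : Matrix (Fin (2 * m)) (Fin (2 * m)) F)) := by
        rw [hl]
        simp only [Matrix.mul_smul, Matrix.smul_mul]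
    _ = Jm m F := by
        rw [hh, hl', smul_smul, Units.val_inv_eq_inv_val, mul_inv_cancel₀ (Units.ne_zero l),
          one_smul]

/-- conjugation by a conformal matrix, as an automorphism of the symplectic group -/
def conjG (g : ↥(GSpH m F)) : ↥(SpH m F) ≃* ↥(SpH m F) where
  toFun h := ⟨g * h * (g : GL (Fin (2 * m)) F)⁻¹, conj_mem_SpH g.2 h.2⟩
  invFun h := ⟨(g : GL (Fin (2 * m)) F)⁻¹ * h * g, by
    have := conj_mem_SpH (inv_mem g.2) h.2
    rwa [inv_inv] at this⟩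
  left_inv h := by
    apply Subtype.ext
    show (g : GL (Fin (2 * m)) F)⁻¹ * (g * h * (g : GL (Fin (2 * m)) F)⁻¹) * g = h
    group
  right_inv h := by
    apply Subtype.ext
    show (g : GL (Fin (2 * m)) F) * ((g : GL (Fin (2 * m)) F)⁻¹ * h * g)
      * (g : GL (Fin (2 * m)) F)⁻¹ = h
    group
  map_mul' a b := by
    apply Subtype.ext
    show (g : GL (Fin (2 * m)) F) * (a * b : ↥(SpH m F)) * (g : GL (Fin (2 * m)) F)⁻¹
      = (g * a * (g : GL (Fin (2 * m)) F)⁻¹) * (g * b * (g : GL (Fin (2 * m)) F)⁻¹)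
    rw [Subgroup.coe_mul]
    group

theorem conjG_coe (g : ↥(GSpH m F)) (h : ↥(SpH m F)) :
    ((conjG g h : ↥(SpH m F)) : GL (Fin (2 * m)) F)
      = g * h * (g : GL (Fin (2 * m)) F)⁻¹ := rfl

/-- conjugation by conformal matrices, as a homomorphism -/
def conjGHom : ↥(GSpH m F) →* MulAut ↥(SpH m F) where
  toFun := conjG
  map_one' := by
    ext h
    rw [conjG_coe]
    simp
  map_mul' a b := by
    ext h
    rw [MulAut.mul_apply, conjG_coe, conjG_coe, conjG_coe, Subgroup.coe_mul]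
    group

theorem conjGHom_apply (g : ↥(GSpH m F)) : conjGHom g = conjG g := rfl

/-- the inner-diagonal automorphisms, as a homomorphism from the conformal symplectic group -/
noncomputable def DhS : ↥(GSpH m F) →* MulAut (PSp m F) :=
  (descendAut (fP m F) fP_surjective fP_ker).comp conjGHom

theorem DhS_apply (g : ↥(GSpH m F)) (h : ↥(SpH m F)) :
    DhS g (fP m F h) = fP m F (conjG g h) :=
  descendAut_apply (fP m F) fP_surjective fP_ker _ h

/-- the field automorphisms of the symplectic group, as a homomorphism -/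
noncomputable def fieldSHom : RingAut F →* MulAut ↥(SpH m F) where
  toFun σ := fieldS σ
  map_one' := by
    ext h : 1
    apply Subtype.ext
    apply Units.ext
    ext i j
    rw [fieldS_coe, Matrix.GeneralLinearGroup.map_apply]
    rfl
  map_mul' σ τ := by
    ext h : 1
    apply Subtype.ext
    apply Units.ext
    ext i j
    rw [MulAut.mul_apply, fieldS_coe, fieldS_coe, fieldS_coe,
      Matrix.GeneralLinearGroup.map_apply, Matrix.GeneralLinearGroup.map_apply,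
      Matrix.GeneralLinearGroup.map_apply]
    rfl

theorem fieldSHom_apply (σ : RingAut F) : (fieldSHom σ : MulAut ↥(SpH m F)) = fieldS σ := rfl

/-- the field automorphisms of `PSp`, as a homomorphism -/
noncomputable def PhS : RingAut F →* MulAut (PSp m F) :=
  (descendAut (fP m F) fP_surjective fP_ker).comp fieldSHom

theorem PhS_apply (σ : RingAut F) (h : ↥(SpH m F)) :
    (PhS σ : MulAut (PSp m F)) (fP m F h) = fP m F (fieldS σ h) :=
  descendAut_apply (fP m F) fP_surjective fP_ker _ h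

theorem aut_ext_fP {α β : MulAut (PSp m F)} (h : ∀ g : ↥(SpH m F), α (fP m F g) = β (fP m F g)) :
    α = β := by
  ext q
  obtain ⟨g, rfl⟩ := fP_surjective q
  exact h g

theorem conj_fP (h : ↥(SpH m F)) :
    MulAut.conj (fP m F h) = DhS (Subgroup.inclusion SpH_le_GSpH h) := by
  apply aut_ext_fP
  intro g
  have h1 : conjG (Subgroup.inclusion SpH_le_GSpH h) g = h * g * h⁻¹ := by
    apply Subtype.ext
    rw [conjG_coe, Subgroup.coe_mul, Subgroup.coe_mul, Subgroup.coe_inv]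
    rfl
  rw [DhS_apply, MulAut.conj_apply, h1, map_mul, map_mul, map_inv]

theorem semiP_eq (σ : F ≃+* F) (d : Fin (2 * m) → Fˣ) (l : Fˣ) (hd : ∀ k, d k * d k.rev = l) :
    semiP σ d l hd = DhS ⟨dgU d, dgU_mem_GSpH hd⟩ * PhS σ := by
  apply aut_ext_fP
  intro g
  rw [semiP_apply, MulAut.mul_apply, PhS_apply, DhS_apply]
  congr 1

theorem fieldP_eq (σ : F ≃+* F) : (fieldP σ : MulAut (PSp m F)) = PhS σ := by
  apply aut_ext_fP
  intro g
  unfold fieldP
  rw [semiP_apply, PhS_apply]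
  congr 1
  apply Subtype.ext
  rw [semiS_coe]
  have : (dgU (fun _ : Fin (2 * m) => (1 : Fˣ)) : GL (Fin (2 * m)) F) = 1 := by
    apply Units.ext
    rw [dgU_coe]
    simp
  rw [this, one_mul, inv_one, mul_one]
  rfl

/-- the factorisation of the automorphisms -/
theorem fac_psp [Fintype F] {p : ℕ} [Fact p.Prime] [CharP F p] (hm2 : 2 ≤ m)
    (h4 : m = 2 → p ≠ 2) (θ : MulAut (PSp m F)) :
    ∃ (g : ↥(GSpH m F)) (σ : RingAut F), θ = DhS g * PhS σ := by
  obtain ⟨x, d, l, hd, σ, e⟩ := aut_decomp hm2 h4 θ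
  obtain ⟨h, hh⟩ := fP_surjective x⁻¹
  rw [← hh, conj_fP, semiP_eq, fieldP_eq] at e
  have h1 : (PhS (RingEquiv.refl F) : MulAut (PSp m F)) = 1 := map_one PhS
  rw [h1, mul_one] at e
  refine ⟨(Subgroup.inclusion SpH_le_GSpH h)⁻¹ * (⟨dgU d, dgU_mem_GSpH hd⟩ : ↥(GSpH m F))⁻¹,
    σ, ?_⟩
  rw [map_mul, map_inv, map_inv, mul_assoc]
  exact e


end Cfsg.Agent.Lib.Helper8.AutSp
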