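import Cfsg.Agent.Lib.Helper8.AutSp.CountA
import Mathlib

/-!
# Matrices commuting with the root elements of the symplectic group are scalar (helper8)
-/

set_option autoImplicit false

namespace Cfsg.Agent.Lib.Helper8.AutSp

open Matrix Cfsg Cfsg.Agent.Lib.Helper5.GLBN Cfsg.Agent.Lib.Helper8.SpBN
open scoped MatrixGroups

variable {m : ℕ} {F : Type*} [Field F]

/-- the image of a basis vector under a root element -/
theorem rt_mulVec_single (a b : Fin (2 * m)) (hab : a ≠ b) (c : F) :
    ((rt a b hab c : GL (Fin (2 * m)) F) : Matrix (Fin (2 * m)) (Fin (2 * m)) F) *ᵥ Pi.single b 1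
      = Pi.single b 1 + c • Pi.single a 1 := by
  funext i
  rw [rt_mulVec]
  simp only [Pi.add_apply, Pi.smul_apply, smul_eq_mul, Pi.single_apply, if_true, mul_one]
  by_cases h : b = a.rev
  · simp only [if_pos h, add_zero]
    split_ifs <;> ring
  · have h' : ¬ a.rev = b := fun e => h e.symm
    simp only [if_neg h, if_neg h', mul_zero]
    split_ifs <;> ring

/-- the entries of a matrix intertwining two root elements -/
theorem entry_of_intertwine {g : GL (Fin (2 * m)) F} (a b : Fin (2 * m)) (hab : a ≠ b) (c c' : F)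
    (h : g * rt a b hab c = rt a b hab c' * g) (i : Fin (2 * m)) :
    c * (g : Matrix (Fin (2 * m)) (Fin (2 * m)) F) i a
      = (if i = a then c' * (g : Matrix (Fin (2 * m)) (Fin (2 * m)) F) b b else 0)
        + (if b = a.rev then 0 else if i = b.rev
            then -(eps m F a * eps m F b * c') * (g : Matrix (Fin (2 * m)) (Fin (2 * m)) F) a.rev b
            else 0) := by
  have h1 := congrArg (fun M : GL (Fin (2 * m)) F =>
    ((M : Matrix (Fin (2 * m)) (Fin (2 * m)) F) *ᵥ Pi.single b 1) i) h
  beta_reduce at h1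
  rw [Units.val_mul, Units.val_mul, ← Matrix.mulVec_mulVec, ← Matrix.mulVec_mulVec,
    rt_mulVec_single, rt_mulVec, Matrix.mulVec_add, Matrix.mulVec_smul,
    Matrix.mulVec_single_one, Matrix.mulVec_single_one, Pi.add_apply, Pi.smul_apply,
    smul_eq_mul] at h1
  simp only [Matrix.col_apply] at h1
  linear_combination h1

/-- a matrix intertwining all the root elements with their images under a field automorphism is
scalar, and the field automorphism is trivial -/
theorem scalar_of_intertwine (hm : 1 ≤ m) (g : GL (Fin (2 * m)) F) (σ : F ≃+* F)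
    (h : ∀ (a b : Fin (2 * m)) (hab : a ≠ b) (c : F),
      g * rt a b hab c = rt a b hab (σ c) * g) :
    (∃ c : Fˣ, (g : Matrix (Fin (2 * m)) (Fin (2 * m)) F)
        = (c : F) • (1 : Matrix (Fin (2 * m)) (Fin (2 * m)) F)) ∧ ∀ t, σ t = t := by
  have hlong : ∀ (a i : Fin (2 * m)) (c : F),
      c * (g : Matrix (Fin (2 * m)) (Fin (2 * m)) F) i a
        = if i = a then σ c * (g : Matrix (Fin (2 * m)) (Fin (2 * m)) F) a.rev a.rev else 0 := by
    intro a i c
    have := entry_of_intertwine a a.rev (self_ne_rev a) c (σ c) (h a a.rev _ c) i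
    rw [if_pos rfl, add_zero] at this
    exact this
  have hoff : ∀ i a : Fin (2 * m), i ≠ a →
      (g : Matrix (Fin (2 * m)) (Fin (2 * m)) F) i a = 0 := by
    intro i a hia
    have := hlong a i 1
    rw [one_mul, if_neg hia] at this
    exact this
  have hrev : ∀ a : Fin (2 * m), (g : Matrix (Fin (2 * m)) (Fin (2 * m)) F) a a
      = (g : Matrix (Fin (2 * m)) (Fin (2 * m)) F) a.rev a.rev := by
    intro a
    have := hlong a a 1
    rw [one_mul, if_pos rfl, map_one, one_mul] at this
    exact this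
  have hshort : ∀ a b : Fin (2 * m), a ≠ b → b ≠ a.rev →
      (g : Matrix (Fin (2 * m)) (Fin (2 * m)) F) a a
        = (g : Matrix (Fin (2 * m)) (Fin (2 * m)) F) b b := by
    intro a b hab hb
    have := entry_of_intertwine a b hab 1 (σ 1) (h a b hab 1) a
    rw [one_mul, if_pos rfl, map_one, one_mul, if_neg hb,
      if_neg (fun e => hb (by rw [e, Fin.rev_rev])), add_zero] at this
    exact this
  have hall : ∀ a b : Fin (2 * m), (g : Matrix (Fin (2 * m)) (Fin (2 * m)) F) a a
      = (g : Matrix (Fin (2 * m)) (Fin (2 * m)) F) b b := by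
    intro a b
    by_cases hab : a = b
    · rw [hab]
    · by_cases hb : b = a.rev
      · rw [hb]; exact hrev a
      · exact hshort a b hab hb
  obtain ⟨i0, -⟩ : ∃ i0 : Fin (2 * m), i0 = ⟨0, by omega⟩ := ⟨_, rfl⟩
  have hg : (g : Matrix (Fin (2 * m)) (Fin (2 * m)) F)
      = (g : Matrix (Fin (2 * m)) (Fin (2 * m)) F) i0 i0
        • (1 : Matrix (Fin (2 * m)) (Fin (2 * m)) F) := by
    ext i j
    rw [Matrix.smul_apply, Matrix.one_apply, smul_eq_mul]
    by_cases hij : i = j
    · rw [if_pos hij, mul_one, hij]; exact hall j i0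
    · rw [if_neg hij, mul_zero]; exact hoff i j hij
  have hc : (g : Matrix (Fin (2 * m)) (Fin (2 * m)) F) i0 i0 ≠ 0 := by
    intro h0
    rw [h0, zero_smul] at hg
    have h1 : (g : Matrix (Fin (2 * m)) (Fin (2 * m)) F)
        * ((g⁻¹ : GL (Fin (2 * m)) F) : Matrix (Fin (2 * m)) (Fin (2 * m)) F) = 1 := by
      rw [← Units.val_mul, mul_inv_cancel, Units.val_one]
    rw [hg, Matrix.zero_mul] at h1
    have := congrFun (congrFun h1 i0) i0
    rw [Matrix.zero_apply, Matrix.one_apply_eq] at this
    exact zero_ne_one this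
  refine ⟨⟨Units.mk0 _ hc, hg⟩, ?_⟩
  intro t
  have := hlong i0 i0 t
  rw [if_pos rfl, ← hrev i0] at this
  exact (mul_right_cancel₀ hc this).symm

theorem rtS_pow (a b : Fin (2 * m)) (hab : a ≠ b) (c : F) (n : ℕ) :
    rtS a b hab c ^ n = rtS a b hab (n * c) := by
  induction n with
  | zero => rw [pow_zero, Nat.cast_zero, zero_mul, rtS_zero]
  | succ n ih => rw [pow_succ, ih, rtS_add, Nat.cast_succ, add_mul, one_mul]

theorem rtS_pow_char {p : ℕ} [CharP F p] (a b : Fin (2 * m)) (hab : a ≠ b) (c : F) :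
    rtS a b hab c ^ p = 1 := by
  rw [rtS_pow, CharP.cast_eq_zero, zero_mul, rtS_zero]

/-- a central element of `p`-power order is trivial -/
theorem center_pow_eq_one {p : ℕ} [Fact p.Prime] [CharP F p] (hm : 1 ≤ m) {z : ↥(SpH m F)}
    (hz : z ∈ Subgroup.center ↥(SpH m F)) (hp : z ^ p = 1) : z = 1 := by
  have key : ((z : GL (Fin (2 * m)) F) : Matrix (Fin (2 * m)) (Fin (2 * m)) F) = 1 := by
    rcases center_cases_SpH hm hz with h | h
    · exact h
    · rw [h]
      have h1 : (((z ^ p : ↥(SpH m F)) : GL (Fin (2 * m)) F) :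
          Matrix (Fin (2 * m)) (Fin (2 * m)) F) = 1 := by rw [hp]; rfl
      rw [Subgroup.coe_pow, Units.val_pow_eq_pow_val, h] at h1
      rcases (Fact.out : p.Prime).eq_two_or_odd' with h2 | h2
      · have h3 : ((2 : ℕ) : F) = 0 := by
          have := CharP.cast_eq_zero F p
          rwa [h2] at this
        have h4 : (-1 : F) = 1 := by
          rw [Nat.cast_ofNat] at h3
          linear_combination -h3
        calc (-1 : Matrix (Fin (2 * m)) (Fin (2 * m)) F)
            = (-1 : F) • (1 : Matrix (Fin (2 * m)) (Fin (2 * m)) F) := by rw [neg_one_smul]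
          _ = 1 := by rw [h4, one_smul]
      · rw [h2.neg_one_pow] at h1
        exact h1
  apply Subtype.ext
  apply Units.ext
  exact key

/-- an element of the conformal group inducing the same automorphism as a field automorphism
intertwines the root elements -/
theorem intertwine_of_DhS_eq {p : ℕ} [Fact p.Prime] [CharP F p] (hm : 1 ≤ m)
    (g : ↥(GSpH m F)) (σ : RingAut F) (h : DhS g = PhS σ)
    (a b : Fin (2 * m)) (hab : a ≠ b) (c : F) :
    (g : GL (Fin (2 * m)) F) * rt a b hab c = rt a b hab (σ c) * g := by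
  have h1 := DFunLike.congr_fun h (fP m F (rtS a b hab c))
  rw [DhS_apply, PhS_apply] at h1
  have h2 : fieldS σ (rtS a b hab c) = rtS a b hab (σ c) := by
    apply Subtype.ext
    rw [fieldS_coe]
    exact glMap_rt σ a b hab c
  rw [h2] at h1
  obtain ⟨z, hzd⟩ : ∃ z : ↥(SpH m F), z = conjG g (rtS a b hab c) * (rtS a b hab (σ c))⁻¹ :=
    ⟨_, rfl⟩
  have hz : z ∈ Subgroup.center ↥(SpH m F) := by
    rw [← fP_ker, MonoidHom.mem_ker, hzd, map_mul, map_inv, h1, mul_inv_cancel]
  have h3 : conjG g (rtS a b hab c) = z * rtS a b hab (σ c) := by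
    rw [hzd, inv_mul_cancel_right]
  have h4 : z ^ p = 1 := by
    have h5 : (conjG g (rtS a b hab c)) ^ p = 1 := by
      rw [← map_pow, rtS_pow_char, map_one]
    have hc : Commute z (rtS a b hab (σ c)) := (Subgroup.mem_center_iff.1 hz _).symm
    rw [h3, hc.mul_pow, rtS_pow_char, mul_one] at h5
    exact h5
  have hz1 := center_pow_eq_one (p := p) hm hz h4
  rw [hz1, one_mul] at h3
  have h6 := congrArg Subtype.val h3
  rw [conjG_coe] at h6
  have h7 : (g : GL (Fin (2 * m)) F) * rt a b hab c * (g : GL (Fin (2 * m)) F)⁻¹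
      = rt a b hab (σ c) := h6
  rw [← h7]
  group

end Cfsg.Agent.Lib.Helper8.AutSp
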