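import Cfsg.Agent.Lib.Helper8.AutSp.CountB
import Cfsg.Agent.Lib.Lead.AutPSLCountC
import Mathlib

/-!
# The order of the automorphism group of `PSp_{2m}(F)` (helper8)
-/

set_option autoImplicit false

namespace Cfsg.Agent.Lib.Helper8.AutSp

open Matrix Cfsg Cfsg.Agent.Lib.Helper5.GLBN Cfsg.Agent.Lib.Helper8.SpBN
open scoped MatrixGroups

variable {m : ℕ} {F : Type*} [Field F]

/-! ### the multiplier -/

theorem smul_Jm_inj (hm : 1 ≤ m) {l l' : F} (h : l • Jm m F = l' • Jm m F) : l = l' := by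
  obtain ⟨i0, -⟩ : ∃ i0 : Fin (2 * m), i0 = ⟨0, by omega⟩ := ⟨_, rfl⟩
  have h1 := congrFun (congrFun h i0) i0.rev
  rw [Matrix.smul_apply, Matrix.smul_apply, Jm_apply_rev, smul_eq_mul, smul_eq_mul] at h1
  exact mul_right_cancel₀ (eps_ne_zero i0) h1

/-- the multiplier of a conformal matrix -/
noncomputable def mult (g : ↥(GSpH m F)) : Fˣ := Classical.choose g.2

theorem mult_spec (g : ↥(GSpH m F)) :
    ((g : GL (Fin (2 * m)) F) : Matrix (Fin (2 * m)) (Fin (2 * m)) F)ᵀ * Jm m F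
      * ((g : GL (Fin (2 * m)) F) : Matrix (Fin (2 * m)) (Fin (2 * m)) F)
      = ((mult g : Fˣ) : F) • Jm m F := Classical.choose_spec g.2

theorem mult_eq (hm : 1 ≤ m) (g : ↥(GSpH m F)) {l : Fˣ}
    (h : ((g : GL (Fin (2 * m)) F) : Matrix (Fin (2 * m)) (Fin (2 * m)) F)ᵀ * Jm m F
      * ((g : GL (Fin (2 * m)) F) : Matrix (Fin (2 * m)) (Fin (2 * m)) F) = (l : F) • Jm m F) :
    mult g = l := by
  apply Units.ext
  apply smul_Jm_inj hm
  rw [← mult_spec, h]

/-- the multiplier, as a homomorphism -/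
noncomputable def multHom (hm : 1 ≤ m) : ↥(GSpH m F) →* Fˣ where
  toFun := mult
  map_one' := by
    apply mult_eq hm
    simp
  map_mul' a b := by
    apply mult_eq hm
    rw [Subgroup.coe_mul, Units.val_mul, Matrix.transpose_mul]
    calc ((b : GL (Fin (2 * m)) F) : Matrix (Fin (2 * m)) (Fin (2 * m)) F)ᵀ
          * ((a : GL (Fin (2 * m)) F) : Matrix (Fin (2 * m)) (Fin (2 * m)) F)ᵀ
          * Jm m F * (((a : GL (Fin (2 * m)) F) : Matrix (Fin (2 * m)) (Fin (2 * m)) F)
            * ((b : GL (Fin (2 * m)) F) : Matrix (Fin (2 * m)) (Fin (2 * m)) F))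
        = ((b : GL (Fin (2 * m)) F) : Matrix (Fin (2 * m)) (Fin (2 * m)) F)ᵀ
          * (((a : GL (Fin (2 * m)) F) : Matrix (Fin (2 * m)) (Fin (2 * m)) F)ᵀ * Jm m F
            * ((a : GL (Fin (2 * m)) F) : Matrix (Fin (2 * m)) (Fin (2 * m)) F))
          * ((b : GL (Fin (2 * m)) F) : Matrix (Fin (2 * m)) (Fin (2 * m)) F) := by
          simp only [Matrix.mul_assoc]
      _ = ((mult a * mult b : Fˣ) : F) • Jm m F := by
          rw [mult_spec, Matrix.mul_smul, Matrix.smul_mul, mult_spec, smul_smul, Units.val_mul]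

theorem multHom_apply (hm : 1 ≤ m) (g : ↥(GSpH m F)) : multHom hm g = mult g := rfl

theorem multHom_surjective (hm : 1 ≤ m) : Function.Surjective (multHom (F := F) hm) := by
  intro l
  obtain ⟨d, hd⟩ : ∃ d : Fin (2 * m) → Fˣ,
      d = fun k : Fin (2 * m) => if (k : ℕ) < m then l else 1 := ⟨_, rfl⟩
  have hdl : ∀ k, d k * d k.rev = l := by
    intro k
    rw [hd]
    beta_reduce
    rw [Fin.val_rev]
    have := k.2
    split_ifs with h1 h2 h2
    · omega
    · rw [mul_one]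
    · rw [one_mul]
    · omega
  refine ⟨⟨dgU d, dgU_mem_GSpH hdl⟩, ?_⟩
  exact mult_eq hm _ (dgU_J hdl)

theorem multHom_ker (hm : 1 ≤ m) :
    (multHom (F := F) hm).ker = (SpH m F).subgroupOf (GSpH m F) := by
  ext g
  rw [MonoidHom.mem_ker, Subgroup.mem_subgroupOf, mem_SpH_iff, multHom_apply]
  constructor
  · intro h
    have := mult_spec g
    rw [h, Units.val_one, one_smul] at this
    exact this
  · intro h
    apply mult_eq hm
    rw [h, Units.val_one, one_smul]

/-- the order of the conformal symplectic group -/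
theorem card_GSpH [Finite F] (hm : 1 ≤ m) :
    Nat.card ↥(GSpH m F) = Nat.card Fˣ * Nat.card ↥(SpH m F) := by
  rw [Subgroup.card_eq_card_quotient_mul_card_subgroup (multHom (F := F) hm).ker,
    Nat.card_congr (QuotientGroup.quotientKerEquivOfSurjective _ (multHom_surjective hm)).toEquiv,
    multHom_ker hm,
    Nat.card_congr (Subgroup.subgroupOfEquivOfLe (SpH_le_GSpH (m := m) (F := F))).toEquiv]

/-! ### the kernel of the action of the conformal group -/

theorem dgU_const_comm {n : ℕ} (c : Fˣ) (h : GL (Fin n) F) :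
    dgU (fun _ => c) * h = h * dgU (fun _ => c) := by
  apply Units.ext
  rw [Units.val_mul, Units.val_mul, dgU_coe]
  ext i j
  rw [Matrix.diagonal_mul, Matrix.mul_diagonal, mul_comm]

/-- the scalar matrices, in the conformal group -/
def scalG (c : Fˣ) : ↥(GSpH m F) :=
  ⟨dgU (fun _ => c), dgU_mem_GSpH (l := c * c) (fun _ => rfl)⟩

theorem scalG_coe (c : Fˣ) :
    ((scalG c : ↥(GSpH m F)) : GL (Fin (2 * m)) F) = dgU (fun _ => c) := rfl

theorem scalG_mem_ker (c : Fˣ) : (scalG c : ↥(GSpH m F)) ∈ (DhS (m := m) (F := F)).ker := by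
  rw [MonoidHom.mem_ker]
  apply aut_ext_fP
  intro h
  rw [DhS_apply, MulAut.one_apply]
  congr 1
  apply Subtype.ext
  rw [conjG_coe, scalG_coe, dgU_const_comm, mul_inv_cancel_right]

theorem PhS_one : (PhS (1 : RingAut F) : MulAut (PSp m F)) = 1 := map_one PhS

/-- the kernel of the action consists of the scalar matrices -/
theorem exists_scalG_of_mem_ker {p : ℕ} [Fact p.Prime] [CharP F p] (hm : 1 ≤ m)
    {g : ↥(GSpH m F)} (hg : g ∈ (DhS (m := m) (F := F)).ker) : ∃ c : Fˣ, g = scalG c := by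
  rw [MonoidHom.mem_ker, ← PhS_one] at hg
  obtain ⟨⟨c, hc⟩, -⟩ := scalar_of_intertwine hm (g : GL (Fin (2 * m)) F) (1 : RingAut F)
    (intertwine_of_DhS_eq (p := p) hm g 1 hg)
  refine ⟨c, ?_⟩
  apply Subtype.ext
  apply Units.ext
  rw [hc, scalG_coe, dgU_coe]
  ext i j
  rw [Matrix.smul_apply, Matrix.one_apply, Matrix.diagonal_apply, smul_eq_mul]
  split_ifs <;> simp

theorem scalG_injective (hm : 1 ≤ m) : Function.Injective (scalG (m := m) (F := F)) := by
  intro c c' h
  obtain ⟨i0, -⟩ : ∃ i0 : Fin (2 * m), i0 = ⟨0, by omega⟩ := ⟨_, rfl⟩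
  have h1 := congrArg (fun g : ↥(GSpH m F) =>
    ((g : GL (Fin (2 * m)) F) : Matrix (Fin (2 * m)) (Fin (2 * m)) F) i0 i0) h
  beta_reduce at h1
  rw [scalG_coe, scalG_coe, dgU_coe, dgU_coe, Matrix.diagonal_apply_eq,
    Matrix.diagonal_apply_eq] at h1
  exact Units.ext h1

theorem card_ker_DhS [Finite F] {p : ℕ} [Fact p.Prime] [CharP F p] (hm : 1 ≤ m) :
    Nat.card ↥(DhS (m := m) (F := F)).ker = Nat.card Fˣ := by
  symm
  apply Nat.card_congr
  refine Equiv.ofBijective (fun c => ⟨scalG c, scalG_mem_ker c⟩) ⟨?_, ?_⟩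
  · intro c c' h
    exact scalG_injective hm (congrArg Subtype.val h)
  · rintro ⟨g, hg⟩
    obtain ⟨c, rfl⟩ := exists_scalG_of_mem_ker (p := p) hm hg
    exact ⟨c, rfl⟩

/-- the group of inner-diagonal automorphisms has the order of the symplectic group -/
theorem card_range_DhS [Finite F] {p : ℕ} [Fact p.Prime] [CharP F p] (hm : 1 ≤ m) :
    Nat.card ↥(DhS (m := m) (F := F)).range = Nat.card ↥(SpH m F) := by
  have h1 := Subgroup.card_eq_card_quotient_mul_card_subgroup (DhS (m := m) (F := F)).ker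
  rw [Nat.card_congr (QuotientGroup.quotientKerEquivRange (DhS (m := m) (F := F))).toEquiv,
    card_GSpH hm, card_ker_DhS (p := p) hm, mul_comm] at h1
  have h2 : 0 < Nat.card Fˣ := Nat.card_pos
  exact (Nat.eq_of_mul_eq_mul_right h2 h1).symm

end Cfsg.Agent.Lib.Helper8.AutSp
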