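import Cfsg.Agent.Lib.Helper8.AutSp.CountC
import Mathlib

/-!
# The order of the automorphism group of `PSp_{2m}(F)`, the count (helper8)
-/

set_option autoImplicit false

namespace Cfsg.Agent.Lib.Helper8.AutSp

open Matrix Cfsg Cfsg.Agent.Lib.Helper5.GLBN Cfsg.Agent.Lib.Helper8.SpBN
open scoped MatrixGroups

variable {m : ℕ} {F : Type*} [Field F]

theorem glMap_mem_GSpH (σ : F ≃+* F) {g : GL (Fin (2 * m)) F} (hg : g ∈ GSpH m F) :
    Matrix.GeneralLinearGroup.map (σ : F →+* F) g ∈ GSpH m F := by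
  obtain ⟨l, hl⟩ := hg
  refine ⟨Units.map (σ : F →* F) l, ?_⟩
  rw [glMap_coe]
  have h := congrArg (fun M : Matrix (Fin (2 * m)) (Fin (2 * m)) F => M.map σ) hl
  beta_reduce at h
  have e1 : ∀ A B : Matrix (Fin (2 * m)) (Fin (2 * m)) F, (A * B).map σ = A.map σ * B.map σ :=
    fun A B => Matrix.map_mul (f := (σ : F →+* F))
  rw [e1, e1, Jm_map, Matrix.transpose_map] at h
  rw [h]
  ext i j
  rw [Matrix.map_apply, Matrix.smul_apply, Matrix.smul_apply, smul_eq_mul, smul_eq_mul, map_mul,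
    ← Matrix.map_apply (f := σ), Jm_map]
  rfl

/-- applying a field automorphism to a conformal matrix -/
noncomputable def mapG (σ : RingAut F) (g : ↥(GSpH m F)) : ↥(GSpH m F) :=
  ⟨Matrix.GeneralLinearGroup.map ((σ : F ≃+* F) : F →+* F) g, glMap_mem_GSpH σ g.2⟩

theorem PhS_DhS (σ : RingAut F) (g : ↥(GSpH m F)) :
    (PhS σ : MulAut (PSp m F)) * DhS g = DhS (mapG σ g) * PhS σ := by
  apply aut_ext_fP
  intro h
  rw [MulAut.mul_apply, MulAut.mul_apply, DhS_apply, PhS_apply, PhS_apply, DhS_apply]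
  congr 1
  apply Subtype.ext
  rw [fieldS_coe, conjG_coe, conjG_coe, fieldS_coe, map_mul, map_mul, map_inv]
  rfl

theorem range_DhS_normal (hfac : ∀ θ : MulAut (PSp m F), ∃ (g : ↥(GSpH m F)) (σ : RingAut F),
    θ = DhS g * PhS σ) : (DhS (m := m) (F := F)).range.Normal := by
  constructor
  rintro _ ⟨g, rfl⟩ θ
  obtain ⟨g', σ, rfl⟩ := hfac θ
  refine ⟨g' * mapG σ g * g'⁻¹, ?_⟩
  have h := PhS_DhS σ g
  rw [map_mul, map_mul, map_inv, _root_.mul_inv_rev]
  calc DhS g' * DhS (mapG σ g) * (DhS g')⁻¹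
      = DhS g' * (DhS (mapG σ g) * PhS σ) * (PhS σ)⁻¹ * (DhS g')⁻¹ := by group
    _ = DhS g' * PhS σ * DhS g * ((PhS σ)⁻¹ * (DhS g')⁻¹) := by rw [← h]; group

/-- **the order of the automorphism group**, in terms of the symplectic group -/
theorem card_aut_psp [Fintype F] {p : ℕ} [Fact p.Prime] [CharP F p] (hm2 : 2 ≤ m)
    (h4 : m = 2 → p ≠ 2) :
    Nat.card (MulAut (PSp m F)) = Nat.card (RingAut F) * Nat.card ↥(SpH m F) := by
  have hfac := fac_psp (F := F) hm2 h4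
  haveI := range_DhS_normal hfac
  rw [← card_range_DhS (p := p) (by omega : 1 ≤ m)]
  apply Cfsg.Agent.AutPSLCount.split_card (DhS (m := m) (F := F)).range PhS
  · intro θ
    obtain ⟨g, σ, rfl⟩ := hfac θ
    exact ⟨DhS g, ⟨g, rfl⟩, σ, rfl⟩
  · rintro σ ⟨g, hg⟩
    have h := (scalar_of_intertwine (by omega) (g : GL (Fin (2 * m)) F) σ
      (intertwine_of_DhS_eq (p := p) (by omega) g σ hg)).2
    ext t
    exact h t

end Cfsg.Agent.Lib.Helper8.AutSp
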