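import Cfsg.Agent.Lib.Helper8.AutSp.Final
import Mathlib

/-!
# The decomposition of the automorphisms of `PSp_{2m}(F)` (helper8)
-/

set_option autoImplicit false

namespace Cfsg.Agent.Lib.Helper8.AutSp

open Matrix Cfsg Cfsg.Agent.Lib.Helper5.GLBN Cfsg.Agent.Lib.Helper5.BN
open Cfsg.Agent.Lib.Helper5.AutBN Cfsg.Agent.Lib.Helper8.SpBN
open scoped MatrixGroups

variable {m : ℕ} {F : Type*} [Field F]

/-- every automorphism of `PSp_{2m}(F)` is a product of an inner, a diagonal and a field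
automorphism -/
theorem aut_decomp [Fintype F] {p : ℕ} [Fact p.Prime] [CharP F p] (hm2 : 2 ≤ m)
    (h4 : m = 2 → p ≠ 2) (θ : PSp m F ≃* PSp m F) :
    ∃ (x : PSp m F) (d : Fin (2 * m) → Fˣ) (l : Fˣ) (hd : ∀ k, d k * d k.rev = l) (σ : F ≃+* F),
      θ = (MulAut.conj x⁻¹)⁻¹ * ((semiP (RingEquiv.refl F) d l hd)⁻¹ * fieldP σ) := by
  have hm : 0 < m := by omega
  obtain ⟨x, ρ, -, -, -, -, hXp, hXm⟩ :=
    sp_normal_form hm2 p (fP m F) fP_surjective fP_ker θ
  obtain ⟨θ', hθ'⟩ : ∃ θ' : PSp m F ≃* PSp m F, θ' = θ.trans (MulAut.conj x⁻¹) := ⟨_, rfl⟩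
  rw [← hθ'] at hXp hXm
  have hρ := perm_eq_one_or_rev (fP m F) fP_ker hXp
  choose A₀ hA₀ using fun i t => (exists_param_of_map (fP m F) (hXp i)).1 t
  choose B₀ hB₀ using fun i t => (exists_param_of_map' (fP m F) (hXm i)).1 t
  have hc : ∀ i, A₀ i 1 ≠ 0 := fun i =>
    param_ne_zero (fP m F) fP_ker (by omega) one_ne_zero (hA₀ i 1)
  obtain ⟨d, l, hd, hratio⟩ :=
    exists_diag (fun k : Fin m => (Units.mk0 (A₀ (ρ.symm k) 1) (hc _))⁻¹)
  obtain ⟨δ, hδ⟩ : ∃ δ : PSp m F ≃* PSp m F, δ = semiP (RingEquiv.refl F) d l hd := ⟨_, rfl⟩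
  obtain ⟨θ'', hθ''⟩ : ∃ θ'' : PSp m F ≃* PSp m F, θ'' = θ'.trans δ := ⟨_, rfl⟩
  have hA : ∀ i t, θ'' (fP m F (xp i t))
      = fP m F (xp (ρ i) ((A₀ i 1)⁻¹ * A₀ i t)) := by
    intro i t
    rw [hθ'', MulEquiv.trans_apply, hA₀, hδ, semiP_apply, semiS_xp]
    congr 2
    have h1 := congrArg (fun u : Fˣ => (u : F)) (hratio (ρ i))
    simp only [Units.val_mul, Units.val_inv_eq_inv_val, Units.val_mk0, Equiv.symm_apply_apply]
      at h1
    rw [RingEquiv.refl_apply, Units.val_inv_eq_inv_val, mul_right_comm, h1]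
  have hB : ∀ i t, θ'' (fP m F (xm i t))
      = fP m F (xm (ρ i) (d (kk' (ρ i)) * B₀ i t * ((d (kk (ρ i)))⁻¹ : Fˣ))) := by
    intro i t
    rw [hθ'', MulEquiv.trans_apply, hB₀, hδ, semiP_apply, semiS_xm]
    rfl
  have h1 : ∀ i, θ'' (fP m F (xp i 1)) = fP m F (xp (ρ i) 1) := by
    intro i
    rw [hA, inv_mul_cancel₀ (hc i)]
  rcases hρ with hρ | hρ
  · -- the diagram automorphism is trivial
    have hA' : ∀ i t, θ'' (fP m F (xp i t)) = fP m F (xp i ((A₀ i 1)⁻¹ * A₀ i t)) := by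
      intro i t
      rw [hA, hρ]; rfl
    have hB' : ∀ i t, θ'' (fP m F (xm i t))
        = fP m F (xm i (d (kk' (ρ i)) * B₀ i t * ((d (kk (ρ i)))⁻¹ : Fˣ))) := by
      intro i t
      rw [hB]
      congr 2
      rw [hρ]; rfl
    obtain ⟨σ, hσA, hσB⟩ := exists_field_aut (fP m F) fP_ker hA' hB'
      (fun i => inv_mul_cancel₀ (hc i)) hm2
    have hfin : θ'' = fieldP σ := by
      apply aut_ext_simple (fP m F) fP_surjective hm
      · intro i t
        rw [hA', fieldP_xp, hσA]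
      · intro i t
        rw [hB', fieldP_xm, hσB]
    have e : θ = (MulAut.conj x⁻¹)⁻¹ * (δ⁻¹ * fieldP σ) := by
      ext q
      rw [MulAut.mul_apply, MulAut.mul_apply, MulAut.inv_apply, MulAut.inv_apply, ← hfin, hθ'',
        MulEquiv.trans_apply, MulEquiv.symm_apply_apply, hθ', MulEquiv.trans_apply,
        MulEquiv.symm_apply_apply]
    rw [hδ] at e
    exact ⟨x, d, l, hd, σ, e⟩
  · -- the diagram automorphism is the reversal: impossible
    exfalso
    by_cases hm3 : 3 ≤ m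
    · apply not_rev_of_three_le (fP m F) fP_ker hm3 (θ := θ'')
      intro i
      have := aut_nu_one (fP m F) fP_ker hm2 (h1 i) (fun t => ⟨_, hB i t⟩)
      rw [hρ] at this
      exact this
    · have hm2' : m = 2 := by omega
      have h2 : (2 : F) ≠ 0 := two_ne_zero_of_char (h4 hm2')
      have r1 : ρ (iPen hm2) = iLast hm := by
        rw [hρ]
        apply Fin.ext
        rw [Fin.revPerm_apply, Fin.val_rev, iPen_val]
        simp only [iLast]
        omega
      have r2 : ρ (iLast hm) = iPen hm2 := by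
        rw [hρ]
        apply Fin.ext
        rw [Fin.revPerm_apply, Fin.val_rev, iPen_val]
        simp only [iLast]
        omega
      apply not_swap_last_two (fP m F) fP_ker hm2 h2 (θ := θ')
      · intro t
        have := hA₀ (iPen hm2) t
        rw [r1] at this
        exact ⟨_, this⟩
      · intro t
        have := hA₀ (iLast hm) t
        rw [r2] at this
        exact ⟨_, this⟩
      · intro s
        obtain ⟨t, ht⟩ := (exists_param_of_map (fP m F) (hXp (iLast hm))).2 s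
        rw [r2] at ht
        exact ⟨t, ht⟩

end Cfsg.Agent.Lib.Helper8.AutSp
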