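import Cfsg.Agent.Lib.Helper8.SpBN.Gen
import Mathlib

/-!
# Embedding small matrix groups on a subset of the coordinates (helper8)
-/

set_option autoImplicit false

namespace Cfsg.Agent.Lib.Helper8.AutSp

open Matrix Cfsg Cfsg.Agent.Lib.Helper5.GLBN Cfsg.Agent.Lib.Helper8.SpBN
open scoped MatrixGroups

variable {r n : ℕ} {F : Type*} [Field F]

/-- the `0/1` matrix of a map of the coordinates -/
def embP (F : Type*) [Field F] (e : Fin r → Fin n) : Matrix (Fin n) (Fin r) F :=
  Matrix.of fun a i => if a = e i then 1 else 0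

theorem embP_apply (e : Fin r → Fin n) (a : Fin n) (i : Fin r) :
    (embP F e) a i = if a = e i then 1 else 0 := rfl

theorem embP_tr_mul (e : Fin r → Fin n) (he : Function.Injective e) :
    (embP F e)ᵀ * embP F e = 1 := by
  ext i j
  rw [Matrix.mul_apply, Matrix.one_apply]
  simp only [Matrix.transpose_apply, embP_apply]
  rw [Finset.sum_eq_single (e i)]
  · rw [if_pos rfl, one_mul]
    by_cases hij : i = j
    · rw [if_pos hij, if_pos (by rw [hij])]
    · rw [if_neg hij, if_neg (fun h => hij (he h))]
  · intro a _ ha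
    rw [if_neg ha, zero_mul]
  · intro h; exact absurd (Finset.mem_univ _) h

theorem embP_mul_apply (e : Fin r → Fin n) (he : Function.Injective e)
    (A : Matrix (Fin r) (Fin r) F) (i : Fin r) (j : Fin r) :
    ((embP F e) * A) (e i) j = A i j := by
  rw [Matrix.mul_apply, Finset.sum_eq_single i]
  · rw [embP_apply, if_pos rfl, one_mul]
  · intro k _ hk
    rw [embP_apply, if_neg (fun h => hk (he h).symm), zero_mul]
  · intro h; exact absurd (Finset.mem_univ _) h

theorem embP_mul_apply_of_not_mem (e : Fin r → Fin n)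
    (A : Matrix (Fin r) (Fin r) F) {a : Fin n} (ha : ∀ i, a ≠ e i) (j : Fin r) :
    ((embP F e) * A) a j = 0 := by
  rw [Matrix.mul_apply]
  apply Finset.sum_eq_zero
  intro k _
  rw [embP_apply, if_neg (ha k), zero_mul]

theorem mul_embP_tr_apply (e : Fin r → Fin n) (he : Function.Injective e)
    (A : Matrix (Fin n) (Fin r) F) (a : Fin n) (j : Fin r) :
    (A * (embP F e)ᵀ) a (e j) = A a j := by
  rw [Matrix.mul_apply, Finset.sum_eq_single j]
  · rw [Matrix.transpose_apply, embP_apply, if_pos rfl, mul_one]
  · intro k _ hk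
    rw [Matrix.transpose_apply, embP_apply, if_neg (fun h => hk (he h).symm), mul_zero]
  · intro h; exact absurd (Finset.mem_univ _) h

theorem mul_embP_tr_apply_of_not_mem (e : Fin r → Fin n)
    (A : Matrix (Fin n) (Fin r) F) (a : Fin n) {b : Fin n} (hb : ∀ j, b ≠ e j) :
    (A * (embP F e)ᵀ) a b = 0 := by
  rw [Matrix.mul_apply]
  apply Finset.sum_eq_zero
  intro k _
  rw [Matrix.transpose_apply, embP_apply, if_neg (hb k), mul_zero]

/-- the embedding of the matrices -/
def emb (e : Fin r → Fin n) (M : Matrix (Fin r) (Fin r) F) : Matrix (Fin n) (Fin n) F :=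
  1 + embP F e * (M - 1) * (embP F e)ᵀ

theorem emb_one (e : Fin r → Fin n) : emb e (1 : Matrix (Fin r) (Fin r) F) = 1 := by
  unfold emb
  rw [sub_self, Matrix.mul_zero, Matrix.zero_mul, add_zero]

theorem emb_mul (e : Fin r → Fin n) (he : Function.Injective e)
    (M M' : Matrix (Fin r) (Fin r) F) : emb e (M * M') = emb e M * emb e M' := by
  unfold emb
  have h := embP_tr_mul (F := F) e he
  have key : (embP F e) * (M - 1) * (embP F e)ᵀ
      * ((embP F e) * (M' - 1) * (embP F e)ᵀ)
      = embP F e * ((M - 1) * (M' - 1)) * (embP F e)ᵀ := by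
    calc (embP F e) * (M - 1) * (embP F e)ᵀ
          * ((embP F e) * (M' - 1) * (embP F e)ᵀ)
        = embP F e * (M - 1) * ((embP F e)ᵀ * embP F e) * (M' - 1)
            * (embP F e)ᵀ := by simp only [Matrix.mul_assoc]
      _ = embP F e * ((M - 1) * (M' - 1)) * (embP F e)ᵀ := by
          rw [h, Matrix.mul_one]; simp only [Matrix.mul_assoc]
  rw [Matrix.add_mul, Matrix.mul_add, Matrix.mul_add, Matrix.one_mul, Matrix.one_mul,
    Matrix.mul_one, key]
  have e2 : M * M' - 1 = (M - 1) + (M' - 1) + (M - 1) * (M' - 1) := by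
    rw [Matrix.sub_mul, Matrix.mul_sub, Matrix.mul_sub, Matrix.one_mul, Matrix.mul_one,
      Matrix.mul_one]
    abel
  rw [e2, Matrix.mul_add, Matrix.mul_add, Matrix.add_mul, Matrix.add_mul]
  abel

theorem emb_apply_apply (e : Fin r → Fin n) (he : Function.Injective e)
    (M : Matrix (Fin r) (Fin r) F) (i j : Fin r) : emb e M (e i) (e j) = M i j := by
  unfold emb
  rw [Matrix.add_apply, mul_embP_tr_apply e he, embP_mul_apply e he, Matrix.sub_apply,
    Matrix.one_apply, Matrix.one_apply]
  by_cases hij : i = j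
  · rw [if_pos hij, if_pos (by rw [hij])]; ring
  · rw [if_neg hij, if_neg (fun h => hij (he h))]; ring

theorem emb_apply_of_not_mem_left (e : Fin r → Fin n) (he : Function.Injective e)
    (M : Matrix (Fin r) (Fin r) F) {a : Fin n} (ha : ∀ i, a ≠ e i) (b : Fin n) :
    emb e M a b = (1 : Matrix (Fin n) (Fin n) F) a b := by
  unfold emb
  rw [Matrix.add_apply]
  by_cases hb : ∃ j, b = e j
  · obtain ⟨j, rfl⟩ := hb
    rw [mul_embP_tr_apply e he, embP_mul_apply_of_not_mem e _ ha, add_zero]
  · push Not at hb
    rw [mul_embP_tr_apply_of_not_mem e _ _ hb, add_zero]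

theorem emb_apply_of_not_mem_right (e : Fin r → Fin n) (_he : Function.Injective e)
    (M : Matrix (Fin r) (Fin r) F) (a : Fin n) {b : Fin n} (hb : ∀ j, b ≠ e j) :
    emb e M a b = (1 : Matrix (Fin n) (Fin n) F) a b := by
  unfold emb
  rw [Matrix.add_apply, mul_embP_tr_apply_of_not_mem e _ _ hb, add_zero]

/-- two matrices agreeing with an embedded matrix -/
theorem eq_emb_iff (e : Fin r → Fin n) (he : Function.Injective e)
    (M : Matrix (Fin r) (Fin r) F) (N : Matrix (Fin n) (Fin n) F) :
    N = emb e M ↔ (∀ i j, N (e i) (e j) = M i j) ∧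
      (∀ a b, (∀ i, a ≠ e i) → N a b = (1 : Matrix (Fin n) (Fin n) F) a b) ∧
      (∀ a b, (∀ j, b ≠ e j) → N a b = (1 : Matrix (Fin n) (Fin n) F) a b) := by
  constructor
  · rintro rfl
    exact ⟨emb_apply_apply e he M, fun a b ha => emb_apply_of_not_mem_left e he M ha b,
      fun a b hb => emb_apply_of_not_mem_right e he M a hb⟩
  · rintro ⟨h1, h2, h3⟩
    ext a b
    by_cases ha : ∃ i, a = e i
    · obtain ⟨i, rfl⟩ := ha
      by_cases hb : ∃ j, b = e j
      · obtain ⟨j, rfl⟩ := hb
        rw [h1, emb_apply_apply e he]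
      · push Not at hb
        rw [h3 _ _ hb, emb_apply_of_not_mem_right e he M _ hb]
    · push Not at ha
      rw [h2 _ _ ha, emb_apply_of_not_mem_left e he M ha]

theorem emb_transvection (e : Fin r → Fin n) (he : Function.Injective e) (i j : Fin r) (c : F) :
    emb e (transvection i j c) = transvection (e i) (e j) c := by
  symm
  rw [eq_emb_iff e he]
  refine ⟨?_, ?_, ?_⟩
  · intro a b
    rw [transvection_apply, transvection_apply]
    simp only [he.eq_iff]
  · intro a b ha
    have h0 : ¬ (e i = a ∧ e j = b) := by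
      rintro ⟨h, -⟩
      exact ha i h.symm
    rw [transvection_apply, Matrix.one_apply, if_neg h0, add_zero]
  · intro a b hb
    have h0 : ¬ (e i = a ∧ e j = b) := by
      rintro ⟨-, h⟩
      exact hb j h.symm
    rw [transvection_apply, Matrix.one_apply, if_neg h0, add_zero]

/-- the embedding as a monoid homomorphism -/
def embHom (e : Fin r → Fin n) (he : Function.Injective e) :
    Matrix (Fin r) (Fin r) F →* Matrix (Fin n) (Fin n) F where
  toFun := emb e
  map_one' := emb_one e
  map_mul' := emb_mul e he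

/-- the embedding of the general linear groups -/
def embGL (e : Fin r → Fin n) (he : Function.Injective e) : GL (Fin r) F →* GL (Fin n) F :=
  Units.map (embHom e he)

theorem embGL_coe (e : Fin r → Fin n) (he : Function.Injective e) (g : GL (Fin r) F) :
    ((embGL e he g : GL (Fin n) F) : Matrix (Fin n) (Fin n) F)
      = emb e (g : Matrix (Fin r) (Fin r) F) := rfl

theorem embGL_injective (e : Fin r → Fin n) (he : Function.Injective e) :
    Function.Injective (embGL (F := F) e he) := by
  intro g g' h
  apply Units.ext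
  ext i j
  have := congrArg (fun x : GL (Fin n) F => (x : Matrix (Fin n) (Fin n) F) (e i) (e j)) h
  simp only [embGL_coe, emb_apply_apply e he] at this
  exact this

theorem embGL_tv (e : Fin r → Fin n) (he : Function.Injective e) (i j : Fin r) (hij : i ≠ j)
    (c : F) : embGL e he (tv i j hij c) = tv (e i) (e j) (fun h => hij (he h)) c := by
  apply Units.ext
  rw [embGL_coe, tv_coe, tv_coe, emb_transvection e he]

end Cfsg.Agent.Lib.Helper8.AutSp
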