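import Cfsg.Agent.Lib.Helper8.AutSp.Root
import Cfsg.Agent.Lib.Helper8.SpBN.Iso
import Mathlib

/-!
# The symplectic group is generated by its root elements (helper8)
-/

set_option autoImplicit false

namespace Cfsg.Agent.Lib.Helper8.AutSp

open Matrix Cfsg Cfsg.Agent.Lib.Helper5.GLBN Cfsg.Agent.Lib.Helper8.SpBN
open scoped MatrixGroups

variable {m : ℕ} {F : Type*} [Field F]

theorem rt_eq_Xr {a b : Fin (2 * m)} (hab : a ≠ b) (h : b ≠ a.rev) (c : F) :
    rt a b hab c = Xr a b hab c := by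
  unfold rt; rw [if_neg h]

theorem rt_eq_tv {a b : Fin (2 * m)} (hab : a ≠ b) (h : b = a.rev) (c : F) :
    rt a b hab c = tv a b hab c := by
  unfold rt; rw [if_pos h]

section gen

variable (R : Subgroup (GL (Fin (2 * m)) F))
  (hR : ∀ (a b : Fin (2 * m)) (hab : a ≠ b) (c : F), rt a b hab c ∈ R)

include hR

theorem Xr_mem_R (a b : Fin (2 * m)) (hab : a ≠ b) (h : a ≠ b.rev) (c : F) :
    Xr a b hab c ∈ R := by
  rw [← rt_eq_Xr hab (fun e => h (by rw [e, Fin.rev_rev]))]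
  exact hR a b hab c

theorem tvrev_mem_R (a : Fin (2 * m)) (c : F) : tv a a.rev (rev_ne_self a).symm c ∈ R := by
  rw [← rt_eq_tv (rev_ne_self a).symm rfl]
  exact hR _ _ _ c

/-- clearing the coordinates other than `i` and `rev i` -/
theorem reduce_aux' (i : Fin (2 * m)) : ∀ (s : Finset (Fin (2 * m))) (v : Fin (2 * m) → F),
    v i ≠ 0 → (∀ j, j ∉ s → j ≠ i → j ≠ i.rev → v j = 0) →
    ∃ q ∈ R, ((q : Matrix (Fin (2 * m)) (Fin (2 * m)) F) *ᵥ v) i = v i ∧
      ∀ j, j ≠ i → j ≠ i.rev → ((q : Matrix (Fin (2 * m)) (Fin (2 * m)) F) *ᵥ v) j = 0 := by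
  intro s
  induction s using Finset.induction_on with
  | empty =>
    intro v _ h
    refine ⟨1, one_mem _, by simp, fun j hj hj' => ?_⟩
    simpa using h j (Finset.notMem_empty j) hj hj'
  | insert j₀ s hj₀ ih =>
    intro v hvi h
    by_cases hc : j₀ = i ∨ j₀ = i.rev ∨ v j₀ = 0
    · apply ih v hvi
      intro j hj hji hjr
      by_cases hjj : j = j₀
      · subst hjj
        rcases hc with hc | hc | hc
        · exact absurd hc hji
        · exact absurd hc hjr
        · exact hc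
      · exact h j (by simp [hjj, hj]) hji hjr
    · push Not at hc
      obtain ⟨h1, h2, h3⟩ := hc
      obtain ⟨q₁, hq₁d⟩ : ∃ q₁ : GL (Fin (2 * m)) F, q₁ = Xr j₀ i h1 (-(v j₀ / v i)) := ⟨_, rfl⟩
      have hq₁ : q₁ ∈ R := by rw [hq₁d]; exact Xr_mem_R R hR j₀ i h1 h2 _
      obtain ⟨v', hv'd⟩ : ∃ v' : Fin (2 * m) → F,
          v' = (q₁ : Matrix (Fin (2 * m)) (Fin (2 * m)) F) *ᵥ v := ⟨_, rfl⟩
      have hv' : ∀ k, v' k = v k +
          (if k = i.rev then -(eps m F j₀ * eps m F i * -(v j₀ / v i)) * v j₀.rev else 0)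
          + if k = j₀ then -(v j₀ / v i) * v i else 0 := by
        intro k; rw [hv'd, hq₁d]; exact Xr_mulVec j₀ i h1 _ v k
      have hv'i : v' i = v i := by
        rw [hv', if_neg (rev_ne_self i).symm, if_neg (Ne.symm h1), add_zero, add_zero]
      have hv'j₀ : v' j₀ = 0 := by
        rw [hv', if_neg h2, if_pos rfl]
        field_simp
        ring
      obtain ⟨q₂, hq₂, hq2i, hq2j⟩ := ih v' (by rw [hv'i]; exact hvi) (by
        intro j hj hji hjr
        by_cases hjj : j = j₀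
        · rw [hjj]; exact hv'j₀
        · rw [hv', if_neg hjr, if_neg hjj, add_zero, add_zero]
          exact h j (by simp [hjj, hj]) hji hjr)
      refine ⟨q₂ * q₁, mul_mem hq₂ hq₁, ?_, ?_⟩
      · rw [Units.val_mul, ← Matrix.mulVec_mulVec, ← hv'd, hq2i, hv'i]
      · intro j hji hjr
        rw [Units.val_mul, ← Matrix.mulVec_mulVec, ← hv'd]
        exact hq2j j hji hjr

/-- moving a vector to a multiple of a basis vector -/
theorem reduce' (v : Fin (2 * m) → F) (i : Fin (2 * m)) (hvi : v i ≠ 0) :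
    ∃ q ∈ R, (q : Matrix (Fin (2 * m)) (Fin (2 * m)) F) *ᵥ v = v i • Pi.single i 1 := by
  obtain ⟨q, hq, hqi, hqj⟩ := reduce_aux' R hR i Finset.univ v hvi
    (fun j hj => absurd (Finset.mem_univ j) hj)
  obtain ⟨w, hw⟩ : ∃ w : Fin (2 * m) → F,
      w = (q : Matrix (Fin (2 * m)) (Fin (2 * m)) F) *ᵥ v := ⟨_, rfl⟩
  rw [← hw] at hqi hqj
  have hne : i.rev ≠ i.rev.rev := (rev_ne_self i.rev).symm
  refine ⟨tv i.rev i.rev.rev hne (-(w i.rev / v i)) * q,
    mul_mem (tvrev_mem_R R hR i.rev _) hq, ?_⟩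
  funext k
  rw [Units.val_mul, ← Matrix.mulVec_mulVec, ← hw, tv_mulVec, Fin.rev_rev, hqi, Pi.smul_apply,
    Pi.single_apply, smul_eq_mul]
  by_cases hk : k = i
  · subst hk
    rw [if_neg (rev_ne_self k).symm, if_pos rfl, add_zero, hqi, mul_one]
  · by_cases hk' : k = i.rev
    · subst hk'
      rw [if_pos rfl, if_neg hk, mul_zero]
      field_simp
      ring
    · rw [if_neg hk', if_neg hk, hqj k hk hk', add_zero, mul_zero]

theorem exists_first_ne_zero' (hm : 0 < m) (v : Fin (2 * m) → F) (hv : v ≠ 0) :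
    ∃ q ∈ R, ((q : Matrix (Fin (2 * m)) (Fin (2 * m)) F) *ᵥ v) ⟨0, by omega⟩ ≠ 0 := by
  obtain ⟨i0, hi0⟩ : ∃ i0 : Fin (2 * m), i0 = ⟨0, by omega⟩ := ⟨_, rfl⟩
  rw [← hi0]
  by_cases h0 : v i0 ≠ 0
  · exact ⟨1, one_mem _, by simpa using h0⟩
  · rw [not_not] at h0
    obtain ⟨i, hi⟩ := Function.ne_iff.1 hv
    rw [Pi.zero_apply] at hi
    have hii0 : i0 ≠ i := by intro e; rw [← e] at hi; exact hi h0
    by_cases hir : i = i0.rev
    · refine ⟨tv i0 i0.rev (rev_ne_self i0).symm 1, tvrev_mem_R R hR i0 1, ?_⟩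
      rw [tv_mulVec, if_pos rfl, h0, zero_add, one_mul, ← hir]
      exact hi
    · have hir' : i0 ≠ i.rev := by
        intro e; apply hir; rw [e, Fin.rev_rev]
      refine ⟨Xr i0 i hii0 1, Xr_mem_R R hR i0 i hii0 hir' 1, ?_⟩
      rw [Xr_mulVec, if_neg hir', if_pos rfl, h0, zero_add, zero_add, one_mul]
      exact hi

theorem reduce_to_first' (hm : 0 < m) (v : Fin (2 * m) → F) (hv : v ≠ 0) :
    ∃ q ∈ R, ∃ a : F, a ≠ 0 ∧
      (q : Matrix (Fin (2 * m)) (Fin (2 * m)) F) *ᵥ v = a • Pi.single ⟨0, by omega⟩ 1 := by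
  obtain ⟨q₁, hq₁, h1⟩ := exists_first_ne_zero' R hR hm v hv
  obtain ⟨q₂, hq₂, h2⟩ := reduce' R hR ((q₁ : Matrix (Fin (2 * m)) (Fin (2 * m)) F) *ᵥ v) _ h1
  refine ⟨q₂ * q₁, mul_mem hq₂ hq₁, _, h1, ?_⟩
  rw [Units.val_mul, ← Matrix.mulVec_mulVec, h2]

omit hR in
theorem omega_single (x : Fin (2 * m) → F) (i0 : Fin (2 * m)) (a : F) :
    omega m F x (a • Pi.single i0 1) = a * eps m F i0.rev * x i0.rev := by
  unfold omega
  rw [Matrix.mulVec_smul, Matrix.mulVec_single_one, dotProduct_smul, smul_eq_mul, dotProduct]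
  have : ∀ k : Fin (2 * m), x k * (Jm m F).col i0 k
      = if k = i0.rev then x i0.rev * eps m F i0.rev else 0 := by
    intro k
    rw [Matrix.col_apply]
    unfold Jm
    split_ifs with h
    · rw [h]
    · rw [mul_zero]
  rw [Finset.sum_congr rfl (fun k _ => this k), Finset.sum_ite_eq' Finset.univ i0.rev]
  simp only [Finset.mem_univ, if_true]
  ring

/-- an element of the symplectic group acting as a symplectic transvection lies in `R` -/
theorem mem_R_of_isTv (hRS : R ≤ SpH m F) (hm : 0 < m) {g : GL (Fin (2 * m)) F}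
    (hg : g ∈ SpH m F) (v : Fin (2 * m) → F) (c : F)
    (h : ∀ x, (g : Matrix (Fin (2 * m)) (Fin (2 * m)) F) *ᵥ x = x + (c * omega m F x v) • v) :
    g ∈ R := by
  by_cases hv : v = 0
  · have : g = 1 := by
      apply Units.ext
      rw [Matrix.ext_iff_mulVec]
      intro x
      rw [h x, hv, smul_zero, add_zero, Units.val_one, Matrix.one_mulVec]
    rw [this]; exact one_mem _
  obtain ⟨q, hq, a, ha, hqv⟩ := reduce_to_first' R hR hm v hv
  have hqH : q ∈ SpH m F := hRS hq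
  obtain ⟨i0, hi0⟩ : ∃ i0 : Fin (2 * m), i0 = ⟨0, by omega⟩ := ⟨_, rfl⟩
  rw [← hi0] at hqv
  obtain ⟨g', hg'⟩ : ∃ g' : GL (Fin (2 * m)) F, g' = q * g * q⁻¹ := ⟨_, rfl⟩
  have hact : ∀ x, (g' : Matrix (Fin (2 * m)) (Fin (2 * m)) F) *ᵥ x
      = x + (c * omega m F x (a • Pi.single i0 1)) • (a • Pi.single i0 1) := by
    intro x
    obtain ⟨y, hy⟩ : ∃ y : Fin (2 * m) → F,
        y = ((q⁻¹ : GL (Fin (2 * m)) F) : Matrix (Fin (2 * m)) (Fin (2 * m)) F) *ᵥ x := ⟨_, rfl⟩
    have hqy : (q : Matrix (Fin (2 * m)) (Fin (2 * m)) F) *ᵥ y = x := by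
      rw [hy, Matrix.mulVec_mulVec, ← Units.val_mul, mul_inv_cancel, Units.val_one,
        Matrix.one_mulVec]
    have hω : omega m F y v = omega m F x (a • Pi.single i0 1) := by
      rw [← omega_mulVec hqH y v, hqy, hqv]
    rw [hg', Units.val_mul, Units.val_mul, ← Matrix.mulVec_mulVec, ← Matrix.mulVec_mulVec, ← hy,
      h y, Matrix.mulVec_add, Matrix.mulVec_smul, hqy, hqv, hω]
  have hg'R : g' = tv i0 i0.rev (rev_ne_self i0).symm (c * a * eps m F i0.rev * a) := by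
    apply gl_ext_mulVec
    intro x k
    rw [hact x, tv_mulVec, omega_single, Pi.add_apply, Pi.smul_apply, Pi.smul_apply,
      Pi.single_apply, smul_eq_mul, smul_eq_mul]
    split_ifs with hk
    · ring
    · ring
  have : g = q⁻¹ * g' * q := by rw [hg']; group
  rw [this, hg'R]
  exact mul_mem (mul_mem (inv_mem hq) (tvrev_mem_R R hR i0 _)) hq

/-- a subgroup of the symplectic group containing all root elements is everything -/
theorem SpH_le_of_roots (hRS : R ≤ SpH m F) (hm : 0 < m) : SpH m F ≤ R := by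
  intro g hg
  obtain ⟨A, rfl⟩ := toGLH_surjective hg
  have hA : A ∈ Subgroup.closure {A : Matrix.symplecticGroup (Fin m) F |
      ∃ (w : Fin m ⊕ Fin m → F) (c : F),
        (A : Matrix (Fin m ⊕ Fin m) (Fin m ⊕ Fin m) F) = Cfsg.sympTransvection m w c} := by
    rw [Cfsg.Agent.S0765.result]; trivial
  induction hA using Subgroup.closure_induction with
  | mem A hA =>
    obtain ⟨w, c, hwc⟩ := hA
    exact mem_R_of_isTv R hR hRS hm (toGLH_mem A) _ (-c) (toGLH_transvection_mulVec A w c hwc)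
  | one => rw [map_one]; exact one_mem _
  | mul A B _ _ hA hB => rw [map_mul]; exact mul_mem (hA (toGLH_mem A)) (hB (toGLH_mem B))
  | inv A _ hA => rw [map_inv]; exact inv_mem (hA (toGLH_mem A))

end gen

end Cfsg.Agent.Lib.Helper8.AutSp
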