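import Cfsg.Agent.Lib.Helper8.AutSp.Para
import Mathlib

/-!
# The normal form of the automorphisms of `PSp_{2m}(F)` (helper8)
-/

set_option autoImplicit false
set_option linter.unusedSimpArgs false

namespace Cfsg.Agent.Lib.Helper8.AutSp

open Matrix Cfsg Cfsg.Agent.Lib.Helper5.GLBN Cfsg.Agent.Lib.Helper5.BN
open Cfsg.Agent.Lib.Helper5.AutBN Cfsg.Agent.Lib.Helper8.SpBN
open scoped MatrixGroups

variable {m : ℕ} {F : Type*} [Field F]

/-! ### the block embeddings of `Sp₄` -/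

/-- the block of a short fundamental root -/
def eS (i : Fin m) (hi : (i : ℕ) + 2 ≤ m) : Fin (2 * 2) → Fin (2 * m) := eBlk m 2 i hi

theorem eS_j0 (i : Fin m) (hi : (i : ℕ) + 2 ≤ m) : eS i hi j0 = kk i := by
  apply Fin.ext
  simp [eS, eBlk_val, j0, kk_val]

theorem eS_j1 (i : Fin m) (hi : (i : ℕ) + 2 ≤ m) : eS i hi j1 = kk' i := by
  apply Fin.ext
  simp [eS, eBlk_val, j1, kk'_val]

theorem eS_j2 (i : Fin m) (hi : (i : ℕ) + 2 ≤ m) : eS i hi j2 = (kk' i).rev := by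
  apply Fin.ext
  rw [kk'_rev_val]
  simp [eS, eBlk_val, j2]
  omega

theorem eS_j3 (i : Fin m) (hi : (i : ℕ) + 2 ≤ m) : eS i hi j3 = (kk i).rev := by
  apply Fin.ext
  rw [kk_rev_val]
  simp [eS, eBlk_val, j3]
  omega

/-- the block of the long fundamental root -/
def eL (i : Fin m) (hi : (i : ℕ) + 1 = m) (hm2 : 2 ≤ m) : Fin (2 * 2) → Fin (2 * m) :=
  eBlk m 2 (i - 1) (by omega)

theorem eL_j1 (i : Fin m) (hi : (i : ℕ) + 1 = m) (hm2 : 2 ≤ m) : eL i hi hm2 j1 = kk i := by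
  apply Fin.ext
  simp [eL, eBlk_val, j1, kk_val]
  omega

theorem eL_j2 (i : Fin m) (hi : (i : ℕ) + 1 = m) (hm2 : 2 ≤ m) : eL i hi hm2 j2 = kk' i := by
  apply Fin.ext
  simp [eL, eBlk_val, j2, kk'_val]
  omega

theorem spEmb_eS (i : Fin m) (hi : (i : ℕ) + 2 ≤ m) : SpEmb (eS i hi) := spEmb_eBlk m 2 i hi

theorem spEmb_eL (i : Fin m) (hi : (i : ℕ) + 1 = m) (hm2 : 2 ≤ m) : SpEmb (eL i hi hm2) :=
  spEmb_eBlk m 2 (i - 1) (by omega)

/-- pulling back a projective equality along an embedding -/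
theorem emb_pullback {r : ℕ} {e : Fin (2 * r) → Fin (2 * m)} (h : SpEmb e)
    (X Y : GL (Fin (2 * r)) F) (ζ : F)
    (hXY : ((embGL e h.inj X : GL (Fin (2 * m)) F) : Matrix (Fin (2 * m)) (Fin (2 * m)) F)
      = ζ • ((embGL e h.inj Y : GL (Fin (2 * m)) F) : Matrix (Fin (2 * m)) (Fin (2 * m)) F))
    (a b : Fin (2 * r)) :
    (X : Matrix (Fin (2 * r)) (Fin (2 * r)) F) a b
      = ζ * (Y : Matrix (Fin (2 * r)) (Fin (2 * r)) F) a b := by
  have := congrFun (congrFun hXY (e a)) (e b)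
  rw [Matrix.smul_apply, embGL_coe, embGL_coe, emb_apply_apply e h.inj, emb_apply_apply e h.inj,
    smul_eq_mul] at this
  exact this

/-- a central element is a scalar `± 1` -/
theorem center_scalar (hm : 1 ≤ m) {z : ↥(SpH m F)} (hz : z ∈ Subgroup.center ↥(SpH m F)) :
    ∃ ζ : F, (ζ = 1 ∨ ζ = -1) ∧ ∀ g : ↥(SpH m F),
      (((z * g : ↥(SpH m F)) : GL (Fin (2 * m)) F) : Matrix (Fin (2 * m)) (Fin (2 * m)) F)
        = ζ • ((g : GL (Fin (2 * m)) F) : Matrix (Fin (2 * m)) (Fin (2 * m)) F) := by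
  rcases center_cases_SpH hm hz with h | h
  · refine ⟨1, Or.inl rfl, fun g => ?_⟩
    rw [Subgroup.coe_mul, Units.val_mul, h, Matrix.one_mul, one_smul]
  · refine ⟨-1, Or.inr rfl, fun g => ?_⟩
    rw [Subgroup.coe_mul, Units.val_mul, h, Matrix.neg_mul, Matrix.one_mul, neg_smul, one_smul]

/-- opposite fundamental root elements do not commute modulo the centre -/
theorem xp_xm_ncomm (hm2 : 2 ≤ m) (i : Fin m) {z : ↥(SpH m F)}
    (hz : z ∈ Subgroup.center ↥(SpH m F)) :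
    xp i (1 : F) * xm i 1 ≠ z * (xm i 1 * xp i 1) := by
  intro hcon
  obtain ⟨ζ, -, hζ⟩ := center_scalar (by omega) hz
  have h1 := hζ (xm i 1 * xp i 1)
  rw [← hcon] at h1
  have hi := i.2
  by_cases hs : (i : ℕ) + 2 ≤ m
  · have hE := spEmb_eS i hs
    have e1 : ((xp i (1 : F) * xm i 1 : ↥(SpH m F)) : GL (Fin (2 * m)) F)
        = embGL (eS i hs) hE.inj (rt j0 j1 j01 1 * rt j1 j0 j10 1) := by
      rw [map_mul, embGL_rt hE, embGL_rt hE, Subgroup.coe_mul, xp_coe, xm_coe,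
        rt_congr (eS_j0 i hs) (eS_j1 i hs) _ (kk_ne i) rfl,
        rt_congr (eS_j1 i hs) (eS_j0 i hs) _ (kk_ne i).symm rfl]
    have e2 : ((xm i (1 : F) * xp i 1 : ↥(SpH m F)) : GL (Fin (2 * m)) F)
        = embGL (eS i hs) hE.inj (rt j1 j0 j10 1 * rt j0 j1 j01 1) := by
      rw [map_mul, embGL_rt hE, embGL_rt hE, Subgroup.coe_mul, xp_coe, xm_coe,
        rt_congr (eS_j0 i hs) (eS_j1 i hs) _ (kk_ne i) rfl,
        rt_congr (eS_j1 i hs) (eS_j0 i hs) _ (kk_ne i).symm rfl]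
    rw [e1, e2] at h1
    exact sp4_ncomm_a ζ (emb_pullback hE _ _ ζ h1)
  · have hl : (i : ℕ) + 1 = m := by omega
    have hE := spEmb_eL i hl hm2
    have e1 : ((xp i (1 : F) * xm i 1 : ↥(SpH m F)) : GL (Fin (2 * m)) F)
        = embGL (eL i hl hm2) hE.inj (rt j1 j2 j12 1 * rt j2 j1 j21 1) := by
      rw [map_mul, embGL_rt hE, embGL_rt hE, Subgroup.coe_mul, xp_coe, xm_coe,
        rt_congr (eL_j1 i hl hm2) (eL_j2 i hl hm2) _ (kk_ne i) rfl,
        rt_congr (eL_j2 i hl hm2) (eL_j1 i hl hm2) _ (kk_ne i).symm rfl]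
    have e2 : ((xm i (1 : F) * xp i 1 : ↥(SpH m F)) : GL (Fin (2 * m)) F)
        = embGL (eL i hl hm2) hE.inj (rt j2 j1 j21 1 * rt j1 j2 j12 1) := by
      rw [map_mul, embGL_rt hE, embGL_rt hE, Subgroup.coe_mul, xp_coe, xm_coe,
        rt_congr (eL_j1 i hl hm2) (eL_j2 i hl hm2) _ (kk_ne i) rfl,
        rt_congr (eL_j2 i hl hm2) (eL_j1 i hl hm2) _ (kk_ne i).symm rfl]
    rw [e1, e2] at h1
    exact sp4_ncomm_b ζ (emb_pullback hE _ _ ζ h1)

/-! ### the simple reflections are distinct -/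

theorem sG_injective [Finite F] (hm : 0 < m) :
    Function.Injective (fun i : Fin m => sG m F (i : ℕ)) := by
  intro i j hij
  by_contra hne
  have hij' : sG m F (i : ℕ) = sG m F (j : ℕ) := hij
  have h1 : Xm (F := F) i = Xm j := by
    rw [parabolic_inf_VG hm i, parabolic_inf_VG hm j, hij']
  have h2 : xm i (1 : F) ∈ Xm j := by
    rw [← h1]; exact ⟨1, rfl⟩
  obtain ⟨u, hu⟩ := h2
  have h3 := congrArg (fun g : ↥(SpH m F) => ((g : GL (Fin (2 * m)) F)
    : Matrix (Fin (2 * m)) (Fin (2 * m)) F) (kk' i) (kk i)) hu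
  simp only [xm_coe, rt_apply_self] at h3
  have hi := i.2
  have hj := j.2
  have hv : (i : ℕ) ≠ j := fun h => hne (Fin.ext h)
  rw [rt_apply_ne] at h3
  · exact one_ne_zero h3
  · exact (kk_ne i).symm
  · rintro ⟨e, -⟩
    have := congrArg Fin.val e
    rw [kk'_val, kk'_val] at this
    omega
  · rintro ⟨-, e⟩
    have := congrArg Fin.val e
    rw [kk'_rev_val, kk_val] at this
    omega

/-! ### the opposite Sylow subgroups -/

theorem BG_le_normalizer_UG [Finite F] :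
    BG m F ≤ Subgroup.normalizer ((UG m F : Subgroup ↥(SpH m F)) : Set ↥(SpH m F)) := by
  intro b hb
  rw [Subgroup.mem_normalizer_iff]
  intro u
  constructor
  · exact UG_normal b hb u
  · intro h
    have := UG_normal b⁻¹ (inv_mem hb) _ h
    have e : b⁻¹ * (b * u * b⁻¹) * b⁻¹⁻¹ = u := by group
    rwa [e] at this

/-- a monomial symplectic matrix `n` with `n U n⁻¹ ∩ B = 1` has the permutation of the longest
element -/
theorem perm_eq_rev_of_inf_eq_bot [Finite F] (hm : 0 < m) {n : ↥(SpH m F)}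
    {π : Equiv.Perm (Fin (2 * m))}
    (hπ : IsMono ((n : GL (Fin (2 * m)) F) : Matrix (Fin (2 * m)) (Fin (2 * m)) F) π)
    (h : cj n (UG m F) ⊓ (spBN m F hm).B = ⊥) : π = Fin.revPerm := by
  by_contra hne
  have hτ : (Fin.revPerm : Equiv.Perm (Fin (2 * m))) * π ≠ 1 := by
    intro e
    apply hne
    have : π = (Fin.revPerm : Equiv.Perm (Fin (2 * m)))⁻¹ := eq_inv_of_mul_eq_one_right e
    rw [this, revPerm_inv]
  obtain ⟨k, k', hk, hdesc⟩ := exists_adj_descent _ hτ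
  rw [Equiv.Perm.mul_apply, Equiv.Perm.mul_apply, Fin.revPerm_apply, Fin.revPerm_apply,
    Fin.rev_lt_rev] at hdesc
  have hkk' : k < k' := by rw [Fin.lt_def]; omega
  obtain ⟨r, hr⟩ : ∃ r : ↥(SpH m F), r = ⟨rt k k' (ne_of_lt hkk') (1 : F), rt_mem_SpH _ _ _ _⟩ :=
    ⟨_, rfl⟩
  have hrU : r ∈ UG m F := by
    rw [mem_UG_iff', hr]
    exact rt_mem_UUH hkk' 1
  have hy1 : n * r * n⁻¹ ∈ cj n (UG m F) := by
    rw [mem_cj]
    have e : n⁻¹ * (n * r * n⁻¹) * n = r := by group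
    rw [e]; exact hrU
  have hy2 : n * r * n⁻¹ ∈ (spBN m F hm).B := by
    show n * r * n⁻¹ ∈ BG m F
    rw [mem_BG]
    have e : ((n * r * n⁻¹ : ↥(SpH m F)) : GL (Fin (2 * m)) F)
        = ((n : GL (Fin (2 * m)) F)⁻¹)⁻¹ * (r : GL (Fin (2 * m)) F) * (n : GL (Fin (2 * m)) F)⁻¹ := by
      rw [Subgroup.coe_mul, Subgroup.coe_mul, Subgroup.coe_inv, inv_inv]
    rw [e, mono_conj_mem_upper_iff hπ.inv]
    intro i j hji
    rw [hr]
    apply rt_apply_ne
    · intro e'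
      exact (ne_of_gt hji) (π⁻¹.injective e')
    · rintro ⟨e1, e2⟩
      have hi : i = π k := by rw [← e1]; simp
      have hj : j = π k' := by rw [← e2]; simp
      rw [hi, hj] at hji
      exact absurd hdesc (not_lt.2 hji.le)
    · rintro ⟨e1, e2⟩
      have hi : i = (π k').rev := by
        rw [← perm_rev_comm n.2 hπ, ← e1]; simp
      have hj : j = (π k).rev := by
        rw [← perm_rev_comm n.2 hπ, ← e2]; simp
      rw [hi, hj, Fin.rev_lt_rev] at hji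
      exact absurd hdesc (not_lt.2 hji.le)
  have hy : n * r * n⁻¹ ∈ cj n (UG m F) ⊓ (spBN m F hm).B := ⟨hy1, hy2⟩
  rw [h, Subgroup.mem_bot] at hy
  have hr1 : r = 1 := by
    have e : r = n⁻¹ * (n * r * n⁻¹) * n := by group
    rw [e, hy]; group
  have := congrArg Subtype.val hr1
  rw [hr] at this
  exact rt_ne_one k k' (ne_of_lt hkk') one_ne_zero this

theorem hopp_sp [Finite F] (hm : 0 < m) (g : ↥(SpH m F))
    (hg : cj g (UG m F) ⊓ (spBN m F hm).B = ⊥) :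
    ∃ b ∈ (spBN m F hm).B, cj g (UG m F) = cj b (VG hm) := by
  obtain ⟨n, hn⟩ := exists_N_mem_D (spBN m F hm) g
  rw [mem_D] at hn
  obtain ⟨b1, hb1, b2, hb2, rfl⟩ := hn
  have hU2 : cj b2 (UG m F) = UG m F := cj_of_mem_normalizer (BG_le_normalizer_UG hb2)
  have e : cj (b1 * (n : ↥(SpH m F)) * b2) (UG m F) = cj b1 (cj (n : ↥(SpH m F)) (UG m F)) := by
    rw [cj_mul, ← cj_mul (b1 * (n : ↥(SpH m F))) b2, hU2]
  rw [e] at hg
  have hB1 : cj b1 (spBN m F hm).B = (spBN m F hm).B :=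
    cj_of_mem_normalizer (Subgroup.le_normalizer hb1)
  have h1 : cj (n : ↥(SpH m F)) (UG m F) ⊓ (spBN m F hm).B = ⊥ := by
    apply eq_bot_of_cj_eq_bot (g := b1)
    rw [cj_inf, hB1]
    exact hg
  obtain ⟨π, hπ⟩ := mem_monoN.1 (mem_NG.1 n.2)
  have hπr := perm_eq_rev_of_inf_eq_bot hm hπ h1
  obtain ⟨t, ht⟩ : ∃ t : ↥(SpH m F), t = (n : ↥(SpH m F)) * (w0 hm)⁻¹ := ⟨_, rfl⟩
  have htK : t ∈ diagK hm := by
    rw [mem_diagK_iff, ht, Subgroup.coe_mul, Subgroup.coe_inv, w0_coe, inv_inv, Units.val_mul]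
    have := hπ.mul (isMono_JG (m := m) (F := F))
    rw [hπr] at this
    have e2 : (Fin.revPerm : Equiv.Perm (Fin (2 * m))) * Fin.revPerm = 1 := by
      ext x
      rw [Equiv.Perm.mul_apply, Fin.revPerm_apply, Fin.revPerm_apply, Fin.rev_rev,
        Equiv.Perm.one_apply]
    rw [e2] at this
    exact this
  have htB : t ∈ (spBN m F hm).B := diagK_le hm htK
  have hn : (n : ↥(SpH m F)) = t * w0 hm := by rw [ht]; group
  refine ⟨b1 * t, mul_mem hb1 htB, ?_⟩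
  rw [e, hn, ← cj_mul t (w0 hm), cj_mul]
  rfl

end Cfsg.Agent.Lib.Helper8.AutSp
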