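import Cfsg.Agent.Lib.Helper8.AutSp.Simple
import Mathlib

/-!
# The minimal parabolic subgroups meet the opposite unipotent group in the root subgroups (helper8)
-/

set_option autoImplicit false
set_option linter.unusedSimpArgs false

namespace Cfsg.Agent.Lib.Helper8.AutSp

open Matrix Cfsg Cfsg.Agent.Lib.Helper5.GLBN Cfsg.Agent.Lib.Helper5.BN
open Cfsg.Agent.Lib.Helper5.AutBN Cfsg.Agent.Lib.Helper8.SpBN
open scoped MatrixGroups

variable {m : ℕ} {F : Type*} [Field F]

/-- the rank one relation for the fundamental root elements -/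
theorem rank_one_rt (i : Fin m) (t : F) (ht : t ≠ 0) :
    sGL m F i * rt (kk i) (kk' i) (kk_ne i) t * rt (kk' i) (kk i) (kk_ne i).symm (-(1 / t))
      ∈ BH m F := by
  have hi := i.2
  by_cases h : (i : ℕ) + 1 < m
  · have h1 : kk' i ≠ (kk i).rev := by
      intro e
      have := congrArg Fin.val e
      rw [kk_rev_val, kk'_val] at this
      omega
    have h2 : kk i ≠ (kk' i).rev := by
      intro e
      have := congrArg Fin.val e
      rw [kk'_rev_val, kk_val] at this
      omega
    have e1 : sGL m F (i : ℕ) = sS (kk i) (kk' i) :=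
      sGL_short (k := kk i) (k' := kk' i) rfl h
    unfold rt
    rw [if_neg h1, if_neg h2, e1]
    exact rank_one_short (k := kk i) (k' := kk' i) rfl h (kk_ne i) t ht
  · have him : (i : ℕ) + 1 = m := by omega
    have h1 : kk' i = (kk i).rev := by
      apply Fin.ext
      rw [kk_rev_val, kk'_val]
      omega
    have h2 : kk i = (kk' i).rev := by
      rw [h1, Fin.rev_rev]
    have e1 : sGL m F (i : ℕ) = sL (kk i) := sGL_long (k := kk i) him
    unfold rt
    rw [if_pos h1, if_pos h2, e1]
    have hne : kk i ≠ (kk i).rev := (rev_ne_self (kk i)).symm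
    have := rank_one_long (k := kk i) him hne t ht
    rw [tv_congr' (a' := kk i) (b' := (kk i).rev) rfl h1 (h' := hne) (c' := t) rfl,
      tv_congr' (a' := (kk i).rev) (b' := kk i) h1 rfl (h' := hne.symm) (c' := -(1 / t)) rfl]
    exact this

variable (hm : 0 < m)

theorem xp_mem_B [Finite F] (i : Fin m) (t : F) : xp i t ∈ (spBN m F hm).B :=
  UG_le_BG (xp_mem_UG i t)

/-- the negative fundamental root elements lie in the minimal parabolic subgroups -/
theorem xm_mem_parabolic [Finite F] (i : Fin m) (c : F) :
    xm i c ∈ (spBN m F hm).parabolic {sG m F i} := by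
  by_cases hc : c = 0
  · rw [hc, xm_zero]; exact one_mem _
  have ht : -(1 / c) ≠ 0 := by
    rw [neg_ne_zero]
    exact one_div_ne_zero hc
  have hb : sG m F i * xp i (-(1 / c)) * xm i c ∈ (spBN m F hm).B := by
    show sG m F i * xp i (-(1 / c)) * xm i c ∈ BG m F
    rw [mem_BG']
    have := rank_one_rt i (-(1 / c)) ht
    have e : -(1 / -(1 / c)) = c := by
      field_simp
    rw [e] at this
    exact this
  have hs : sG m F i ∈ (spBN m F hm).parabolic {sG m F i} :=
    mem_parabolic_self _ (Set.mem_singleton _)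
  have hx : xp i (-(1 / c)) ∈ (spBN m F hm).parabolic {sG m F i} :=
    B_le_parabolic _ _ (xp_mem_B hm i _)
  have e : xm i c = (sG m F i * xp i (-(1 / c)))⁻¹ * (sG m F i * xp i (-(1 / c)) * xm i c) := by
    group
  rw [e]
  exact mul_mem (inv_mem (mul_mem hs hx)) (B_le_parabolic _ _ hb)

/-- the subdiagonal entries are additive on the lower unitriangular matrices -/
theorem lower_mul_sub {n : ℕ} {g g' : Matrix (Fin n) (Fin n) F}
    (hg : ∀ i j, i < j → g i j = 0) (hg1 : ∀ i, g i i = 1)
    (hg' : ∀ i j, i < j → g' i j = 0) (hg1' : ∀ i, g' i i = 1)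
    {k k' : Fin n} (hk : (k : ℕ) + 1 = k') :
    (g * g') k' k = g k' k + g' k' k := by
  have hne : k' ≠ k := by
    intro e
    rw [e] at hk
    omega
  rw [Matrix.mul_apply, Finset.sum_eq_add k' k hne]
  · rw [hg1, hg1', one_mul, mul_one, add_comm]
  · intro l _ hl
    rcases lt_trichotomy (l : ℕ) (k : ℕ) with h | h | h
    · rw [hg' l k (by rw [Fin.lt_def]; exact h), mul_zero]
    · exact absurd (Fin.ext h) hl.2
    · have h2 : (k' : ℕ) < l := by
        rcases lt_or_eq_of_le (show (k' : ℕ) ≤ l by omega) with h3 | h3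
        · exact h3
        · exact absurd (Fin.ext h3.symm) hl.1
      rw [hg k' l (by rw [Fin.lt_def]; exact h2), zero_mul]
  · intro h; exact absurd (Finset.mem_univ _) h
  · intro h; exact absurd (Finset.mem_univ _) h

/-- the shape of an element of a minimal parabolic subgroup lying in the opposite unipotent group -/
theorem shape_of_mem [Finite F] (i : Fin m) {g : ↥(SpH m F)}
    (hgP : g ∈ (spBN m F hm).parabolic {sG m F i}) (hgV : g ∈ VG hm) {a b : Fin (2 * m)}
    (hab : a ≠ b)
    (hne : ((g : GL (Fin (2 * m)) F) : Matrix (Fin (2 * m)) (Fin (2 * m)) F) a b ≠ 0) :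
    (a = kk' i ∧ b = kk i) ∨ (a = (kk i).rev ∧ b = (kk' i).rev) := by
  have hi := i.2
  have hQ : g ∈ QKG m F {(i : ℕ)} := by
    apply parabolic_le_QKG hm
    have : sG m F '' ((({(i : ℕ)} : Finset ℕ)) : Set ℕ) = {sG m F i} := by simp
    rw [this]
    exact hgP
  obtain ⟨hU, -⟩ := mem_QKG.1 hQ
  obtain ⟨hV, -⟩ := (mem_VG_iff hm).1 hgV
  have hba : b < a := by
    rcases lt_or_gt_of_ne hab with h | h
    · exact absurd (hV a b h) hne
    · exact h
  have hL : LabF m {(i : ℕ)} b = LabF m {(i : ℕ)} a := by
    apply le_antisymm (LabF_mono _ hba.le)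
    by_contra hlt
    exact hne (hU a b (not_le.1 hlt))
  have hnode : ∀ k : ℕ, (b : ℕ) ≤ k → k < (a : ℕ) → nodeOf m k = i := by
    intro k h1 h2
    have := node_mem_of_Lab_eq (K := {(i : ℕ)}) h1 h2 hL
    exact Finset.mem_singleton.1 this
  have ha := a.2
  have hba' : (b : ℕ) < a := hba
  have hab1 : (a : ℕ) = b + 1 := by
    by_contra hcon
    have h1 := hnode b le_rfl hba'
    have h2 := hnode (b + 1) (by omega) (by omega)
    unfold nodeOf at h1 h2
    split_ifs at h1 h2 <;> omega
  have h1 := hnode b le_rfl hba'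
  unfold nodeOf at h1
  split_ifs at h1 with hbm
  · left
    constructor
    · apply Fin.ext; rw [kk'_val]; omega
    · apply Fin.ext; rw [kk_val]; omega
  · right
    constructor
    · apply Fin.ext; rw [kk_rev_val]; omega
    · apply Fin.ext; rw [kk'_rev_val]; omega

/-- **The minimal parabolic subgroups meet the opposite unipotent group in the root subgroups.** -/
theorem parabolic_inf_VG [Finite F] (i : Fin m) :
    Xm (F := F) i = (spBN m F hm).parabolic {sG m F i} ⊓ VG hm := by
  apply le_antisymm
  · rintro g ⟨t, rfl⟩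
    exact ⟨xm_mem_parabolic hm i t, xm_mem_VG hm i t⟩
  · rintro g ⟨hgP, hgV⟩
    have hi := i.2
    obtain ⟨t, ht⟩ : ∃ t : F, t = ((g : GL (Fin (2 * m)) F)
      : Matrix (Fin (2 * m)) (Fin (2 * m)) F) (kk' i) (kk i) := ⟨_, rfl⟩
    obtain ⟨h, hh⟩ : ∃ h : ↥(SpH m F), h = g * xm i (-t) := ⟨_, rfl⟩
    have hhP : h ∈ (spBN m F hm).parabolic {sG m F i} := by
      rw [hh]; exact mul_mem hgP (xm_mem_parabolic hm i _)
    have hhV : h ∈ VG hm := by
      rw [hh]; exact mul_mem hgV (xm_mem_VG hm i _)
    obtain ⟨hg1, hg2⟩ := (mem_VG_iff hm).1 hgV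
    obtain ⟨hx1, hx2⟩ := (mem_VG_iff hm).1 (xm_mem_VG hm i (-t))
    obtain ⟨hh1, hh2⟩ := (mem_VG_iff hm).1 hhV
    have h0 : ((h : GL (Fin (2 * m)) F) : Matrix (Fin (2 * m)) (Fin (2 * m)) F) (kk' i) (kk i)
        = 0 := by
      rw [hh, Subgroup.coe_mul, Units.val_mul, lower_mul_sub hg1 hg2 hx1 hx2 (k := kk i) rfl,
        ← ht, xm_coe, rt_apply_self, add_neg_cancel]
    have hone : h = 1 := by
      by_cases hlong : (i : ℕ) + 1 = m
      · -- the long root: the two positions coincide
        have e1 : (kk i).rev = kk' i := by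
          apply Fin.ext; rw [kk_rev_val, kk'_val]; omega
        have e2 : (kk' i).rev = kk i := by rw [← e1, Fin.rev_rev]
        apply Subtype.ext
        apply Units.ext
        ext a b
        rw [Subgroup.coe_one, Units.val_one]
        by_cases hab : a = b
        · rw [hab, hh2, Matrix.one_apply_eq]
        · rw [Matrix.one_apply_ne hab]
          by_contra hne
          rcases shape_of_mem hm i hhP hhV hab hne with ⟨rfl, rfl⟩ | ⟨rfl, rfl⟩
          · exact hne h0
          · rw [e1, e2] at hne
            exact hne h0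
      · -- the short roots
        obtain ⟨s, hs⟩ : ∃ s : F, s = ((h : GL (Fin (2 * m)) F)
          : Matrix (Fin (2 * m)) (Fin (2 * m)) F) (kk i).rev (kk' i).rev := ⟨_, rfl⟩
        have hne' : (kk i).rev ≠ (kk' i).rev := fun e => kk_ne i (Fin.rev_injective e)
        have hp : ¬ ((kk i).rev = kk' i ∧ (kk' i).rev = kk i) := by
          rintro ⟨e, -⟩
          have := congrArg Fin.val e
          rw [kk_rev_val, kk'_val] at this
          omega
        have htv : (h : GL (Fin (2 * m)) F) = tv (kk i).rev (kk' i).rev hne' s := by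
          apply Units.ext
          ext a b
          rw [tv_coe, transvection_apply]
          by_cases hab : a = b
          · rw [hab, hh2, if_pos rfl, if_neg, add_zero]
            rintro ⟨e1, e2⟩
            exact hne' (e1.trans e2.symm)
          · rw [if_neg hab, zero_add]
            by_cases hpos : (kk i).rev = a ∧ (kk' i).rev = b
            · rw [if_pos hpos, hs, hpos.1, hpos.2]
            · rw [if_neg hpos]
              by_contra hne
              rcases shape_of_mem hm i hhP hhV hab hne with ⟨rfl, rfl⟩ | ⟨rfl, rfl⟩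
              · exact hne h0
              · exact hpos ⟨rfl, rfl⟩
        have hs0 : s = 0 := by
          apply tv_mem_SpH_eq_zero hne' (s := s)
          · rw [Fin.rev_rev]
            intro e
            have := congrArg Fin.val e
            rw [kk'_rev_val, kk_val] at this
            omega
          · rw [← htv]; exact h.2
        apply Subtype.ext
        rw [htv, hs0, tv_zero]
        rfl
    refine ⟨t, ?_⟩
    have : g = h * xm i t := by
      rw [hh, mul_assoc, xm_add, neg_add_cancel, xm_zero, mul_one]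
    rw [this, hone, one_mul]

end Cfsg.Agent.Lib.Helper8.AutSp
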