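import Cfsg.Agent.Lib.Helper8.AutSp.Opp
import Mathlib

/-!
# Relations between the root elements of `Sp_{2m}(F)`, transported from `Sp₄` and `Sp₆` (helper8)
-/

set_option autoImplicit false
set_option linter.unusedSimpArgs false

namespace Cfsg.Agent.Lib.Helper8.AutSp

open Matrix Cfsg Cfsg.Agent.Lib.Helper5.GLBN Cfsg.Agent.Lib.Helper5.BN
open Cfsg.Agent.Lib.Helper5.AutBN Cfsg.Agent.Lib.Helper8.SpBN
open scoped MatrixGroups

variable {m : ℕ} {F : Type*} [Field F]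

/-- the root elements of the `Sp₄`-block of a short fundamental root -/
def R4 (i : Fin m) (hi : (i : ℕ) + 2 ≤ m) (a b : Fin (2 * 2)) (hab : a ≠ b) (c : F) :
    ↥(SpH m F) :=
  ⟨rt (eS i hi a) (eS i hi b) (fun h => hab ((spEmb_eS i hi).inj h)) c, rt_mem_SpH _ _ _ _⟩

theorem R4_coe (i : Fin m) (hi : (i : ℕ) + 2 ≤ m) (a b : Fin (2 * 2)) (hab : a ≠ b) (c : F) :
    ((R4 i hi a b hab c : ↥(SpH m F)) : GL (Fin (2 * m)) F)
      = embGL (eS i hi) (spEmb_eS i hi).inj (rt a b hab c) :=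
  (embGL_rt (spEmb_eS i hi) a b hab c).symm

theorem R4_add (i : Fin m) (hi : (i : ℕ) + 2 ≤ m) (a b : Fin (2 * 2)) (hab : a ≠ b) (c d : F) :
    R4 i hi a b hab c * R4 i hi a b hab d = R4 i hi a b hab (c + d) :=
  Subtype.ext (rt_add _ _ _ c d)

theorem R4_zero (i : Fin m) (hi : (i : ℕ) + 2 ≤ m) (a b : Fin (2 * 2)) (hab : a ≠ b) :
    R4 i hi a b hab (0 : F) = 1 := Subtype.ext (rt_zero _ _ _)

theorem R4_inv (i : Fin m) (hi : (i : ℕ) + 2 ≤ m) (a b : Fin (2 * 2)) (hab : a ≠ b) (c : F) :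
    (R4 i hi a b hab c)⁻¹ = R4 i hi a b hab (-c) := by
  rw [inv_eq_iff_mul_eq_one, R4_add, add_neg_cancel, R4_zero]

theorem R4_injective (i : Fin m) (hi : (i : ℕ) + 2 ≤ m) (a b : Fin (2 * 2)) (hab : a ≠ b) :
    Function.Injective (fun c : F => R4 i hi a b hab c) := by
  intro c d h
  exact rt_injective _ _ _ (congrArg Subtype.val h)

theorem xp_eq_R4 (i : Fin m) (hi : (i : ℕ) + 2 ≤ m) (c : F) : xp i c = R4 i hi j0 j1 j01 c :=
  Subtype.ext (rt_congr (eS_j0 i hi).symm (eS_j1 i hi).symm _ _ rfl)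

theorem xm_eq_R4 (i : Fin m) (hi : (i : ℕ) + 2 ≤ m) (c : F) : xm i c = R4 i hi j1 j0 j10 c :=
  Subtype.ext (rt_congr (eS_j1 i hi).symm (eS_j0 i hi).symm _ _ rfl)

/-- the long fundamental root lies in the block of the last short one -/
theorem xp_succ_eq_R4 (i k : Fin m) (hi : (i : ℕ) + 2 = m) (hk : (k : ℕ) = i + 1) (c : F) :
    xp k c = R4 i hi.le j1 j2 j12 c := by
  apply Subtype.ext
  apply rt_congr _ _ _ _ rfl
  · rw [eS_j1]; apply Fin.ext; rw [kk_val, kk'_val, hk]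
  · rw [eS_j2]; apply Fin.ext; rw [kk'_val, kk'_rev_val, hk]; omega

theorem xm_succ_eq_R4 (i k : Fin m) (hi : (i : ℕ) + 2 = m) (hk : (k : ℕ) = i + 1) (c : F) :
    xm k c = R4 i hi.le j2 j1 j21 c := by
  apply Subtype.ext
  apply rt_congr _ _ _ _ rfl
  · rw [eS_j2]; apply Fin.ext; rw [kk'_val, kk'_rev_val, hk]; omega
  · rw [eS_j1]; apply Fin.ext; rw [kk_val, kk'_val, hk]

/-- transporting an identity of `Sp₄` -/
theorem tr4 (i : Fin m) (hi : (i : ℕ) + 2 ≤ m) {L R : GL (Fin (2 * 2)) F} (h : L = R) :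
    embGL (eS i hi) (spEmb_eS i hi).inj L = embGL (eS i hi) (spEmb_eS i hi).inj R := by rw [h]

variable (i : Fin m) (hi : (i : ℕ) + 2 ≤ m)

theorem r4_comm (t u : F) :
    R4 i hi j0 j1 j01 t * R4 i hi j1 j2 j12 u
      = R4 i hi j0 j2 j02 (t * u) * R4 i hi j0 j3 j03 (t ^ 2 * u) * R4 i hi j1 j2 j12 u
        * R4 i hi j0 j1 j01 t := by
  apply Subtype.ext
  simp only [Subgroup.coe_mul, R4_coe, ← map_mul]
  exact tr4 i hi (sp4_comm t u)

theorem r4_comm2 (s c : F) :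
    R4 i hi j0 j1 j01 s * R4 i hi j0 j2 j02 c
      = R4 i hi j0 j3 j03 (2 * s * c) * R4 i hi j0 j2 j02 c * R4 i hi j0 j1 j01 s := by
  apply Subtype.ext
  simp only [Subgroup.coe_mul, R4_coe, ← map_mul]
  exact tr4 i hi (sp4_comm2 s c)

theorem r4_comm_b_ab (u c : F) :
    R4 i hi j1 j2 j12 u * R4 i hi j0 j2 j02 c = R4 i hi j0 j2 j02 c * R4 i hi j1 j2 j12 u := by
  apply Subtype.ext
  simp only [Subgroup.coe_mul, R4_coe, ← map_mul]
  exact tr4 i hi (sp4_comm_b_ab u c)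

theorem r4_comm_b_aab (u c : F) :
    R4 i hi j1 j2 j12 u * R4 i hi j0 j3 j03 c = R4 i hi j0 j3 j03 c * R4 i hi j1 j2 j12 u := by
  apply Subtype.ext
  simp only [Subgroup.coe_mul, R4_coe, ← map_mul]
  exact tr4 i hi (sp4_comm_b_aab u c)

theorem r4_comm_a_aab (s c : F) :
    R4 i hi j0 j1 j01 s * R4 i hi j0 j3 j03 c = R4 i hi j0 j3 j03 c * R4 i hi j0 j1 j01 s := by
  apply Subtype.ext
  simp only [Subgroup.coe_mul, R4_coe, ← map_mul]
  exact tr4 i hi (sp4_comm_a_aab s c)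

theorem r4_comm_ab_aab (s c : F) :
    R4 i hi j0 j2 j02 s * R4 i hi j0 j3 j03 c = R4 i hi j0 j3 j03 c * R4 i hi j0 j2 j02 s := by
  apply Subtype.ext
  simp only [Subgroup.coe_mul, R4_coe, ← map_mul]
  exact tr4 i hi (sp4_comm_ab_aab s c)

/-- the Weyl elements of the block -/
def N4a (t : F) : ↥(SpH m F) :=
  R4 i hi j0 j1 j01 t * R4 i hi j1 j0 j10 (-(1 / t)) * R4 i hi j0 j1 j01 t

/-- the Weyl elements of the block -/
def N4b (t : F) : ↥(SpH m F) :=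
  R4 i hi j1 j2 j12 t * R4 i hi j2 j1 j21 (-(1 / t)) * R4 i hi j1 j2 j12 t

theorem N4a_coe (t : F) : ((N4a i hi t : ↥(SpH m F)) : GL (Fin (2 * m)) F)
    = embGL (eS i hi) (spEmb_eS i hi).inj (nuA t) := by
  unfold N4a nuA
  simp only [Subgroup.coe_mul, R4_coe, ← map_mul]

theorem N4b_coe (t : F) : ((N4b i hi t : ↥(SpH m F)) : GL (Fin (2 * m)) F)
    = embGL (eS i hi) (spEmb_eS i hi).inj (nuB t) := by
  unfold N4b nuB
  simp only [Subgroup.coe_mul, R4_coe, ← map_mul]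

theorem r4_nuA_a (t s : F) (ht : t ≠ 0) :
    N4a i hi t * R4 i hi j0 j1 j01 s = R4 i hi j1 j0 j10 (-(s / t ^ 2)) * N4a i hi t := by
  apply Subtype.ext
  simp only [Subgroup.coe_mul, R4_coe, N4a_coe, ← map_mul]
  exact tr4 i hi (sp4_nuA_a t s ht)

theorem r4_nuB_b (t s : F) (ht : t ≠ 0) :
    N4b i hi t * R4 i hi j1 j2 j12 s = R4 i hi j2 j1 j21 (-(s / t ^ 2)) * N4b i hi t := by
  apply Subtype.ext
  simp only [Subgroup.coe_mul, R4_coe, N4b_coe, ← map_mul]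
  exact tr4 i hi (sp4_nuB_b t s ht)

theorem r4_nuA_b (u : F) :
    N4a i hi 1 * R4 i hi j1 j2 j12 u = R4 i hi j0 j3 j03 u * N4a i hi 1 := by
  apply Subtype.ext
  simp only [Subgroup.coe_mul, R4_coe, N4a_coe, ← map_mul]
  exact tr4 i hi (sp4_nuA_b u)

theorem r4_nuB_a (t : F) :
    N4b i hi 1 * R4 i hi j0 j1 j01 t = R4 i hi j0 j2 j02 (-t) * N4b i hi 1 := by
  apply Subtype.ext
  simp only [Subgroup.coe_mul, R4_coe, N4b_coe, ← map_mul]
  exact tr4 i hi (sp4_nuB_a t)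

/-- the rank one criterion in the block, short root -/
theorem r4_rank1_a (hm : 1 ≤ m) (t v w : F) {z : ↥(SpH m F)}
    (hz : z ∈ Subgroup.center ↥(SpH m F))
    (h : R4 i hi j0 j1 j01 t * R4 i hi j1 j0 j10 v * R4 i hi j0 j1 j01 t * R4 i hi j0 j1 j01 1
      = z * (R4 i hi j1 j0 j10 w
        * (R4 i hi j0 j1 j01 t * R4 i hi j1 j0 j10 v * R4 i hi j0 j1 j01 t))) :
    1 + t * v = 0 := by
  obtain ⟨ζ, hζ, hz'⟩ := center_scalar hm hz
  have h1 := hz' (R4 i hi j1 j0 j10 w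
        * (R4 i hi j0 j1 j01 t * R4 i hi j1 j0 j10 v * R4 i hi j0 j1 j01 t))
  rw [← h] at h1
  simp only [Subgroup.coe_mul, R4_coe, ← map_mul] at h1
  exact sp4_rank1_a t v w ζ hζ (emb_pullback (spEmb_eS i hi) _ _ ζ h1)

/-- the rank one criterion in the block, long root -/
theorem r4_rank1_b (hm : 1 ≤ m) (t v w : F) {z : ↥(SpH m F)}
    (hz : z ∈ Subgroup.center ↥(SpH m F))
    (h : R4 i hi j1 j2 j12 t * R4 i hi j2 j1 j21 v * R4 i hi j1 j2 j12 t * R4 i hi j1 j2 j12 1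
      = z * (R4 i hi j2 j1 j21 w
        * (R4 i hi j1 j2 j12 t * R4 i hi j2 j1 j21 v * R4 i hi j1 j2 j12 t))) :
    1 + t * v = 0 := by
  obtain ⟨ζ, hζ, hz'⟩ := center_scalar hm hz
  have h1 := hz' (R4 i hi j2 j1 j21 w
        * (R4 i hi j1 j2 j12 t * R4 i hi j2 j1 j21 v * R4 i hi j1 j2 j12 t))
  rw [← h] at h1
  simp only [Subgroup.coe_mul, R4_coe, ← map_mul] at h1
  exact sp4_rank1_b t v w ζ hζ (emb_pullback (spEmb_eS i hi) _ _ ζ h1)

end Cfsg.Agent.Lib.Helper8.AutSp
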