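import Cfsg.Agent.Lib.Helper8.AutSp.Emb
import Cfsg.Agent.Lib.Helper8.SpBN.T1Long
import Cfsg.Agent.Lib.Helper8.SpBN.Gen
import Mathlib

/-!
# Root elements of the symplectic group and symplectic block embeddings (helper8)
-/

set_option autoImplicit false
set_option linter.unusedSimpArgs false

namespace Cfsg.Agent.Lib.Helper8.AutSp

open Matrix Cfsg Cfsg.Agent.Lib.Helper5.GLBN Cfsg.Agent.Lib.Helper8.SpBN
open scoped MatrixGroups

variable {m r : ℕ} {F : Type*} [Field F]

theorem gl_ext_mulVec {n : ℕ} {A B : GL (Fin n) F}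
    (h : ∀ (x : Fin n → F) (i : Fin n), ((A : Matrix (Fin n) (Fin n) F) *ᵥ x) i
      = ((B : Matrix (Fin n) (Fin n) F) *ᵥ x) i) : A = B := by
  apply Units.ext
  rw [Matrix.ext_iff_mulVec]
  intro x
  funext i
  exact h x i

theorem apply_eq_mulVec_single {n : ℕ} (M : Matrix (Fin n) (Fin n) F) (a b : Fin n) :
    M a b = (M *ᵥ Pi.single b 1) a := by
  rw [Matrix.mulVec_single_one, Matrix.col_apply]

theorem mulVec_eq_of_apply {n : ℕ} {M N : Matrix (Fin n) (Fin n) F} (ζ : F)
    (h : ∀ a b, M a b = ζ * N a b) (x : Fin n → F) (i : Fin n) :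
    (M *ᵥ x) i = ζ * (N *ᵥ x) i := by
  rw [Matrix.mulVec, Matrix.mulVec, dotProduct, dotProduct, Finset.mul_sum]
  apply Finset.sum_congr rfl
  intro b _
  rw [h i b, mul_assoc]

/-- the root element at the position `(a, b)` -/
def rt (a b : Fin (2 * m)) (hab : a ≠ b) (c : F) : GL (Fin (2 * m)) F :=
  if b = a.rev then tv a b hab c else Xr a b hab c

theorem rt_mem_SpH (a b : Fin (2 * m)) (hab : a ≠ b) (c : F) : rt a b hab c ∈ SpH m F := by
  unfold rt
  split_ifs with h
  · exact tv_rev_mem_SpH' a b h hab c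
  · apply Xr_mem_SpH
    intro e
    apply h
    rw [e, Fin.rev_rev]

theorem rt_mulVec (a b : Fin (2 * m)) (hab : a ≠ b) (c : F) (x : Fin (2 * m) → F)
    (i : Fin (2 * m)) :
    (((rt a b hab c : GL (Fin (2 * m)) F) : Matrix (Fin (2 * m)) (Fin (2 * m)) F) *ᵥ x) i
      = x i + (if i = a then c * x b else 0)
        + (if b = a.rev then 0
            else if i = b.rev then -(eps m F a * eps m F b * c) * x a.rev else 0) := by
  unfold rt
  by_cases h : b = a.rev
  · rw [if_pos h, if_pos h, tv_mulVec, add_zero]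
  · rw [if_neg h, if_neg h, Xr_mulVec]; ring

theorem rt_add (a b : Fin (2 * m)) (hab : a ≠ b) (c d : F) :
    rt a b hab c * rt a b hab d = rt a b hab (c + d) := by
  unfold rt
  split_ifs with h
  · exact tv_mul_tv a b hab c d
  · unfold Xr
    have hne : a ≠ b.rev := by
      intro e; apply h; rw [e, Fin.rev_rev]
    have hc : tv a b hab d * sigma m F (tv a b hab c) = sigma m F (tv a b hab c) * tv a b hab d := by
      rw [sigma_tv]
      apply commute_of_suppOn _ (suppOn_tv a b hab d) (suppOn_tv _ _ _ _)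
      rw [Set.disjoint_left]
      rintro x (rfl | rfl) (h' | h')
      · exact hne h'
      · exact (rev_ne_self x).symm h'
      · exact (rev_ne_self x).symm h'
      · apply hne
        rw [h', Fin.rev_rev]
    calc tv a b hab c * sigma m F (tv a b hab c) * (tv a b hab d * sigma m F (tv a b hab d))
        = tv a b hab c * (sigma m F (tv a b hab c) * tv a b hab d) * sigma m F (tv a b hab d) := by
          group
      _ = tv a b hab c * (tv a b hab d * sigma m F (tv a b hab c)) * sigma m F (tv a b hab d) := by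
          rw [hc]
      _ = (tv a b hab c * tv a b hab d) * (sigma m F (tv a b hab c) * sigma m F (tv a b hab d)) := by
          group
      _ = tv a b hab (c + d) * sigma m F (tv a b hab (c + d)) := by
          rw [← map_mul, tv_mul_tv]

theorem rt_zero (a b : Fin (2 * m)) (hab : a ≠ b) : rt a b hab (0 : F) = 1 := by
  unfold rt Xr
  split_ifs with h
  · exact tv_zero a b hab
  · rw [tv_zero, map_one, mul_one]

theorem rt_inv (a b : Fin (2 * m)) (hab : a ≠ b) (c : F) :
    (rt a b hab c)⁻¹ = rt a b hab (-c) := by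
  rw [inv_eq_iff_mul_eq_one, rt_add, add_neg_cancel, rt_zero]

theorem tv_congr' {n : ℕ} {a a' b b' : Fin n} (ha : a = a') (hb : b = b') {h : a ≠ b}
    {h' : a' ≠ b'} {c c' : F} (hc : c = c') : tv a b h c = tv a' b' h' c' := by
  subst ha hb hc; rfl

theorem rt_congr {a a' b b' : Fin (2 * m)} (ha : a = a') (hb : b = b') (h : a ≠ b)
    (h' : a' ≠ b') {c c' : F} (hc : c = c') : rt a b h c = rt a' b' h' c' := by
  subst ha hb hc; rfl

/-- the entry of a root element at its position -/
theorem rt_apply_self (a b : Fin (2 * m)) (hab : a ≠ b) (c : F) :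
    ((rt a b hab c : GL (Fin (2 * m)) F) : Matrix (Fin (2 * m)) (Fin (2 * m)) F) a b = c := by
  have h := rt_mulVec a b hab c (Pi.single b 1) a
  rw [Matrix.mulVec_single_one, Matrix.col_apply] at h
  rw [h, Pi.single_apply, if_neg hab, if_pos rfl, Pi.single_apply, if_pos rfl, mul_one, zero_add]
  by_cases hb : b = a.rev
  · rw [if_pos hb, add_zero]
  · have hb' : a ≠ b.rev := by
      intro e; apply hb; rw [e, Fin.rev_rev]
    rw [if_neg hb, if_neg hb', add_zero]

theorem rt_injective (a b : Fin (2 * m)) (hab : a ≠ b) :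
    Function.Injective (fun c : F => rt a b hab c) := by
  intro c d h
  have := congrArg (fun g : GL (Fin (2 * m)) F =>
    (g : Matrix (Fin (2 * m)) (Fin (2 * m)) F) a b) h
  simp only [rt_apply_self] at this
  exact this

theorem rt_apply (a b : Fin (2 * m)) (hab : a ≠ b) (c : F) (i j : Fin (2 * m)) :
    ((rt a b hab c : GL (Fin (2 * m)) F) : Matrix (Fin (2 * m)) (Fin (2 * m)) F) i j
      = (if i = j then 1 else 0) + (if i = a ∧ j = b then c else 0)
        + (if b = a.rev then 0
            else if i = b.rev ∧ j = a.rev then -(eps m F a * eps m F b * c) else 0) := by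
  have h := rt_mulVec a b hab c (Pi.single j 1) i
  rw [Matrix.mulVec_single_one, Matrix.col_apply] at h
  rw [h]
  have e1 : (Pi.single j (1 : F) : Fin (2 * m) → F) i = if i = j then 1 else 0 := by rw [Pi.single_apply]
  have e2 : (if i = a then c * (Pi.single j (1 : F) : Fin (2 * m) → F) b else 0) = if i = a ∧ j = b then c else 0 := by
    rw [Pi.single_apply]
    by_cases h2 : i = a
    · by_cases h3 : b = j
      · rw [if_pos h2, if_pos h3, if_pos ⟨h2, h3.symm⟩, mul_one]
      · rw [if_pos h2, if_neg h3, if_neg (fun h' => h3 h'.2.symm), mul_zero]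
    · rw [if_neg h2, if_neg (fun h' => h2 h'.1)]
  have e3 : (if i = b.rev then -(eps m F a * eps m F b * c) * (Pi.single j (1 : F) : Fin (2 * m) → F) a.rev else 0)
      = if i = b.rev ∧ j = a.rev then -(eps m F a * eps m F b * c) else 0 := by
    rw [Pi.single_apply]
    by_cases h2 : i = b.rev
    · by_cases h3 : a.rev = j
      · rw [if_pos h2, if_pos h3, if_pos ⟨h2, h3.symm⟩, mul_one]
      · rw [if_pos h2, if_neg h3, if_neg (fun h' => h3 h'.2.symm), mul_zero]
    · rw [if_neg h2, if_neg (fun h' => h2 h'.1)]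
  rw [e1, e2, e3]

theorem rt_comm_of_disjoint (a b a₂ b₂ : Fin (2 * m)) (hab : a ≠ b) (hab₂ : a₂ ≠ b₂) (c d : F)
    (h1 : b ≠ a₂) (h2 : b ≠ b₂.rev) (h3 : a.rev ≠ a₂) (h4 : a ≠ b₂)
    (h5 : b₂ ≠ a) (h6 : b₂ ≠ b.rev) (h7 : a₂.rev ≠ a) (h8 : a₂ ≠ b) :
    rt a b hab c * rt a₂ b₂ hab₂ d = rt a₂ b₂ hab₂ d * rt a b hab c := by
  apply gl_ext_mulVec
  intro x i
  have h4' : a.rev ≠ b₂.rev := fun e => h4 (Fin.rev_injective e)
  have h8' : a₂.rev ≠ b.rev := fun e => h8 (Fin.rev_injective e)
  simp only [Units.val_mul, ← Matrix.mulVec_mulVec, rt_mulVec]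
  simp [h1, h2, h3, h4', h5, h6, h7, h8', h1.symm, h2.symm, h3.symm, h4'.symm, h5.symm, h6.symm, h7.symm, h8'.symm]
  ring

/-! ### symplectic embeddings -/

/-- an embedding of the coordinates compatible with the symplectic forms -/
structure SpEmb (e : Fin (2 * r) → Fin (2 * m)) : Prop where
  inj : Function.Injective e
  rev : ∀ i, e i.rev = (e i).rev
  lt : ∀ i, ((e i : ℕ) < m ↔ (i : ℕ) < r)

theorem SpEmb.eps {e : Fin (2 * r) → Fin (2 * m)} (h : SpEmb e) (i : Fin (2 * r)) :
    eps m F (e i) = eps r F i := by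
  unfold SpBN.eps
  by_cases hi : (i : ℕ) < r
  · rw [if_pos hi, if_pos ((h.lt i).2 hi)]
  · rw [if_neg hi, if_neg (fun h' => hi ((h.lt i).1 h'))]

theorem embGL_rt {e : Fin (2 * r) → Fin (2 * m)} (h : SpEmb e) (i j : Fin (2 * r)) (hij : i ≠ j)
    (c : F) : embGL e h.inj (rt i j hij c) = rt (e i) (e j) (fun h' => hij (h.inj h')) c := by
  unfold rt
  by_cases hj : j = i.rev
  · rw [if_pos hj, if_pos (by rw [hj, h.rev]), embGL_tv]
  · have hj' : e j ≠ (e i).rev := by
      intro h'
      rw [← h.rev] at h'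
      exact hj (h.inj h')
    rw [if_neg hj, if_neg hj']
    unfold Xr
    rw [map_mul, sigma_tv, sigma_tv, embGL_tv, embGL_tv]
    congr 1
    apply tv_congr' (h.rev j) (h.rev i)
    rw [h.eps, h.eps]

/-- the block embedding: the coordinates `i, …, i + r - 1` and the opposite ones -/
def eBlk (m r i : ℕ) (hir : i + r ≤ m) (j : Fin (2 * r)) : Fin (2 * m) :=
  ⟨if (j : ℕ) < r then i + j else 2 * m - 2 * r - i + j, by
    have := j.2
    split_ifs <;> omega⟩

theorem eBlk_val (m r i : ℕ) (hir : i + r ≤ m) (j : Fin (2 * r)) :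
    ((eBlk m r i hir j : Fin (2 * m)) : ℕ)
      = if (j : ℕ) < r then i + j else 2 * m - 2 * r - i + j := rfl

theorem spEmb_eBlk (m r i : ℕ) (hir : i + r ≤ m) : SpEmb (eBlk m r i hir) where
  inj := by
    intro j j' h
    have := congrArg Fin.val h
    rw [eBlk_val, eBlk_val] at this
    have h1 := j.2
    have h2 := j'.2
    apply Fin.ext
    split_ifs at this <;> omega
  rev := by
    intro j
    apply Fin.ext
    rw [Fin.val_rev, eBlk_val, eBlk_val, Fin.val_rev]
    have h1 := j.2
    split_ifs <;> omega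
  lt := by
    intro j
    rw [eBlk_val]
    have h1 := j.2
    split_ifs <;> omega

end Cfsg.Agent.Lib.Helper8.AutSp
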