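import Cfsg.Agent.Lib.Helper8.AutSp.Sp4
import Mathlib

/-!
# The commutator relation of two short fundamental roots, in `Sp₆(F)` (helper8)
-/

set_option autoImplicit false
set_option linter.unusedSimpArgs false
set_option linter.unnecessarySeqFocus false
set_option linter.unreachableTactic false
set_option linter.unusedTactic false

namespace Cfsg.Agent.Lib.Helper8.AutSp

open Matrix Cfsg Cfsg.Agent.Lib.Helper5.GLBN Cfsg.Agent.Lib.Helper8.SpBN
open scoped MatrixGroups

variable {F : Type*} [Field F]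

/-- the coordinates of `Sp₆` -/
def k0 : Fin (2 * 3) := ⟨0, by norm_num⟩
/-- the coordinates of `Sp₆` -/
def k1 : Fin (2 * 3) := ⟨1, by norm_num⟩
/-- the coordinates of `Sp₆` -/
def k2 : Fin (2 * 3) := ⟨2, by norm_num⟩

theorem k01 : k0 ≠ k1 := by decide
theorem k12 : k1 ≠ k2 := by decide
theorem k02 : k0 ≠ k2 := by decide

theorem sp6_comm (t u : F) :
    rt k0 k1 k01 t * rt k1 k2 k12 u
      = rt k0 k2 k02 (t * u) * rt k1 k2 k12 u * rt k0 k1 k01 t := by
  apply gl_ext_mulVec
  intro x i
  simp only [Units.val_mul, ← Matrix.mulVec_mulVec, rt_mulVec]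
  fin_cases i <;> simp [k0, k1, k2, SpBN.eps, Fin.rev, Fin.ext_iff] <;> ring

end Cfsg.Agent.Lib.Helper8.AutSp
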