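import Cfsg.Agent.Lib.Helper8.AutSp.BNFacts
import Cfsg.Agent.Lib.Helper8.AutSp.Sp6
import Mathlib

/-!
# The fundamental root subgroups of the symplectic group (helper8)
-/

set_option autoImplicit false
set_option linter.unusedSimpArgs false

namespace Cfsg.Agent.Lib.Helper8.AutSp

open Matrix Cfsg Cfsg.Agent.Lib.Helper5.GLBN Cfsg.Agent.Lib.Helper5.BN
open Cfsg.Agent.Lib.Helper5.AutBN Cfsg.Agent.Lib.Helper8.SpBN
open scoped MatrixGroups

variable {m : ℕ} {F : Type*} [Field F]

/-! ### general facts on root elements -/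

theorem rt_apply_diag (a b : Fin (2 * m)) (hab : a ≠ b) (c : F) (i : Fin (2 * m)) :
    ((rt a b hab c : GL (Fin (2 * m)) F) : Matrix (Fin (2 * m)) (Fin (2 * m)) F) i i = 1 := by
  rw [rt_apply, if_pos rfl, if_neg (fun h => hab (h.1.symm.trans h.2))]
  by_cases h : b = a.rev
  · rw [if_pos h, add_zero, add_zero]
  · rw [if_neg h, if_neg, add_zero, add_zero]
    rintro ⟨h1, h2⟩
    exact hab (Fin.rev_injective (h2.symm.trans h1))

theorem rt_apply_ne (a b : Fin (2 * m)) (hab : a ≠ b) (c : F) {i j : Fin (2 * m)} (hij : i ≠ j)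
    (h1 : ¬ (i = a ∧ j = b)) (h2 : ¬ (i = b.rev ∧ j = a.rev)) :
    ((rt a b hab c : GL (Fin (2 * m)) F) : Matrix (Fin (2 * m)) (Fin (2 * m)) F) i j = 0 := by
  rw [rt_apply, if_neg hij, if_neg h1, if_neg h2]
  simp

theorem rt_mem_UUH {a b : Fin (2 * m)} (h : a < b) (c : F) :
    rt a b (ne_of_lt h) c ∈ UUH (2 * m) F := by
  rw [mem_UUH, mem_upper]
  refine ⟨?_, rt_apply_diag _ _ _ _⟩
  intro i j hji
  apply rt_apply_ne _ _ _ _ (ne_of_gt hji)
  · rintro ⟨rfl, rfl⟩
    exact absurd h (not_lt.2 hji.le)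
  · rintro ⟨rfl, rfl⟩
    exact absurd (Fin.rev_lt_rev.2 h) (not_lt.2 hji.le)

theorem rt_lower {a b : Fin (2 * m)} (h : b < a) (c : F) :
    (∀ i j, i < j →
      ((rt a b (ne_of_gt h) c : GL (Fin (2 * m)) F) : Matrix (Fin (2 * m)) (Fin (2 * m)) F) i j = 0)
    ∧ ∀ i, ((rt a b (ne_of_gt h) c : GL (Fin (2 * m)) F)
      : Matrix (Fin (2 * m)) (Fin (2 * m)) F) i i = 1 := by
  refine ⟨?_, rt_apply_diag _ _ _ _⟩
  intro i j hij
  apply rt_apply_ne _ _ _ _ (ne_of_lt hij)
  · rintro ⟨rfl, rfl⟩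
    exact absurd h (not_lt.2 hij.le)
  · rintro ⟨rfl, rfl⟩
    exact absurd (Fin.rev_lt_rev.2 h) (not_lt.2 hij.le)

theorem rt_ne_one (a b : Fin (2 * m)) (hab : a ≠ b) {c : F} (hc : c ≠ 0) : rt a b hab c ≠ 1 := by
  intro h
  have := congrArg (fun g : GL (Fin (2 * m)) F =>
    (g : Matrix (Fin (2 * m)) (Fin (2 * m)) F) a b) h
  simp only [rt_apply_self, Units.val_one, Matrix.one_apply_ne hab] at this
  exact hc this

/-- the inverse transpose of a root element -/
theorem invT_rt (a b : Fin (2 * m)) (hab : a ≠ b) (c : F) :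
    invT (rt a b hab c) = rt b a hab.symm (-c) := by
  apply Units.ext
  rw [invT_coe, rt_inv]
  ext i j
  rw [Matrix.transpose_apply, rt_apply, rt_apply]
  have e1 : (j = i) = (i = j) := propext eq_comm
  have e2 : (j = a ∧ i = b) = (i = b ∧ j = a) := propext and_comm
  have e3 : (j = b.rev ∧ i = a.rev) = (i = a.rev ∧ j = b.rev) := propext and_comm
  have e4 : (b = a.rev) = (a = b.rev) := by
    apply propext
    constructor
    · intro h; rw [h, Fin.rev_rev]
    · intro h; rw [h, Fin.rev_rev]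
  simp only [e1, e2, e3, e4]
  congr 3
  ring

/-- a transvection which is symplectic but not along a pair `(a, rev a)` is trivial -/
theorem tv_mem_SpH_eq_zero {a b : Fin (2 * m)} (hab : a ≠ b) (hb : b ≠ a.rev) {s : F}
    (h : tv a b hab s ∈ SpH m F) : s = 0 := by
  have h1 := mem_SpH.1 h
  rw [sigma_tv] at h1
  have h2 : ((tv b.rev a.rev (fun h => hab (Fin.rev_injective h).symm)
        (-(eps m F a * eps m F b * s)) : GL (Fin (2 * m)) F)
        : Matrix (Fin (2 * m)) (Fin (2 * m)) F) a b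
      = ((tv a b hab s : GL (Fin (2 * m)) F) : Matrix (Fin (2 * m)) (Fin (2 * m)) F) a b := by
    rw [h1]
  have h3 : ¬ (b.rev = a ∧ a.rev = b) := by
    rintro ⟨h3, -⟩
    apply hb
    rw [← h3, Fin.rev_rev]
  rw [tv_coe, tv_coe, transvection_apply, transvection_apply, if_neg hab, if_neg h3,
    if_pos ⟨rfl, rfl⟩, zero_add, zero_add] at h2
  exact h2.symm

theorem invT_invT {n : ℕ} (g : GL (Fin n) F) : invT (invT g) = g := by
  have e : (invT g)⁻¹ = invT g⁻¹ := by
    rw [inv_eq_iff_mul_eq_one, ← invT_mul, mul_inv_cancel, invT_one]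
  apply Units.ext
  rw [invT_coe, e, invT_coe, inv_inv, Matrix.transpose_transpose]

/-! ### the fundamental root elements -/

/-- the first coordinate of the `i`-th fundamental root -/
def kk (i : Fin m) : Fin (2 * m) := ⟨i, by have := i.2; omega⟩

/-- the second coordinate of the `i`-th fundamental root -/
def kk' (i : Fin m) : Fin (2 * m) := ⟨i + 1, by have := i.2; omega⟩

theorem kk_val (i : Fin m) : ((kk i : Fin (2 * m)) : ℕ) = i := rfl

theorem kk'_val (i : Fin m) : ((kk' i : Fin (2 * m)) : ℕ) = i + 1 := rfl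

theorem kk_lt (i : Fin m) : kk i < kk' i := by
  rw [Fin.lt_def, kk_val, kk'_val]; omega

theorem kk_ne (i : Fin m) : kk i ≠ kk' i := ne_of_lt (kk_lt i)

theorem kk_rev_val (i : Fin m) : (((kk i).rev : Fin (2 * m)) : ℕ) = 2 * m - 1 - i := by
  rw [Fin.val_rev, kk_val]; omega

theorem kk'_rev_val (i : Fin m) : (((kk' i).rev : Fin (2 * m)) : ℕ) = 2 * m - 2 - i := by
  rw [Fin.val_rev, kk'_val]; omega

/-- the positive fundamental root elements -/
def xp (i : Fin m) (t : F) : ↥(SpH m F) := ⟨rt (kk i) (kk' i) (kk_ne i) t, rt_mem_SpH _ _ _ _⟩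

/-- the negative fundamental root elements -/
def xm (i : Fin m) (t : F) : ↥(SpH m F) :=
  ⟨rt (kk' i) (kk i) (kk_ne i).symm t, rt_mem_SpH _ _ _ _⟩

theorem xp_coe (i : Fin m) (t : F) :
    ((xp i t : ↥(SpH m F)) : GL (Fin (2 * m)) F) = rt (kk i) (kk' i) (kk_ne i) t := rfl

theorem xm_coe (i : Fin m) (t : F) :
    ((xm i t : ↥(SpH m F)) : GL (Fin (2 * m)) F) = rt (kk' i) (kk i) (kk_ne i).symm t := rfl

theorem xp_add (i : Fin m) (t u : F) : xp i t * xp i u = xp i (t + u) :=
  Subtype.ext (rt_add _ _ _ t u)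

theorem xm_add (i : Fin m) (t u : F) : xm i t * xm i u = xm i (t + u) :=
  Subtype.ext (rt_add _ _ _ t u)

theorem xp_zero (i : Fin m) : xp i (0 : F) = 1 := Subtype.ext (rt_zero _ _ _)

theorem xm_zero (i : Fin m) : xm i (0 : F) = 1 := Subtype.ext (rt_zero _ _ _)

theorem xp_inv (i : Fin m) (t : F) : (xp i t)⁻¹ = xp i (-t) := by
  rw [inv_eq_iff_mul_eq_one, xp_add, add_neg_cancel, xp_zero]

theorem xm_inv (i : Fin m) (t : F) : (xm i t)⁻¹ = xm i (-t) := by
  rw [inv_eq_iff_mul_eq_one, xm_add, add_neg_cancel, xm_zero]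

theorem xp_injective (i : Fin m) : Function.Injective (fun t : F => xp i t) := by
  intro t u h
  exact rt_injective _ _ _ (congrArg Subtype.val h)

theorem xm_injective (i : Fin m) : Function.Injective (fun t : F => xm i t) := by
  intro t u h
  exact rt_injective _ _ _ (congrArg Subtype.val h)

/-- the positive fundamental root subgroups -/
def Xp (i : Fin m) : Subgroup ↥(SpH m F) where
  carrier := {g | ∃ t : F, g = xp i t}
  one_mem' := ⟨0, (xp_zero i).symm⟩
  mul_mem' := by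
    rintro _ _ ⟨t, rfl⟩ ⟨u, rfl⟩
    exact ⟨t + u, xp_add i t u⟩
  inv_mem' := by
    rintro _ ⟨t, rfl⟩
    exact ⟨-t, xp_inv i t⟩

/-- the negative fundamental root subgroups -/
def Xm (i : Fin m) : Subgroup ↥(SpH m F) where
  carrier := {g | ∃ t : F, g = xm i t}
  one_mem' := ⟨0, (xm_zero i).symm⟩
  mul_mem' := by
    rintro _ _ ⟨t, rfl⟩ ⟨u, rfl⟩
    exact ⟨t + u, xm_add i t u⟩
  inv_mem' := by
    rintro _ ⟨t, rfl⟩
    exact ⟨-t, xm_inv i t⟩

theorem mem_Xp {i : Fin m} {g : ↥(SpH m F)} : g ∈ Xp i ↔ ∃ t : F, g = xp i t := Iff.rfl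

theorem mem_Xm {i : Fin m} {g : ↥(SpH m F)} : g ∈ Xm i ↔ ∃ t : F, g = xm i t := Iff.rfl

theorem xp_mem_UG [Finite F] (i : Fin m) (t : F) : xp i t ∈ UG m F := by
  rw [mem_UG_iff']
  exact rt_mem_UUH (kk_lt i) t

theorem xm_mem_VG [Finite F] (hm : 0 < m) (i : Fin m) (t : F) : xm i t ∈ VG hm := by
  rw [mem_VG_iff]
  exact rt_lower (kk_lt i) t

/-- the opposite root subgroups are conjugate under the longest element -/
theorem cj_w0_Xm [Finite F] (hm : 0 < m) (i : Fin m) : Xp (F := F) i = cj (w0 hm) (Xm i) := by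
  have key : ∀ g : ↥(SpH m F), (((w0 hm)⁻¹ * g * w0 hm : ↥(SpH m F)) : GL (Fin (2 * m)) F)
      = invT (g : GL (Fin (2 * m)) F) := by
    intro g
    rw [Subgroup.coe_mul, Subgroup.coe_mul, Subgroup.coe_inv, w0_coe, inv_inv]
    exact JG_conj_of_mem g.2
  ext g
  rw [mem_cj, mem_Xp, mem_Xm]
  constructor
  · rintro ⟨t, rfl⟩
    refine ⟨-t, Subtype.ext ?_⟩
    rw [key, xp_coe, xm_coe, invT_rt]
  · rintro ⟨t, ht⟩
    refine ⟨-t, Subtype.ext ?_⟩
    have h1 := congrArg Subtype.val ht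
    rw [key, xm_coe] at h1
    rw [← invT_invT (g : GL (Fin (2 * m)) F), h1, invT_rt, xp_coe]

/-- distinct fundamental root subgroups of opposite signs commute -/
theorem xp_xm_comm {i j : Fin m} (hij : i ≠ j) (t u : F) :
    xp i t * xm j u = xm j u * xp i t := by
  apply Subtype.ext
  rw [Subgroup.coe_mul, Subgroup.coe_mul, xp_coe, xm_coe]
  have hij' : (i : ℕ) ≠ j := fun h => hij (Fin.ext h)
  have hi := i.2
  have hj := j.2
  apply rt_comm_of_disjoint
  · intro h
    have := congrArg Fin.val h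
    rw [kk'_val, kk'_val] at this
    omega
  · intro h
    have := congrArg Fin.val h
    rw [kk_rev_val, kk'_val] at this
    omega
  · intro h
    have := congrArg Fin.val h
    rw [kk_rev_val, kk'_val] at this
    omega
  · intro h
    have := congrArg Fin.val h
    rw [kk_val, kk_val] at this
    omega
  · intro h
    have := congrArg Fin.val h
    rw [kk_val, kk_val] at this
    omega
  · intro h
    have := congrArg Fin.val h
    rw [kk'_rev_val, kk_val] at this
    omega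
  · intro h
    have := congrArg Fin.val h
    rw [kk'_rev_val, kk_val] at this
    omega
  · intro h
    have := congrArg Fin.val h
    rw [kk'_val, kk'_val] at this
    omega

end Cfsg.Agent.Lib.Helper8.AutSp
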