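import Cfsg.Agent.Lib.Helper8.AutSp.Root
import Mathlib

/-!
# Relations between the root elements of `Sp₄(F)` (helper8)
-/

set_option autoImplicit false
set_option linter.unusedSimpArgs false
set_option linter.unnecessarySeqFocus false
set_option linter.unreachableTactic false
set_option linter.unusedTactic false

namespace Cfsg.Agent.Lib.Helper8.AutSp

open Matrix Cfsg Cfsg.Agent.Lib.Helper5.GLBN Cfsg.Agent.Lib.Helper8.SpBN
open scoped MatrixGroups

variable {F : Type*} [Field F]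

/-- the coordinates of `Sp₄` -/
def j0 : Fin (2 * 2) := ⟨0, by norm_num⟩
/-- the coordinates of `Sp₄` -/
def j1 : Fin (2 * 2) := ⟨1, by norm_num⟩
/-- the coordinates of `Sp₄` -/
def j2 : Fin (2 * 2) := ⟨2, by norm_num⟩
/-- the coordinates of `Sp₄` -/
def j3 : Fin (2 * 2) := ⟨3, by norm_num⟩

theorem j01 : j0 ≠ j1 := by decide
theorem j10 : j1 ≠ j0 := by decide
theorem j12 : j1 ≠ j2 := by decide
theorem j21 : j2 ≠ j1 := by decide
theorem j02 : j0 ≠ j2 := by decide
theorem j20 : j2 ≠ j0 := by decide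
theorem j03 : j0 ≠ j3 := by decide
theorem j30 : j3 ≠ j0 := by decide

/-- the commutator of the two fundamental root elements -/
theorem sp4_comm (t u : F) :
    rt j0 j1 j01 t * rt j1 j2 j12 u
      = rt j0 j2 j02 (t * u) * rt j0 j3 j03 (t ^ 2 * u) * rt j1 j2 j12 u * rt j0 j1 j01 t := by
  apply gl_ext_mulVec
  intro x i
  simp only [Units.val_mul, ← Matrix.mulVec_mulVec, rt_mulVec]
  fin_cases i <;> simp [j0, j1, j2, j3, SpBN.eps, Fin.rev, Fin.ext_iff] <;> ring

theorem sp4_comm2 (s c : F) :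
    rt j0 j1 j01 s * rt j0 j2 j02 c
      = rt j0 j3 j03 (2 * s * c) * rt j0 j2 j02 c * rt j0 j1 j01 s := by
  apply gl_ext_mulVec
  intro x i
  simp only [Units.val_mul, ← Matrix.mulVec_mulVec, rt_mulVec]
  fin_cases i <;> simp [j0, j1, j2, j3, SpBN.eps, Fin.rev, Fin.ext_iff] <;> ring

theorem sp4_comm_b_ab (u c : F) :
    rt j1 j2 j12 u * rt j0 j2 j02 c = rt j0 j2 j02 c * rt j1 j2 j12 u := by
  apply gl_ext_mulVec
  intro x i
  simp only [Units.val_mul, ← Matrix.mulVec_mulVec, rt_mulVec]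
  fin_cases i <;> simp [j0, j1, j2, j3, SpBN.eps, Fin.rev, Fin.ext_iff] <;> ring

theorem sp4_comm_b_aab (u c : F) :
    rt j1 j2 j12 u * rt j0 j3 j03 c = rt j0 j3 j03 c * rt j1 j2 j12 u := by
  apply gl_ext_mulVec
  intro x i
  simp only [Units.val_mul, ← Matrix.mulVec_mulVec, rt_mulVec]
  fin_cases i <;> simp [j0, j1, j2, j3, SpBN.eps, Fin.rev, Fin.ext_iff] <;> ring

theorem sp4_comm_a_aab (s c : F) :
    rt j0 j1 j01 s * rt j0 j3 j03 c = rt j0 j3 j03 c * rt j0 j1 j01 s := by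
  apply gl_ext_mulVec
  intro x i
  simp only [Units.val_mul, ← Matrix.mulVec_mulVec, rt_mulVec]
  fin_cases i <;> simp [j0, j1, j2, j3, SpBN.eps, Fin.rev, Fin.ext_iff] <;> ring

theorem sp4_comm_ab_aab (s c : F) :
    rt j0 j2 j02 s * rt j0 j3 j03 c = rt j0 j3 j03 c * rt j0 j2 j02 s := by
  apply gl_ext_mulVec
  intro x i
  simp only [Units.val_mul, ← Matrix.mulVec_mulVec, rt_mulVec]
  fin_cases i <;> simp [j0, j1, j2, j3, SpBN.eps, Fin.rev, Fin.ext_iff] <;> ring

/-- the Weyl element of the short fundamental root -/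
def nuA (t : F) : GL (Fin (2 * 2)) F := rt j0 j1 j01 t * rt j1 j0 j10 (-(1 / t)) * rt j0 j1 j01 t

/-- the Weyl element of the long fundamental root -/
def nuB (t : F) : GL (Fin (2 * 2)) F := rt j1 j2 j12 t * rt j2 j1 j21 (-(1 / t)) * rt j1 j2 j12 t

theorem sp4_nuA_a (t s : F) (ht : t ≠ 0) :
    nuA t * rt j0 j1 j01 s = rt j1 j0 j10 (-(s / t ^ 2)) * nuA t := by
  unfold nuA
  apply gl_ext_mulVec
  intro x i
  simp only [Units.val_mul, ← Matrix.mulVec_mulVec, rt_mulVec]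
  fin_cases i <;> simp [j0, j1, j2, j3, SpBN.eps, Fin.rev, Fin.ext_iff] <;> field_simp <;> ring

theorem sp4_nuB_b (t s : F) (ht : t ≠ 0) :
    nuB t * rt j1 j2 j12 s = rt j2 j1 j21 (-(s / t ^ 2)) * nuB t := by
  unfold nuB
  apply gl_ext_mulVec
  intro x i
  simp only [Units.val_mul, ← Matrix.mulVec_mulVec, rt_mulVec]
  fin_cases i <;> simp [j0, j1, j2, j3, SpBN.eps, Fin.rev, Fin.ext_iff] <;> field_simp <;> ring

theorem sp4_nuA_b (u : F) :
    nuA 1 * rt j1 j2 j12 u = rt j0 j3 j03 u * nuA 1 := by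
  unfold nuA
  apply gl_ext_mulVec
  intro x i
  simp only [Units.val_mul, ← Matrix.mulVec_mulVec, rt_mulVec]
  fin_cases i <;> simp [j0, j1, j2, j3, SpBN.eps, Fin.rev, Fin.ext_iff] <;> ring

theorem sp4_nuB_a (t : F) :
    nuB 1 * rt j0 j1 j01 t = rt j0 j2 j02 (-t) * nuB 1 := by
  unfold nuB
  apply gl_ext_mulVec
  intro x i
  simp only [Units.val_mul, ← Matrix.mulVec_mulVec, rt_mulVec]
  fin_cases i <;> simp [j0, j1, j2, j3, SpBN.eps, Fin.rev, Fin.ext_iff] <;> ring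

theorem sp4_nuB_ma (v : F) :
    nuB 1 * rt j1 j0 j10 v = rt j2 j0 j20 (-v) * nuB 1 := by
  unfold nuB
  apply gl_ext_mulVec
  intro x i
  simp only [Units.val_mul, ← Matrix.mulVec_mulVec, rt_mulVec]
  fin_cases i <;> simp [j0, j1, j2, j3, SpBN.eps, Fin.rev, Fin.ext_iff] <;> ring

theorem sp4_nuA_mb (w : F) :
    nuA 1 * rt j2 j1 j21 w = rt j3 j0 j30 w * nuA 1 := by
  unfold nuA
  apply gl_ext_mulVec
  intro x i
  simp only [Units.val_mul, ← Matrix.mulVec_mulVec, rt_mulVec]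
  fin_cases i <;> simp [j0, j1, j2, j3, SpBN.eps, Fin.rev, Fin.ext_iff] <;> ring

/-- the rank one criterion for the short fundamental root -/
theorem sp4_rank1_a (t v w ζ : F) (hζ : ζ = 1 ∨ ζ = -1)
    (h : ∀ a b, ((rt j0 j1 j01 t * rt j1 j0 j10 v * rt j0 j1 j01 t * rt j0 j1 j01 1
        : GL (Fin (2 * 2)) F) : Matrix (Fin (2 * 2)) (Fin (2 * 2)) F) a b
      = ζ * ((rt j1 j0 j10 w * (rt j0 j1 j01 t * rt j1 j0 j10 v * rt j0 j1 j01 t)
        : GL (Fin (2 * 2)) F) : Matrix (Fin (2 * 2)) (Fin (2 * 2)) F) a b) :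
    1 + t * v = 0 := by
  have h00 := mulVec_eq_of_apply ζ h (Pi.single j0 1) j0
  have h01 := mulVec_eq_of_apply ζ h (Pi.single j1 1) j0
  simp only [Units.val_mul, ← Matrix.mulVec_mulVec, rt_mulVec] at h00 h01
  simp [j0, j1, j2, j3, SpBN.eps, Fin.rev, Fin.ext_iff, Pi.single_apply] at h00 h01
  rcases hζ with rfl | rfl
  · linear_combination h01
  · by_cases h2 : (2 : F) = 0
    · linear_combination h01 - (2 * t + t ^ 2 * v) * h2
    · have : (2 : F) * (1 + t * v) = 0 := by linear_combination h00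
      exact (mul_eq_zero.1 this).resolve_left h2

/-- the rank one criterion for the long fundamental root -/
theorem sp4_rank1_b (t v w ζ : F) (hζ : ζ = 1 ∨ ζ = -1)
    (h : ∀ a b, ((rt j1 j2 j12 t * rt j2 j1 j21 v * rt j1 j2 j12 t * rt j1 j2 j12 1
        : GL (Fin (2 * 2)) F) : Matrix (Fin (2 * 2)) (Fin (2 * 2)) F) a b
      = ζ * ((rt j2 j1 j21 w * (rt j1 j2 j12 t * rt j2 j1 j21 v * rt j1 j2 j12 t)
        : GL (Fin (2 * 2)) F) : Matrix (Fin (2 * 2)) (Fin (2 * 2)) F) a b) :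
    1 + t * v = 0 := by
  have h00 := mulVec_eq_of_apply ζ h (Pi.single j1 1) j1
  have h01 := mulVec_eq_of_apply ζ h (Pi.single j2 1) j1
  simp only [Units.val_mul, ← Matrix.mulVec_mulVec, rt_mulVec] at h00 h01
  simp [j0, j1, j2, j3, SpBN.eps, Fin.rev, Fin.ext_iff, Pi.single_apply] at h00 h01
  rcases hζ with rfl | rfl
  · linear_combination h01
  · by_cases h2 : (2 : F) = 0
    · linear_combination h01 - (2 * t + t ^ 2 * v) * h2
    · have : (2 : F) * (1 + t * v) = 0 := by linear_combination h00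
      exact (mul_eq_zero.1 this).resolve_left h2

/-- the opposite short fundamental root elements do not commute modulo the centre -/
theorem sp4_ncomm_a (ζ : F)
    (h : ∀ a b, ((rt j0 j1 j01 1 * rt j1 j0 j10 1
        : GL (Fin (2 * 2)) F) : Matrix (Fin (2 * 2)) (Fin (2 * 2)) F) a b
      = ζ * ((rt j1 j0 j10 1 * rt j0 j1 j01 1
        : GL (Fin (2 * 2)) F) : Matrix (Fin (2 * 2)) (Fin (2 * 2)) F) a b) : False := by
  have h00 := mulVec_eq_of_apply ζ h (Pi.single j0 1) j0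
  have h01 := mulVec_eq_of_apply ζ h (Pi.single j1 1) j0
  simp only [Units.val_mul, ← Matrix.mulVec_mulVec, rt_mulVec] at h00 h01
  simp [j0, j1, j2, j3, SpBN.eps, Fin.rev, Fin.ext_iff, Pi.single_apply] at h00 h01
  rw [← h01] at h00
  have : (1 : F) = 0 := by linear_combination h00
  exact one_ne_zero this

/-- the opposite long fundamental root elements do not commute modulo the centre -/
theorem sp4_ncomm_b (ζ : F)
    (h : ∀ a b, ((rt j1 j2 j12 1 * rt j2 j1 j21 1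
        : GL (Fin (2 * 2)) F) : Matrix (Fin (2 * 2)) (Fin (2 * 2)) F) a b
      = ζ * ((rt j2 j1 j21 1 * rt j1 j2 j12 1
        : GL (Fin (2 * 2)) F) : Matrix (Fin (2 * 2)) (Fin (2 * 2)) F) a b) : False := by
  have h00 := mulVec_eq_of_apply ζ h (Pi.single j1 1) j1
  have h01 := mulVec_eq_of_apply ζ h (Pi.single j2 1) j1
  simp only [Units.val_mul, ← Matrix.mulVec_mulVec, rt_mulVec] at h00 h01
  simp [j0, j1, j2, j3, SpBN.eps, Fin.rev, Fin.ext_iff, Pi.single_apply] at h00 h01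
  rw [← h01] at h00
  have : (1 : F) = 0 := by linear_combination h00
  exact one_ne_zero this

end Cfsg.Agent.Lib.Helper8.AutSp
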